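import Groth.Prelude.Def_OmegaPn
import Groth.Agent.QCohLib.Push
import Groth.Agent.PullbackMod.Props
import Groth.Agent.DevLib.Closed
import Groth.Agent.FinLocFreeLib.PushFP
import Groth.Agent.S4613
import Groth.Agent.S4599
import Mathlib

/-!
The left projection of an infinitesimal neighbourhood of the diagonal is affine, finite when the
morphism is locally of finite type, and locally of finite presentation along with it.
-/

set_option autoImplicit false

universe u

open CategoryTheory CategoryTheory.Limits AlgebraicGeometry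

namespace Groth.Agent.EtAlgEasy.PrinPartPush

variable {X S : Scheme.{u}} (f : X ⟶ S) (n : ℕ)

theorem toNbhd_surjective : Function.Surjective (PrinPart.toNbhd f n) :=
  PrinPart.toInfNbhd_surjective _ n

theorem toNbhd_pr1_apply (x : X) : PrinPart.pr1 f n (PrinPart.toNbhd f n x) = x := by
  rw [← Scheme.Hom.comp_apply, PrinPart.toNbhd_pr1]; rfl

instance universallyClosed_pr1 : UniversallyClosed (PrinPart.pr1 f n) := by
  haveI : Surjective (PrinPart.toNbhd f n) := ⟨toNbhd_surjective f n⟩
  haveI : UniversallyClosed (PrinPart.toNbhd f n ≫ PrinPart.pr1 f n) := by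
    rw [PrinPart.toNbhd_pr1]; infer_instance
  exact UniversallyClosed.of_comp_surjective (PrinPart.toNbhd f n) _

theorem isInducing_pr1 : Topology.IsInducing (PrinPart.pr1 f n) := by
  refine Topology.IsInducing.of_comp (PrinPart.pr1 f n).continuous (PrinPart.toNbhd f n).continuous ?_
  have : (⇑(PrinPart.toNbhd f n) ∘ ⇑(PrinPart.pr1 f n)) = id := by
    funext z
    obtain ⟨x, rfl⟩ := toNbhd_surjective f n z
    show PrinPart.toNbhd f n (PrinPart.pr1 f n _) = _
    rw [toNbhd_pr1_apply]; rfl
  rw [this]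
  exact Topology.IsInducing.id

instance isAffineHom_pr1 : IsAffineHom (PrinPart.pr1 f n) :=
  isAffineHom_of_isInducing _ (isInducing_pr1 f n) (PrinPart.pr1 f n).isClosedMap.isClosed_range

theorem isQCoh_PMod (F : X.Modules) (hF : Coh.IsQCoh F) : Coh.IsQCoh (PrinPart.PMod f n F) := by
  haveI := hF
  haveI := PullbackMod.isQCoh_pullback (PrinPart.pr2 f n) F
  exact QCohLib.isQCoh_pushforward ((Scheme.Modules.pullback (PrinPart.pr2 f n)).obj F) (PrinPart.pr1 f n)

theorem locallyOfFiniteType_pr1 [LocallyOfFiniteType f] : LocallyOfFiniteType (PrinPart.pr1 f n) := by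
  unfold PrinPart.pr1 PrinPart.nbhdι PrinPart.infNbhdι
  infer_instance

theorem isFinite_pr1 [LocallyOfFiniteType f] : IsFinite (PrinPart.pr1 f n) := by
  haveI := locallyOfFiniteType_pr1 f n
  rw [IsFinite.iff_isIntegralHom_and_locallyOfFiniteType, IsIntegralHom.iff_universallyClosed_and_isAffineHom]
  exact ⟨⟨inferInstance, inferInstance⟩, inferInstance⟩

theorem isCoh_pushforward_finite {Y Z : Scheme.{u}} (i : Z ⟶ Y) [IsFinite i] {M : Z.Modules}
    (hM : Coh.IsCoh M) : Coh.IsCoh ((Scheme.Modules.pushforward i).obj M) := by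
  haveI := hM.1
  haveI : Coh.IsQCoh ((Scheme.Modules.pushforward i).obj M) := QCohLib.isQCoh_pushforward M i
  refine QCohLib.isCoh_of_finite _ fun W hW => ?_
  haveI := QCohLib.finite_sections_of_isCoh hM (hW.preimage i)
  letI : Algebra Γ(Y, W) Γ(Z, i ⁻¹ᵁ W) := (i.app W).hom.toAlgebra
  letI : Module Γ(Y, W) Γ(M, i ⁻¹ᵁ W) := Module.compHom _ (i.app W).hom
  haveI : IsScalarTower Γ(Y, W) Γ(Z, i ⁻¹ᵁ W) Γ(M, i ⁻¹ᵁ W) := .of_algebraMap_smul fun _ _ => rfl
  haveI : Module.Finite Γ(Y, W) Γ(Z, i ⁻¹ᵁ W) := IsFinite.finite_app i W hW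
  exact (Module.Finite.trans Γ(Z, i ⁻¹ᵁ W) Γ(M, i ⁻¹ᵁ W) : Module.Finite Γ(Y, W) Γ(M, i ⁻¹ᵁ W))

theorem isCoh_PMod [LocallyOfFiniteType f] (F : X.Modules) (hF : Coh.IsCoh F) :
    Coh.IsCoh (PrinPart.PMod f n F) := by
  haveI := isFinite_pr1 f n
  exact isCoh_pushforward_finite (PrinPart.pr1 f n) (PullbackMod.isCoh_pullback _ F hF)

theorem locallyOfFinitePresentation_diagonal [LocallyOfFinitePresentation f] :
    LocallyOfFinitePresentation (pullback.diagonal f) :=
  Groth.Agent.S4599.result f

theorem locallyOfFinitePresentation_pr1 [LocallyOfFinitePresentation f] :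
    LocallyOfFinitePresentation (PrinPart.pr1 f n) := by
  set i := PrinPart.diagCl f
  set j := (pullback.diagonal f).coborderRange.ι
  haveI : LocallyOfFinitePresentation (i ≫ j) := by
    show LocallyOfFinitePresentation ((pullback.diagonal f).liftCoborder ≫ _)
    rw [Scheme.Hom.liftCoborder_ι]
    exact locallyOfFinitePresentation_diagonal f
  haveI : LocallyOfFinitePresentation i := by
    have sq : IsPullback (pullback.fst (i ≫ j) j) (pullback.snd (i ≫ j) j) (i ≫ j) j :=
      IsPullback.of_hasPullback _ _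
    have hmono : IsPullback (𝟙 X) i (i ≫ j) j := by
      refine ⟨⟨by simp⟩, ⟨PullbackCone.IsLimit.mk _ (fun s => s.fst) (fun s => by simp) (fun s => ?_) (fun s m h1 _ => by simpa using h1)⟩⟩
      rw [← cancel_mono j, Category.assoc]
      exact s.condition
    exact MorphismProperty.of_isPullback (P := @LocallyOfFinitePresentation) hmono inferInstance
  haveI : LocallyOfFinitePresentation (i.ker ^ (n + 1)).subschemeι := by
    rw [Groth.Agent.S4613.result]
    intro U
    rw [Scheme.IdealSheafData.ker_subschemeι_app, Scheme.IdealSheafData.ideal_pow]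
    refine Ideal.FG.pow ?_
    rw [Scheme.Hom.ker_apply]
    exact (Groth.Agent.S4613.result i).1 inferInstance U
  unfold PrinPart.pr1 PrinPart.nbhdι PrinPart.infNbhdι
  infer_instance

theorem isFP_PMod [LocallyOfFinitePresentation f] (F : X.Modules) (hF : CohB1.IsFP F) :
    CohB1.IsFP (PrinPart.PMod f n F) := by
  haveI := isFinite_pr1 f n
  haveI := locallyOfFinitePresentation_pr1 f n
  haveI : SheafOfModules.IsFinitePresentation.{u} F := hF
  haveI : Coh.IsQCoh F := inferInstance
  haveI := PullbackMod.isQCoh_pullback (PrinPart.pr2 f n) F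
  exact (FinLocFreeLib.isFP_push_iff (PrinPart.pr1 f n) _).1 (PullbackMod.isFP_pullback _ F hF)

end Groth.Agent.EtAlgEasy.PrinPartPush
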