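import Groth.Agent.EtAlgEasy.OmegaSmooth2
import Groth.Agent.PullbackMod.LimFree
import Mathlib

/-!
Rank of the conormal sheaf of an immersion between smooth schemes.
-/

set_option autoImplicit false
set_option backward.isDefEq.respectTransparency false
set_option backward.defeqAttrib.useBackward true
set_option linter.style.haveILetI false

universe u

open CategoryTheory CategoryTheory.Limits AlgebraicGeometry TopologicalSpace Opposite
open scoped TensorProduct

namespace Groth.Agent.EtAlgEasy.OmegaSmooth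

variable {X Y : Scheme.{u}} (f : X ⟶ Y)

theorem fibreDimAt_of_std {V : Y.Opens} {U : X.Opens} (hV : IsAffineOpen V) (hU : IsAffineOpen U)
    (e : U ≤ f ⁻¹ᵁ V) [LocallyOfFiniteType f] (n : ℕ)
    (h : (f.appLE V U e).hom.IsStandardSmoothOfRelativeDimension n) {x : X} (hx : x ∈ U) :
    FlatMor.fibreDimAt f x = (n : WithBot ℕ∞) := by
  haveI : SmoothOfRelativeDimension n (Spec.map (f.appLE V U e)) :=
    (HasRingHomProperty.Spec_iff (P := @SmoothOfRelativeDimension n)).mpr
      (RingHom.locally_of RingHom.isStandardSmoothOfRelativeDimension_respectsIso _ h)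
  haveI : SmoothOfRelativeDimension n (hU.fromSpec ≫ f) := by
    rw [← IsAffineOpen.SpecMap_appLE_fromSpec f hV hU e]
    have : SmoothOfRelativeDimension (n + 0) (Spec.map (f.appLE V U e) ≫ hV.fromSpec) := inferInstance
    simpa using this
  obtain ⟨w, rfl⟩ : x ∈ Set.range hU.fromSpec := by rw [IsAffineOpen.range_fromSpec]; exact hx
  rw [FibreDimEt.fibreDimAt_eq_of_etale f (hU.fromSpec ≫ f) hU.fromSpec (𝟙 Y) (Category.comp_id _) w]
  exact S2768.result n (hU.fromSpec ≫ f) w

theorem std_basicOpen {V : Y.Opens} {U : X.Opens} (hU : IsAffineOpen U) (e : U ≤ f ⁻¹ᵁ V) (n : ℕ)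
    (h : (f.appLE V U e).hom.IsStandardSmoothOfRelativeDimension n) (g : Γ(X, U)) :
    (f.appLE V (X.basicOpen g) ((X.basicOpen_le g).trans e)).hom.IsStandardSmoothOfRelativeDimension n := by
  letI : Algebra Γ(X, U) Γ(X, X.basicOpen g) := (X.presheaf.map (homOfLE (X.basicOpen_le g)).op).hom.toAlgebra
  haveI := hU.isLocalization_basicOpen g
  have h0 : (X.presheaf.map (homOfLE (X.basicOpen_le g)).op).hom.IsStandardSmoothOfRelativeDimension 0 :=
    RingHom.IsStandardSmoothOfRelativeDimension.algebraMap_isLocalizationAway g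
  have := RingHom.IsStandardSmoothOfRelativeDimension.comp h0 h
  rwa [zero_add, ← CommRingCat.hom_comp, Scheme.Hom.appLE_map] at this

theorem exists_std [Smooth f] {V : Y.Opens} {W : X.Opens} (hV : IsAffineOpen V) (hW : IsAffineOpen W)
    (e : W ≤ f ⁻¹ᵁ V) {x : X} (hx : x ∈ W) :
    ∃ (g : Γ(X, W)) (n : ℕ), x ∈ X.basicOpen g ∧
      (f.appLE V (X.basicOpen g) ((X.basicOpen_le g).trans e)).hom.IsStandardSmoothOfRelativeDimension n := by
  obtain ⟨s, hs, h⟩ := (f.smooth_appLE hV hW e).locally_isStandardSmooth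
  obtain ⟨t, ht, htp⟩ : ∃ t ∈ s, t ∉ (hW.primeIdealOf ⟨x, hx⟩).asIdeal := by
    by_contra hcon
    push Not at hcon
    exact (hW.primeIdealOf ⟨x, hx⟩).isPrime.ne_top (eq_top_iff.2 (hs ▸ Ideal.span_le.2 hcon))
  have hxt : x ∈ X.basicOpen t := by
    have h := SetLike.ext_iff.mp (hW.fromSpec_preimage_basicOpen t) (hW.primeIdealOf ⟨x, hx⟩)
    rw [Scheme.Hom.mem_preimage, hW.fromSpec_primeIdealOf] at h
    exact h.mpr htp
  letI : Algebra Γ(X, W) Γ(X, X.basicOpen t) := (X.presheaf.map (homOfLE (X.basicOpen_le t)).op).hom.toAlgebra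
  haveI := hW.isLocalization_basicOpen t
  let ε := IsLocalization.algEquiv (Submonoid.powers t) (Localization.Away t) Γ(X, X.basicOpen t)
  have h1 : (f.appLE V (X.basicOpen t) ((X.basicOpen_le t).trans e)).hom.IsStandardSmooth := by
    have := RingHom.isStandardSmooth_respectsIso.1 _ ε.toRingEquiv (h t ht)
    convert this using 1
    rw [← Scheme.Hom.appLE_map f e (homOfLE (X.basicOpen_le t)).op, CommRingCat.hom_comp, ← RingHom.comp_assoc]
    congr 1
    exact (AlgHom.comp_algebraMap ε.toAlgHom).symm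
  algebraize [(f.appLE V (X.basicOpen t) ((X.basicOpen_le t).trans e)).hom]
  obtain ⟨ι, σ, _, _, ⟨P⟩⟩ := (‹Algebra.IsStandardSmooth Γ(Y, V) Γ(X, X.basicOpen t)›).out
  exact ⟨t, P.dimension, hxt, Algebra.IsStandardSmoothOfRelativeDimension.mk ⟨ι, σ, inferInstance, inferInstance, P, rfl⟩⟩

/-- The rank of the differentials in an exact sequence with free middle and end. -/
theorem exists_section_ranks {C M : Type u} [CommRing C] [Nontrivial C] [AddCommGroup M] [Module C M]
    {P Q : Type u} [AddCommGroup P] [Module C P] [AddCommGroup Q] [Module C Q] [Module.Projective C P]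
    [Module.Finite C P] [Module.Free C Q] [Module.Finite C Q]
    (i : M →ₗ[C] P) (q : P →ₗ[C] Q) (hi : Function.Injective i) (he : Function.Exact i q) (hq : Function.Surjective q) :
    Module.Finite C M ∧ Module.Projective C M ∧ Nonempty (P ≃ₗ[C] M × Q) := by
  obtain ⟨l, hl⟩ := Module.projective_lifting_property q LinearMap.id hq
  obtain ⟨e, h1, h2⟩ := he.splitSurjectiveEquiv hi ⟨l, hl⟩
  refine ⟨Module.Finite.of_surjective ((LinearMap.fst C M Q).comp e.toLinearMap)
    ((Prod.fst_surjective).comp e.surjective), Module.Projective.of_split (i) ((LinearMap.fst C M Q).comp e.toLinearMap) ?_, ⟨e⟩⟩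
  refine LinearMap.ext fun m => ?_
  show (e (i m)).1 = m
  rw [show i m = e.symm (m, 0) by rw [h1]; rfl, LinearEquiv.apply_symm_apply]

theorem exists_chart_conormal {X' : Scheme.{u}} [Smooth f] (j : X' ⟶ X) [IsImmersion j] [QuasiCompact j]
    [Smooth (j ≫ f)] (x : X') :
    ∃ (U : X'.Opens) (a b : ℕ), IsAffineOpen U ∧ x ∈ U ∧
      Module.Finite Γ(X', U) Γ(Omega.conormal j, U) ∧ Module.Projective Γ(X', U) Γ(Omega.conormal j, U) ∧
      Nonempty ((Γ(Omega.conormal j, U) × (Fin b → Γ(X', U))) ≃ₗ[Γ(X', U)] (Fin a → Γ(X', U))) ∧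
      FlatMor.fibreDimAt f (j x) = (a : WithBot ℕ∞) ∧ FlatMor.fibreDimAt (j ≫ f) x = (b : WithBot ℕ∞) := by
  obtain ⟨_, ⟨V, hV, rfl⟩, hxV, -⟩ :=
    Y.isBasis_affineOpens.exists_subset_of_mem_open (Set.mem_univ (f (j x))) isOpen_univ
  obtain ⟨_, ⟨W₀, hW₀, rfl⟩, hxW₀, hW₀V⟩ :=
    X.isBasis_affineOpens.exists_subset_of_mem_open (a := j x) hxV (f ⁻¹ᵁ V).2
  have e₀ : W₀ ≤ f ⁻¹ᵁ V := hW₀V
  obtain ⟨g₀, a, hg₀, hstd₀⟩ := exists_std f hV hW₀ e₀ hxW₀
  obtain ⟨W₁, hW₁, hxW₁, hW₁le, -, hb⟩ :=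
    ConormalLib.exists_chart j x (V := ⊤) trivial (O := X.basicOpen g₀) hg₀
  obtain ⟨g₁, hg₁le, hg₁⟩ := (hW₀.basicOpen g₀).exists_basicOpen_le (V := W₁) ⟨j x, hxW₁⟩ hg₀
  have e₂ : X.basicOpen g₁ ≤ f ⁻¹ᵁ V := (X.basicOpen_le g₁).trans ((X.basicOpen_le g₀).trans e₀)
  have hW₂ : IsAffineOpen (X.basicOpen g₁) := (hW₀.basicOpen g₀).basicOpen g₁
  have hstd₂ : (f.appLE V (X.basicOpen g₁) e₂).hom.IsStandardSmoothOfRelativeDimension a :=
    std_basicOpen f (hW₀.basicOpen g₀) _ a hstd₀ g₁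
  obtain ⟨hU₂, hs₂⟩ := ConormalLib.chart_of_le j hW₂ (hg₁le.trans hb)
  obtain ⟨h, b, hxh, hstdh⟩ := exists_std (j ≫ f) hV hU₂ (OmegaSeq.le_comp j f e₂ le_rfl) hg₁
  obtain ⟨h', rfl⟩ := hs₂ h
  let W := X.basicOpen h'
  have eW : W ≤ f ⁻¹ᵁ V := (X.basicOpen_le h').trans e₂
  have hW : IsAffineOpen W := hW₂.basicOpen h'
  have hstdW : (f.appLE V W eW).hom.IsStandardSmoothOfRelativeDimension a := std_basicOpen f hW₂ e₂ a hstd₂ h'
  obtain ⟨hU, hs⟩ := ConormalLib.chart_of_le j hW ((X.basicOpen_le h').trans (hg₁le.trans hb))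
  let U := j ⁻¹ᵁ W
  have hUh : X'.basicOpen (j.app (X.basicOpen g₁) h') = U := (Scheme.preimage_basicOpen j h').symm
  have hxU : x ∈ U := hUh ▸ hxh
  have hstdU : ((j ≫ f).appLE V U (OmegaSeq.le_comp j f eW le_rfl)).hom.IsStandardSmoothOfRelativeDimension b := by
    have : ∀ (O : X'.Opens) (e : O ≤ (j ≫ f) ⁻¹ᵁ V), X'.basicOpen (j.app (X.basicOpen g₁) h') = O →
        ((j ≫ f).appLE V O e).hom.IsStandardSmoothOfRelativeDimension b := by
      rintro _ e rfl
      exact hstdh
    exact this _ _ hUh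
  refine ⟨U, a, b, hU, hxU, ?_⟩
  let A := Γ(Y, V); let B := Γ(X, W); let C := Γ(X', U)
  letI : Algebra A B := (f.appLE V W eW).hom.toAlgebra
  letI : Algebra A C := ((j ≫ f).appLE V U (OmegaSeq.le_comp j f eW le_rfl)).hom.toAlgebra
  letI : Algebra B C := (j.appLE W U le_rfl).hom.toAlgebra
  haveI : IsScalarTower A B C := .of_algebraMap_eq' (by
    show ((j ≫ f).appLE V U (OmegaSeq.le_comp j f eW le_rfl)).hom = (f.appLE V W eW ≫ j.appLE W U le_rfl).hom
    rw [Scheme.Hom.appLE_comp_appLE])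
  haveI : Algebra.IsStandardSmoothOfRelativeDimension a A B := hstdW
  haveI : Algebra.IsStandardSmoothOfRelativeDimension b A C := hstdU
  haveI : Algebra.IsStandardSmooth A B := Algebra.IsStandardSmoothOfRelativeDimension.isStandardSmooth a
  haveI : Algebra.IsStandardSmooth A C := Algebra.IsStandardSmoothOfRelativeDimension.isStandardSmooth b
  haveI : Nontrivial C := (X'.presheaf.germ U x hxU).hom.domain_nontrivial
  haveI : Nontrivial B := (algebraMap B C).domain_nontrivial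
  let EB : Ω[B⁄A] ≃ₗ[B] (Fin a → B) := (Module.finBasisOfFinrankEq B Ω[B⁄A]
    (Module.finrank_eq_of_rank_eq (Algebra.IsStandardSmoothOfRelativeDimension.rank_kaehlerDifferential a))).equivFun
  let EC : Ω[C⁄A] ≃ₗ[C] (Fin b → C) := (Module.finBasisOfFinrankEq C Ω[C⁄A]
    (Module.finrank_eq_of_rank_eq (Algebra.IsStandardSmoothOfRelativeDimension.rank_kaehlerDifferential b))).equivFun
  have hsurj : Function.Surjective (algebraMap B C) := by
    show Function.Surjective (j.appLE W (j ⁻¹ᵁ W) le_rfl)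
    rw [← Scheme.Hom.app_eq_appLE]
    exact hs
  have hker : RingHom.ker (algebraMap B C) = RingHom.ker (j.app W).hom := by
    show RingHom.ker (j.appLE W (j ⁻¹ᵁ W) le_rfl).hom = _
    rw [← Scheme.Hom.app_eq_appLE]
  let I := ClSub.idealMod j.ker
  haveI := OmegaAffLib.isQCoh_idealMod j.ker
  have hmem : ∀ s : Γ(I, W), OmegaSh.idealSect j.ker W s ∈ RingHom.ker (algebraMap B C) := fun s =>
    hker ▸ ConormalLib.app_idealSect j W s
  let κ₀ : Γ(I, W) →ₗ[B] C ⊗[B] Ω[B⁄A] :=
    { toFun := fun s => 1 ⊗ₜ KaehlerDifferential.D A B (OmegaSh.idealSect j.ker W s)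
      map_add' := fun s t => by simp [OmegaSh.idealSect, TensorProduct.tmul_add]
      map_smul' := fun r s => by
        rw [OmegaAffLib.idealSect_smul, Derivation.leibniz, TensorProduct.tmul_add, TensorProduct.tmul_smul,
          TensorProduct.tmul_smul, RingHom.id_apply]
        rw [← algebraMap_smul C (OmegaSh.idealSect j.ker W s) (1 ⊗ₜ KaehlerDifferential.D A B r), hmem s,
          zero_smul, add_zero] }
  letI : Module B Γ((Scheme.Modules.pullback j).obj I, U) := Module.compHom _ (j.appLE W U le_rfl).hom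
  haveI : IsScalarTower B C Γ((Scheme.Modules.pullback j).obj I, U) := .of_algebraMap_smul fun _ _ => rfl
  have hbc := PullbackMod.isBaseChange_pullMapL j I hW hU (le_refl U)
  let κ : Γ((Scheme.Modules.pullback j).obj I, U) →ₗ[C] C ⊗[B] Ω[B⁄A] := hbc.lift κ₀
  have hκ : ∀ s, κ (PullbackMod.pullMap j I (W := W) (W' := U) le_rfl s) =
      1 ⊗ₜ KaehlerDifferential.D A B (OmegaSh.idealSect j.ker W s) := fun s => hbc.lift_eq κ₀ s
  have hcot : ∀ s, κ (PullbackMod.pullMap j I (W := W) (W' := U) le_rfl s) =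
      KaehlerDifferential.kerCotangentToTensor A B C
        ((RingHom.ker (algebraMap B C)).toCotangent ⟨_, hmem s⟩) := fun s => by
    rw [hκ, KaehlerDifferential.kerCotangentToTensor_toCotangent]
  obtain ⟨hcs, hcz⟩ := ConormalLib.cls_surjective_and_eq_zero_iff j hW hU hs
  have hinj : Function.Injective κ := (injective_iff_map_eq_zero κ).2 fun m hm => by
    obtain ⟨s, rfl⟩ := hcs m
    have h2 := injective_kerCotangentToTensor hsurj (((hcot s).symm.trans hm).trans (map_zero _).symm)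
    rw [Ideal.toCotangent_eq_zero, pow_two] at h2
    refine (hcz s).2 ?_
    rw [← hker]
    exact h2
  have hex : Function.Exact κ (KaehlerDifferential.mapBaseChange A B C) := fun t => by
    rw [KaehlerDifferential.exact_kerCotangentToTensor_mapBaseChange A B C hsurj t]
    constructor
    · rintro ⟨u, rfl⟩
      obtain ⟨⟨r, hr⟩, rfl⟩ := Ideal.toCotangent_surjective _ u
      obtain ⟨s, hs'⟩ := ConormalLib.exists_idealSect_eq j W r (by rw [← RingHom.mem_ker, ← hker]; exact hr)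
      refine ⟨_, (hcot s).trans ?_⟩
      simp only [hs']
    · rintro ⟨m, rfl⟩
      obtain ⟨s, rfl⟩ := hcs m
      exact ⟨_, (hcot s).symm⟩
  haveI : Module.Free C Ω[C⁄A] := Module.Free.of_equiv EC.symm
  haveI : Module.Finite C Ω[C⁄A] := Module.Finite.equiv EC.symm
  haveI : Module.Free B Ω[B⁄A] := Module.Free.of_equiv EB.symm
  haveI : Module.Finite B Ω[B⁄A] := Module.Finite.equiv EB.symm
  obtain ⟨hfin, hproj, ⟨E⟩⟩ := exists_section_ranks κ (KaehlerDifferential.mapBaseChange A B C) hinj hex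
    (KaehlerDifferential.mapBaseChange_surjective A B C hsurj)
  exact ⟨hfin, hproj, ⟨((LinearEquiv.refl C _).prodCongr EC.symm).trans (E.symm.trans
      ((EB.baseChange B C).trans (TensorProduct.piScalarRight B C C (Fin a))))⟩,
    fibreDimAt_of_std f hV hW eW a hstdW hxU, fibreDimAt_of_std (j ≫ f) hV hU _ b hstdU hxU⟩

theorem exists_freeMod_conormal {X' : Scheme.{u}} [Smooth f] (j : X' ⟶ X) [IsImmersion j]
    [QuasiCompact j] [Smooth (j ≫ f)] (x : X') :
    ∃ (U : X'.Opens) (n : ℕ), x ∈ U ∧ Nonempty ((Omega.conormal j).restrict U.ι ≅ FlatMod.freeMod (↑U) n) ∧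
      FlatMor.fibreDimAt f (j x) = FlatMor.fibreDimAt (j ≫ f) x + (n : WithBot ℕ∞) := by
  haveI := OmegaAffLib.isQCoh_idealMod j.ker
  haveI : Coh.IsQCoh (Omega.conormal j) := PullbackMod.isQCoh_pullback j (ClSub.idealMod j.ker)
  choose U a b hU hxU hfin hproj hE ha hb using exists_chart_conormal f j
  have hfree : FlatMod.IsFinLocFree (Omega.conormal j) :=
    isFinLocFree_of_local _ fun y => ⟨U y, hU y, hxU y, hfin y, hproj y⟩
  obtain ⟨O, n, hxO, hi⟩ := hfree x
  refine ⟨O, n, hxO, hi, ?_⟩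
  obtain ⟨i⟩ := hi
  obtain ⟨e⟩ := PullbackMod.freeAt_of_restrict_iso (Omega.conormal j) i hxO
  obtain ⟨E⟩ := hE x
  letI := Module.compHom ((Omega.conormal j).presheaf.stalk x) (X'.presheaf.germ (U x) x (hxU x)).hom
  haveI := FlatLocus.isLocalizedModule_germL (Omega.conormal j) (hU x) x (hxU x)
  letI : Algebra Γ(X', U x) (X'.presheaf.stalk x) :=
    TopCat.Presheaf.algebra_section_stalk X'.presheaf ⟨x, hxU x⟩
  haveI := (hU x).isLocalization_stalk ⟨x, hxU x⟩
  haveI : IsScalarTower Γ(X', U x) (X'.presheaf.stalk x) ((Omega.conormal j).presheaf.stalk x) :=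
    .of_algebraMap_smul fun _ _ => rfl
  let R := X'.presheaf.stalk x
  let hbc := IsLocalizedModule.isBaseChange ((hU x).primeIdealOf ⟨x, hxU x⟩).asIdeal.primeCompl
    R (FlatLocus.germL (Omega.conormal j) (U x) x (hxU x))
  have hab : n + b x = a x := by
    let T : ((Fin n → R) × (Fin (b x) → R)) ≃ₗ[R] (Fin (a x) → R) :=
      ((e.symm.trans hbc.equiv.symm).prodCongr (TensorProduct.piScalarRight Γ(X', U x) R R (Fin (b x))).symm).trans
        ((TensorProduct.prodRight Γ(X', U x) R R _ _).symm.trans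
          ((E.baseChange Γ(X', U x) R).trans (TensorProduct.piScalarRight Γ(X', U x) R R (Fin (a x)))))
    simpa using T.finrank_eq
  rw [ha x, hb x, ← hab, add_comm n]
  push_cast
  ring

end Groth.Agent.EtAlgEasy.OmegaSmooth
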