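import Groth.Agent.EtAlgEasy.FibLocus
import Groth.Agent.GenIrredLib.ComponentProper
import Groth.Agent.GenFree.Scheme
import Groth.Agent.AffLim.DescendBaseChange
import Groth.Agent.FlatLocus.FibreCrit
import Groth.Agent.FpqcDesc.Basic
import Groth.Agent.ASp.Fpqc
import Groth.Agent.S0385

/-!
Fibrewise finite morphisms, immersions and flat morphisms.
-/

set_option autoImplicit false
set_option backward.isDefEq.respectTransparency false
set_option linter.style.haveILetI false

universe u

open CategoryTheory CategoryTheory.Limits AlgebraicGeometry TopologicalSpace Topology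

noncomputable section

namespace Groth.Agent.EtAlgEasy.FibLocus

open FibreMapConstr

instance finite_descends : MorphismProperty.DescendsAlong @IsFinite fieldQ.{u} :=
  haveI := FpqcDesc.isFinite_descends.{u}
  MorphismProperty.DescendsAlong.of_le (P := @IsFinite) inf_le_left

instance flat_descends' : MorphismProperty.DescendsAlong @Flat fieldQ.{u} :=
  MorphismProperty.DescendsAlong.of_le (P := @Flat) inf_le_left

instance isImmersion_descends : MorphismProperty.DescendsAlong @IsImmersion fieldQ.{u} := by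
  have := FpqcDesc.isClosedImmersion_descends.{u}
  apply MorphismProperty.DescendsAlong.mk'
  intro Y W X c f _ hc h
  have hcs : Surjective c := hc.1.1.1
  have hco : UniversallyOpen c := hc.2
  have hf' : IsImmersion (pullback.fst c f) := h
  let U : X.Opens := ⟨coborder (Set.range f), by
    have e : c ⁻¹' Set.range f = Set.range (pullback.fst c f) := (Scheme.Pullback.range_fst c f).symm
    have h1 : IsOpen (c ⁻¹' coborder (Set.range f)) := by
      rw [← coborder_preimage c.isOpenMap c.continuous, e]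
      exact (pullback.fst c f).isLocallyClosed_range.isOpen_coborder
    rw [← Set.image_preimage_eq (coborder (Set.range f)) c.surjective]
    exact c.isOpenMap _ h1⟩
  let g : W ⟶ U.toScheme := IsOpenImmersion.lift U.ι f (by rw [Scheme.Opens.range_ι]; exact subset_coborder)
  have hg : g ≫ U.ι = f := IsOpenImmersion.lift_fac _ _ _
  let g' : pullback (pullback.snd c U.ι) g ⟶ pullback c U.ι := pullback.fst _ _
  have sq : IsPullback g' (pullback.snd (pullback.snd c U.ι) g) (pullback.snd c U.ι) g := IsPullback.of_hasPullback _ _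
  have sq2 : IsPullback (g' ≫ pullback.fst c U.ι) (pullback.snd (pullback.snd c U.ι) g) c f := by
    rw [← hg]
    exact sq.paste_horiz (IsPullback.of_hasPullback c U.ι)
  have : IsImmersion (g' ≫ pullback.fst c U.ι) := by
    rw [← sq2.isoPullback_hom_fst]; infer_instance
  have : IsImmersion g' := IsImmersion.of_comp g' (pullback.fst c U.ι)
  have : IsClosedImmersion g' := by
    refine IsClosedImmersion.of_isPreimmersion g' ?_
    rw [Scheme.Pullback.range_fst]
    refine IsClosed.preimage (pullback.snd c U.ι).continuous ?_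
    have e : Set.range g = U.ι ⁻¹' Set.range f := by
      rw [← hg]
      ext y
      constructor
      · rintro ⟨w, rfl⟩; exact ⟨w, rfl⟩
      · rintro ⟨w, hw⟩; exact ⟨w, U.ι.isOpenEmbedding.injective hw⟩
    rw [e]
    exact isClosed_preimage_val_coborder
  have hQ : (@Surjective ⊓ @Flat ⊓ @QuasiCompact : MorphismProperty Scheme.{u}) (pullback.snd c U.ι) :=
    MorphismProperty.pullback_snd _ _ hc.1
  have : IsClosedImmersion g := MorphismProperty.of_isPullback_of_descendsAlong sq hQ ‹IsClosedImmersion g'›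
  rw [← hg]
  infer_instance

variable {X Y S : Scheme.{u}}

/-- A constructible set containing the generic point is the whole of an open. -/
theorem exists_open_subset [IsNoetherian S] [IsIntegral S] {E : Set S} (hE : IsLocallyConstructible E)
    (h : genericPoint S ∈ E) : ∃ V : S.Opens, (V : Set S).Nonempty ∧ (V : Set S) ⊆ E := by
  have hd : (Set.univ : Set S) ⊆ closure (E ∩ Set.univ) := by
    rw [Set.inter_univ, ← genericPoint_closure S]
    exact closure_mono (Set.singleton_subset_iff.2 h)
  obtain ⟨U, hU, hne, hsub⟩ := ConstrNoeth.exists_open_of_constructible hE.isConstructible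
    (IrreducibleSpace.isIrreducible_univ S) hd
  exact ⟨⟨U, hU⟩, hne.mono Set.inter_subset_left, fun x hx => hsub ⟨hx, trivial⟩⟩

theorem gen_of_not_mem (P : MorphismProperty Scheme.{u}) [IsNoetherian S] [IsIntegral S] {f : X ⟶ Y} {g : Y ⟶ S}
    {E : Set S} (hE : IsLocallyConstructible E) (hPE : locus P f g ⊆ E) (h : genericPoint S ∉ E) :
    ∃ V : S.Opens, (V : Set S).Nonempty ∧ ∃ C : Set S, IsConstructible C ∧ C ∩ V = locus P f g ∩ V := by
  obtain ⟨V, hV, hVE⟩ := exists_open_subset (ProConsLib.isLocallyConstructible_compl hE) h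
  refine ⟨V, hV, ∅, IsConstructible.empty, ?_⟩
  rw [Set.empty_inter, eq_comm, Set.eq_empty_iff_forall_notMem]
  exact fun x hx => hVE hx.2 (hPE hx.1)

theorem gen_of_restrict (P : MorphismProperty Scheme.{u}) [P.IsStableUnderBaseChange] [P.DescendsAlong fieldQ]
    [IsNoetherian S] (f : X ⟶ Y) (g : Y ⟶ S) {V : S.Opens} (hV : (V : Set S).Nonempty)
    (h : IsLocallyConstructible (locus P (pullback.snd f (pullback.fst g V.ι)) (pullback.snd g V.ι))) :
    ∃ V : S.Opens, (V : Set S).Nonempty ∧ ∃ C : Set S, IsConstructible C ∧ C ∩ V = locus P f g ∩ V := by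
  rw [locus_pullback P f g V.ι] at h
  refine ⟨V, hV, _, (V.ι.isLocallyConstructible_image h).isConstructible, ?_⟩
  rw [Set.image_preimage_eq_inter_range, Scheme.Opens.range_ι, Set.inter_assoc, Set.inter_self]

/-- If the generic fibre map is separated, the map is separated over an open. -/
theorem exists_isSeparated (f : X ⟶ Y) (g : Y ⟶ S) [IsNoetherian S] [IsIntegral S] [LocallyOfFiniteType g]
    [QuasiCompact g] [LocallyOfFiniteType f] [QuasiCompact f] (h : IsSeparated (fib f g (genericPoint S))) :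
    ∃ V : S.Opens, (V : Set S).Nonempty ∧ IsSeparated (pullback.snd f (pullback.fst g V.ι)) := by
  haveI : LocallyOfFinitePresentation g := inferInstance
  haveI : IsLocallyNoetherian Y := LocallyOfFiniteType.isLocallyNoetherian g
  haveI : LocallyOfFinitePresentation f := inferInstance
  haveI : IsLocallyNoetherian X := LocallyOfFiniteType.isLocallyNoetherian f
  let q := pullback.snd f f ≫ f ≫ g
  haveI : QuasiSeparated f := inferInstance
  haveI : LocallyOfFinitePresentation (pullback.diagonal f) := by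
    haveI : LocallyOfFinitePresentation (pullback.diagonal f ≫ pullback.fst f f) := by
      rw [pullback.diagonal_fst]; infer_instance
    exact FlatLocus.locallyOfFinitePresentation_of_comp _ (pullback.fst f f)
  haveI : IsLocallyNoetherian (pullback f f) := LocallyOfFiniteType.isLocallyNoetherian (pullback.fst f f)
  haveI : CompactSpace ↥(pullback f f) := QuasiCompact.compactSpace_of_compactSpace q
  haveI : IsNoetherian (pullback f f) := ⟨⟩
  let R := Set.range (pullback.diagonal f)
  have hR : IsLocallyConstructible R := by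
    show IsLocallyConstructible (Set.range _)
    rw [← Set.image_univ]
    exact (pullback.diagonal f).isLocallyConstructible_image IsLocallyConstructible.univ
  have hcl : IsLocallyConstructible (closure R \ R) :=
    (ConstrNoeth.isConstructible_of_isClosed isClosed_closure).isLocallyConstructible.inter
      (ProConsLib.isLocallyConstructible_compl hR)
  have hη : genericPoint S ∈ (q '' (closure R \ R))ᶜ := by
    rintro ⟨z, ⟨hz, hzR⟩, hzη⟩
    obtain ⟨r, hr, hs⟩ := GenIrredLib.exists_specializes_of_mem_closure_locConstr hR hz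
    have hrη : q r = genericPoint S := by
      refine ((genericPoint_specializes (q r)).antisymm ?_).eq.symm
      rw [← hzη]
      exact hs.map q.continuous
    rw [FibreMorph.isSeparated_fib_iff, RelClosureSch.isClosed_fibre_iff q hR] at h
    exact hzR (h ⟨⟨r, hs, hrη.trans hzη.symm, hr⟩, hzη⟩)
  obtain ⟨V, hV, hVE⟩ := exists_open_subset
    (ProConsLib.isLocallyConstructible_compl (q.isLocallyConstructible_image hcl)) hη
  refine ⟨V, hV, ?_⟩
  obtain ⟨h1, -⟩ := AffLim.isPullback_diagonal f (IsPullback.of_hasPullback f (pullback.fst g V.ι))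
  let m := pullback.map (pullback.snd f (pullback.fst g V.ι)) (pullback.snd f (pullback.fst g V.ι)) f f
    (pullback.fst f (pullback.fst g V.ι)) (pullback.fst f (pullback.fst g V.ι)) (pullback.fst g V.ι)
    pullback.condition.symm pullback.condition.symm
  have hr : Set.range (pullback.diagonal (pullback.snd f (pullback.fst g V.ι))) = m ⁻¹' R :=
    FibreMorph.range_of_isPullback h1.flip
  refine ⟨IsClosedImmersion.of_isPreimmersion _ ?_⟩
  rw [hr, show m ⁻¹' R = m ⁻¹' closure R from ?_]
  · exact isClosed_closure.preimage m.continuous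
  refine (Set.preimage_mono subset_closure).antisymm fun z hz => ?_
  by_contra hzR
  refine hVE ?_ ⟨m z, ⟨hz, hzR⟩, rfl⟩
  have e : m ≫ pullback.snd f f = pullback.snd _ _ ≫ pullback.fst f (pullback.fst g V.ι) := pullback.lift_snd _ _ _
  have e' : m ≫ q = (pullback.snd _ _ ≫ pullback.snd f (pullback.fst g V.ι) ≫ pullback.snd g V.ι) ≫ V.ι := by
    show m ≫ pullback.snd f f ≫ f ≫ g = _
    rw [reassoc_of% e, pullback.condition_assoc, Category.assoc, Category.assoc, pullback.condition]
  rw [← Scheme.Hom.comp_apply, e', Scheme.Hom.comp_apply]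
  exact ((pullback.snd _ _ ≫ pullback.snd f (pullback.fst g V.ι) ≫ pullback.snd g V.ι) z).2

section Factor

variable {Z : Scheme.{u}} (j : X ⟶ Z) (π : Z ⟶ Y) (g : Y ⟶ S) (s : S)

/-- The fibre map of a composite is the composite of the fibre maps. -/
theorem prop_fib_comp (P : MorphismProperty Scheme.{u}) [P.RespectsIso] :
    P (fib (j ≫ π) g s) ↔ P (fib j (π ≫ g) s ≫ fib π g s) :=
  AffLim.prop_iff_of_isPullback P (FibreMorph.isPullback_fib (j ≫ π) g s)
    ((FibreMorph.isPullback_fib j (π ≫ g) s).paste_vert (FibreMorph.isPullback_fib π g s)) (Iso.refl _)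
    (Category.id_comp _)

theorem range_fib_comp :
    Set.range (fib (j ≫ π) g s) = Set.range (fib j (π ≫ g) s ≫ fib π g s) := by
  let e := (FibreMorph.isPullback_fib (j ≫ π) g s).isoIsPullback _ _
    ((FibreMorph.isPullback_fib j (π ≫ g) s).paste_vert (FibreMorph.isPullback_fib π g s))
  rw [← IsPullback.isoIsPullback_hom_snd _ _ (FibreMorph.isPullback_fib (j ≫ π) g s)
    ((FibreMorph.isPullback_fib j (π ≫ g) s).paste_vert (FibreMorph.isPullback_fib π g s)), Scheme.Hom.comp_base,
    TopCat.coe_comp, Set.range_comp, (Set.range_eq_univ.2 e.hom.homeomorph.surjective : Set.range e.hom = Set.univ),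
    Set.image_univ]

theorem isClosed_range_fib_iff [LocallyOfFiniteType (π ≫ g)] (hJ : IsLocallyConstructible (Set.range j))
    (T : Set Y) :
    (closure (Set.range (fib j (π ≫ g) s)) \ Set.range (fib j (π ≫ g) s)) ∩
        (fib π g s ⁻¹' (pullback.fst g (S.fromSpecResidueField s) ⁻¹' T)) = ∅ ↔
      (π ≫ g) ⁻¹' {s} ⊆ ((RelClosureSch.relCl (π ≫ g) (Set.range j) \ Set.range j) ∩ π ⁻¹' T)ᶜ := by
  let ι := pullback.fst (π ≫ g) (S.fromSpecResidueField s)
  have him : ι '' Set.range (fib j (π ≫ g) s) = (π ≫ g) ⁻¹' {s} ∩ Set.range j := by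
    rw [← range_fst s (π ≫ g)]
    ext z
    constructor
    · rintro ⟨_, ⟨x', rfl⟩, rfl⟩
      exact ⟨⟨_, rfl⟩, ⟨_, (fib_fst j (π ≫ g) s x').symm⟩⟩
    · rintro ⟨⟨z', rfl⟩, ⟨x, hx⟩⟩
      obtain ⟨x', hx', -⟩ := (fib_preimage j (π ≫ g) s z').ge (show x ∈ j ⁻¹' {_} from hx)
      exact ⟨z', ⟨x', hx'⟩, rfl⟩
  have hmem : ∀ z', (z' ∈ Set.range (fib j (π ≫ g) s) ↔ ι z' ∈ Set.range j) ∧
      (z' ∈ closure (Set.range (fib j (π ≫ g) s)) ↔ ι z' ∈ RelClosureSch.relCl (π ≫ g) (Set.range j)) := fun z' => by
    have hz : ι z' ∈ (π ≫ g) ⁻¹' {s} := (range_fst s (π ≫ g)).le ⟨z', rfl⟩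
    refine ⟨⟨fun h => (him.le ⟨z', h, rfl⟩).2, fun h => ?_⟩, ?_⟩
    · obtain ⟨w, hw, hwz⟩ := him.ge ⟨hz, h⟩
      rwa [← ι.isEmbedding.injective hwz]
    · rw [ι.isEmbedding.closure_eq_preimage_closure_image, Set.mem_preimage, him]
      exact ⟨fun h => ((RelClosureSch.inter_closure_fibre _ hJ s).le ⟨hz, h⟩).2,
        fun h => ((RelClosureSch.inter_closure_fibre _ hJ s).ge ⟨hz, h⟩).2⟩
  rw [Set.eq_empty_iff_forall_notMem]
  constructor
  · rintro h z hz ⟨⟨h1, h2⟩, h3⟩
    obtain ⟨z', rfl⟩ : z ∈ Set.range ι := (range_fst s (π ≫ g)).ge hz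
    refine h z' ⟨⟨(hmem z').2.2 h1, fun h' => h2 ((hmem z').1.1 h')⟩, ?_⟩
    rw [Set.mem_preimage, Set.mem_preimage, fib_fst]
    exact h3
  · rintro h z' ⟨⟨h1, h2⟩, h3⟩
    refine h ((range_fst s (π ≫ g)).le ⟨z', rfl⟩) ⟨⟨(hmem z').2.1 h1, fun h' => h2 ((hmem z').1.2 h')⟩, ?_⟩
    rw [Set.mem_preimage, Set.mem_preimage, fib_fst] at h3
    exact h3

variable [IsOpenImmersion j] [IsFinite π]

theorem finite_fib_factor_iff [LocallyOfFiniteType (π ≫ g)] (hJ : IsLocallyConstructible (Set.range j)) :
    IsFinite (fib (j ≫ π) g s) ↔ (π ≫ g) ⁻¹' {s} ⊆ (RelClosureSch.relCl (π ≫ g) (Set.range j) \ Set.range j)ᶜ := by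
  rw [prop_fib_comp j π g s @IsFinite]
  haveI : IsFinite (fib π g s) := MorphismProperty.of_isPullback (FibreMorph.isPullback_fib π g s) inferInstance
  haveI : IsOpenImmersion (fib j (π ≫ g) s) :=
    MorphismProperty.of_isPullback (FibreMorph.isPullback_fib j (π ≫ g) s) inferInstance
  have key := isClosed_range_fib_iff j π g s hJ Set.univ
  simp only [Set.preimage_univ, Set.inter_univ, Set.diff_eq_empty] at key
  rw [← key, closure_subset_iff_isClosed]
  constructor
  · intro
    haveI : IsFinite (fib j (π ≫ g) s) := IsFinite.of_comp _ (fib π g s)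
    exact (fib j (π ≫ g) s).isClosedMap.isClosed_range
  · intro h
    haveI := IsClosedImmersion.of_isPreimmersion _ h
    infer_instance

theorem immersion_fib_factor_iff [LocallyOfFiniteType (π ≫ g)] (hJ : IsLocallyConstructible (Set.range j))
    [Mono (fib (j ≫ π) g s)] (hlc : IsLocallyClosed (Set.range (fib (j ≫ π) g s))) :
    IsImmersion (fib (j ≫ π) g s) ↔
      (π ≫ g) ⁻¹' {s} ⊆ ((RelClosureSch.relCl (π ≫ g) (Set.range j) \ Set.range j) ∩ π ⁻¹' Set.range (j ≫ π))ᶜ := by
  let a := fib j (π ≫ g) s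
  let b := fib π g s
  haveI : IsFinite b := MorphismProperty.of_isPullback (FibreMorph.isPullback_fib π g s) inferInstance
  haveI : IsOpenImmersion a := MorphismProperty.of_isPullback (FibreMorph.isPullback_fib j (π ≫ g) s) inferInstance
  haveI : Mono (a ≫ b) := (prop_fib_comp j π g s (MorphismProperty.monomorphisms _)).1 ‹_›
  have hR : Set.range (fib (j ≫ π) g s) = Set.range (a ≫ b) := range_fib_comp j π g s
  rw [prop_fib_comp j π g s @IsImmersion, ← isClosed_range_fib_iff j π g s hJ]
  have hT : pullback.fst g (S.fromSpecResidueField s) ⁻¹' Set.range (j ≫ π) = Set.range (fib (j ≫ π) g s) := by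
    ext y
    constructor
    · rintro ⟨x, hx⟩
      obtain ⟨x', hx', -⟩ := (fib_preimage (j ≫ π) g s y).ge (show x ∈ (j ≫ π) ⁻¹' {_} from hx)
      exact ⟨x', hx'⟩
    · rintro ⟨x', rfl⟩
      exact ⟨_, (fib_fst (j ≫ π) g s x').symm⟩
  rw [hT, hR]
  rw [hR] at hlc
  let U : (pullback g (S.fromSpecResidueField s)).Opens := ⟨coborder (Set.range (a ≫ b)), hlc.isOpen_coborder⟩
  have hcl : closure (Set.range a) ⊆ b ⁻¹' closure (Set.range (a ≫ b)) :=
    closure_minimal (by rintro _ ⟨x, rfl⟩; exact subset_closure ⟨x, Scheme.Hom.comp_apply _ _ _⟩)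
      (isClosed_closure.preimage b.continuous)
  constructor
  · intro
    let g1 : _ ⟶ U.toScheme := IsOpenImmersion.lift U.ι (a ≫ b) (by rw [Scheme.Opens.range_ι]; exact subset_coborder)
    let a1 : _ ⟶ (b ⁻¹ᵁ U).toScheme := IsOpenImmersion.lift (b ⁻¹ᵁ U).ι a (by
      rw [Scheme.Opens.range_ι]; rintro _ ⟨x, rfl⟩; exact subset_coborder ⟨x, Scheme.Hom.comp_apply _ _ _⟩)
    have ha1 : a1 ≫ (b ∣_ U) = g1 := by
      rw [← cancel_mono U.ι, Category.assoc, morphismRestrict_ι, IsOpenImmersion.lift_fac_assoc, IsOpenImmersion.lift_fac]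
    haveI : IsImmersion g1 := by
      haveI : IsImmersion (g1 ≫ U.ι) := by rw [IsOpenImmersion.lift_fac]; infer_instance
      exact IsImmersion.of_comp g1 U.ι
    haveI : IsClosedImmersion g1 := by
      refine IsClosedImmersion.of_isPreimmersion _ ?_
      have e : Set.range g1 = U.ι ⁻¹' Set.range (a ≫ b) := by
        ext y
        constructor
        · rintro ⟨x, rfl⟩
          exact ⟨x, by rw [← Scheme.Hom.comp_apply g1, IsOpenImmersion.lift_fac]⟩
        · rintro ⟨x, hx⟩
          refine ⟨x, U.ι.isOpenEmbedding.injective ?_⟩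
          rw [← Scheme.Hom.comp_apply, IsOpenImmersion.lift_fac]
          exact hx
      rw [e]
      exact isClosed_preimage_val_coborder
    haveI : IsClosedImmersion (a1 ≫ (b ∣_ U)) := ha1 ▸ inferInstance
    haveI : IsClosedImmersion a1 := IsClosedImmersion.of_comp a1 (b ∣_ U)
    rw [Set.eq_empty_iff_forall_notMem]
    rintro z ⟨⟨hz, hza⟩, hzb⟩
    have hzU : z ∈ b ⁻¹ᵁ U := subset_coborder hzb
    obtain ⟨w, rfl⟩ : z ∈ Set.range (b ⁻¹ᵁ U).ι := by rw [Scheme.Opens.range_ι]; exact hzU
    have hrange : Set.range a1 = (b ⁻¹ᵁ U).ι ⁻¹' Set.range a := by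
      ext y
      constructor
      · rintro ⟨x, rfl⟩
        exact ⟨x, by rw [← Scheme.Hom.comp_apply a1, IsOpenImmersion.lift_fac]⟩
      · rintro ⟨x, hx⟩
        refine ⟨x, (b ⁻¹ᵁ U).ι.isOpenEmbedding.injective ?_⟩
        rw [← Scheme.Hom.comp_apply, IsOpenImmersion.lift_fac]
        exact hx
    refine hza ((Set.ext_iff.1 hrange w).1 ?_)
    rw [← a1.isClosedMap.isClosed_range.closure_eq, hrange,
      (b ⁻¹ᵁ U).ι.isEmbedding.closure_eq_preimage_closure_image, Set.mem_preimage,
      Set.image_preimage_eq_inter_range, Scheme.Opens.range_ι]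
    have := (b ⁻¹ᵁ U).isOpen.inter_closure ⟨hzU, hz⟩
    rwa [Set.inter_comm] at this
  · intro h
    let a1 : _ ⟶ (b ⁻¹ᵁ U).toScheme := IsOpenImmersion.lift (b ⁻¹ᵁ U).ι a (by
      rw [Scheme.Opens.range_ι]; rintro _ ⟨x, rfl⟩; exact subset_coborder ⟨x, Scheme.Hom.comp_apply _ _ _⟩)
    haveI : IsOpenImmersion (a1 ≫ (b ⁻¹ᵁ U).ι) := by rw [IsOpenImmersion.lift_fac]; infer_instance
    haveI : IsOpenImmersion a1 := IsOpenImmersion.of_comp a1 (b ⁻¹ᵁ U).ι
    haveI : IsClosedImmersion a1 := by
      refine IsClosedImmersion.of_isPreimmersion _ (closure_subset_iff_isClosed.1 fun w hw => ?_)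
      have hz : (b ⁻¹ᵁ U).ι w ∈ closure (Set.range a) := by
        have := image_closure_subset_closure_image (b ⁻¹ᵁ U).ι.continuous ⟨w, hw, rfl⟩
        refine closure_mono ?_ this
        rintro _ ⟨_, ⟨x, rfl⟩, rfl⟩
        exact ⟨x, by rw [← Scheme.Hom.comp_apply a1, IsOpenImmersion.lift_fac]⟩
      by_cases hwa : (b ⁻¹ᵁ U).ι w ∈ Set.range a
      · obtain ⟨x, hx⟩ := hwa
        refine ⟨x, (b ⁻¹ᵁ U).ι.isOpenEmbedding.injective ?_⟩
        rw [← Scheme.Hom.comp_apply, IsOpenImmersion.lift_fac]
        exact hx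
      · exfalso
        refine (Set.eq_empty_iff_forall_notMem.1 h) _ ⟨⟨hz, hwa⟩, ?_⟩
        by_contra hb
        exact (w.2 : b w.1 ∈ coborder (Set.range (a ≫ b))) ⟨hcl hz, hb⟩
    haveI : IsFinite (a1 ≫ (b ∣_ U)) := inferInstance
    haveI : Mono (a1 ≫ (b ∣_ U)) := by
      haveI : Mono ((a1 ≫ (b ∣_ U)) ≫ U.ι) := by
        rw [Category.assoc, morphismRestrict_ι, IsOpenImmersion.lift_fac_assoc]; infer_instance
      exact mono_of_mono _ U.ι
    haveI : IsClosedImmersion (a1 ≫ (b ∣_ U)) := (IsClosedImmersion.iff_isFinite_and_mono _).2 ⟨‹_›, ‹_›⟩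
    rw [show a ≫ b = (a1 ≫ (b ∣_ U)) ≫ U.ι by
      rw [Category.assoc, morphismRestrict_ι, IsOpenImmersion.lift_fac_assoc]]
    infer_instance

end Factor

/-- Over an integral Noetherian base with fibres having finitely many points and separated generic fibre,
the map has a Zariski Main Theorem factorisation over an open. -/
theorem exists_factor (f : X ⟶ Y) (g : Y ⟶ S) [IsNoetherian S] [IsIntegral S] [LocallyOfFiniteType g]
    [QuasiCompact g] [LocallyOfFiniteType f] [QuasiCompact f] (h : IsSeparated (fib f g (genericPoint S)))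
    (hq : LocallyQuasiFinite (fib f g (genericPoint S))) :
    ∃ V : S.Opens, (V : Set S).Nonempty ∧ ∃ (T : Scheme.{u}) (j : _ ⟶ T) (π : T ⟶ _),
      IsOpenImmersion j ∧ QuasiCompact j ∧ IsFinite π ∧ j ≫ π = pullback.snd f (pullback.fst g V.ι) := by
  haveI : IsLocallyNoetherian Y := LocallyOfFiniteType.isLocallyNoetherian g
  haveI : IsLocallyNoetherian X := LocallyOfFiniteType.isLocallyNoetherian f
  haveI : QuasiSeparated (f ≫ g) := inferInstance
  obtain ⟨V₁, ⟨v₁, hv₁⟩, hsep⟩ := exists_isSeparated f g h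
  obtain ⟨V₂, ⟨v₂, hv₂⟩, hV₂⟩ := exists_open_subset
    (FibreMapConstr.isLocallyConstructible_locallyQuasiFinite f g) hq
  refine ⟨V₁ ⊓ V₂, nonempty_preirreducible_inter V₁.2 V₂.2 ⟨v₁, hv₁⟩ ⟨v₂, hv₂⟩, ?_⟩
  let V := V₁ ⊓ V₂
  let f' := pullback.snd f (pullback.fst g V.ι)
  haveI : IsSeparated f' := by
    let k : pullback g V.ι ⟶ pullback g V₁.ι := pullback.map g V.ι g V₁.ι (𝟙 _) (S.homOfLE inf_le_left) (𝟙 _)
      (by simp) (by simp)
    have hk : k ≫ pullback.fst g V₁.ι = pullback.fst g V.ι := (pullback.lift_fst _ _ _).trans (Category.comp_id _)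
    have hsq : IsPullback
        (pullback.map f (pullback.fst g V.ι) f (pullback.fst g V₁.ι) (𝟙 _) k (𝟙 _) (by simp) (by simp [hk]))
        f' (pullback.snd f (pullback.fst g V₁.ι)) k := by
      refine IsPullback.of_right ?_ (pullback.lift_snd _ _ _) (IsPullback.of_hasPullback f (pullback.fst g V₁.ι))
      convert IsPullback.of_hasPullback f (pullback.fst g V.ι) using 1
      exact (pullback.lift_fst _ _ _).trans (Category.comp_id _)
    exact MorphismProperty.of_isPullback (P := @IsSeparated) hsq hsep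
  haveI : CompactSpace ↥V.toScheme := isCompact_iff_compactSpace.1 (NoetherianSpace.isCompact (V : Set S))
  haveI : AlgebraicGeometry.IsNoetherian V.toScheme := ⟨⟩
  haveI : CompactSpace ↥(pullback g V.ι) := QuasiCompact.compactSpace_of_compactSpace (pullback.snd g V.ι)
  haveI : QuasiSeparatedSpace ↥(pullback g V.ι) := quasiSeparatedSpace_of_quasiSeparated (pullback.snd g V.ι)
  haveI : LocallyQuasiFinite f' := by
    rw [locallyQuasiFinite_iff_finite_preimage_singleton]
    intro y
    have hy : g (pullback.fst g V.ι y) ∈ V₂ := by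
      rw [← Scheme.Hom.comp_apply, pullback.condition, Scheme.Hom.comp_apply]
      exact ((pullback.snd g V.ι) y).2.2
    have hfin := (locallyQuasiFinite_fib_iff f g _).1 (hV₂ hy) _ rfl
    refine Set.Finite.of_finite_image (f := pullback.fst f (pullback.fst g V.ι)) (hfin.subset ?_)
      (pullback.fst f (pullback.fst g V.ι)).isOpenEmbedding.injective.injOn
    rintro _ ⟨x, hx, rfl⟩
    show f _ = _
    rw [← Scheme.Hom.comp_apply, pullback.condition, Scheme.Hom.comp_apply, Set.mem_singleton_iff.1 hx]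
  obtain ⟨T, j, π, h1, h2, h3, h4⟩ := Groth.Agent.S0385.result f'
  exact ⟨T, j, π, h1, h2, h3, h4⟩

theorem genConstr_finite : GenConstr (@IsFinite : MorphismProperty Scheme.{u}) := by
  intro X Y S f g _ _ _ _ _ _
  haveI : IsLocallyNoetherian Y := LocallyOfFiniteType.isLocallyNoetherian g
  haveI : IsLocallyNoetherian X := LocallyOfFiniteType.isLocallyNoetherian f
  let E := {s : S | IsSeparated (fib f g s)} ∩ {s : S | LocallyQuasiFinite (fib f g s)}
  have hE : IsLocallyConstructible E := (FibreMorph.isLocallyConstructible_isSeparated f g).inter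
    (FibreMapConstr.isLocallyConstructible_locallyQuasiFinite f g)
  by_cases hη : genericPoint S ∈ E
  · obtain ⟨V, hV, T, j, π, _, _, _, hfac⟩ := exists_factor f g hη.1 hη.2
    refine gen_of_restrict _ f g hV ?_
    haveI : IsLocallyNoetherian V.toScheme := inferInstance
    haveI : IsLocallyNoetherian (pullback g V.ι) := LocallyOfFiniteType.isLocallyNoetherian (pullback.snd g V.ι)
    have hJ : IsLocallyConstructible (Set.range j) := by
      rw [← Set.image_univ]
      exact j.isLocallyConstructible_image IsLocallyConstructible.univ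
    rw [← hfac]
    unfold locus
    simp_rw [finite_fib_factor_iff j π _ _ hJ]
    haveI : LocallyOfFinitePresentation (π ≫ pullback.snd g V.ι) := inferInstance
    exact FibreMapConstr.isLocallyConstructible_forall_fibre _ (ProConsLib.isLocallyConstructible_compl
      ((RelClosureSch.isLocallyConstructible_relCl _ hJ).inter (ProConsLib.isLocallyConstructible_compl hJ)))
  · refine gen_of_not_mem _ hE (fun s (hs : IsFinite (fib f g s)) => ⟨?_, ?_⟩) hη
    · exact (inferInstance : IsSeparated (fib f g s))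
    · exact (inferInstance : LocallyQuasiFinite (fib f g s))

theorem genConstr_flat : GenConstr (@Flat : MorphismProperty Scheme.{u}) := by
  intro X Y S f g _ _ _ _ _ _
  haveI : IsLocallyNoetherian Y := LocallyOfFiniteType.isLocallyNoetherian g
  haveI : IsLocallyNoetherian X := LocallyOfFiniteType.isLocallyNoetherian f
  obtain ⟨U₁, hd₁, hfl₁, -⟩ := GenFree.exists_good_open g
  obtain ⟨U₂, hd₂, hfl₂, -⟩ := GenFree.exists_good_open (f ≫ g)
  have hne := hd₂.inter_open_nonempty _ U₁.2 (hd₁.nonempty)
  refine ⟨U₁ ⊓ U₂, hne, {s : S | (f ≫ g) ⁻¹' {s} ⊆ {x | (f.stalkMap x).hom.Flat}}, ?_, ?_⟩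
  · refine (FibreMapConstr.isLocallyConstructible_forall_fibre (f ≫ g) ?_).isConstructible
    haveI : CompactSpace X := QuasiCompact.compactSpace_of_compactSpace (f ≫ g)
    haveI : IsNoetherian X := ⟨⟩
    exact (ConstrNoeth.isConstructible_of_isOpen (FlatLocus.isOpen_flat_stalkMap f)).isLocallyConstructible
  · ext s
    refine and_congr_left fun hs => ?_
    have hg : ∀ y, g y = s → (g.stalkMap y).hom.Flat := fun y hy => by
      haveI := hfl₁
      exact (FlatLocus.stalkMap_ι_comp_iff g RingHom.Flat.respectsIso (g ⁻¹ᵁ U₁) ⟨y, show g y ∈ U₁ from hy ▸ hs.1⟩).mp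
        (by rw [← morphismRestrict_ι]; exact Flat.stalkMap _ _)
    have hfg : ∀ x, (f ≫ g) x = s → ((f ≫ g).stalkMap x).hom.Flat := fun x hx => by
      haveI := hfl₂
      exact (FlatLocus.stalkMap_ι_comp_iff (f ≫ g) RingHom.Flat.respectsIso ((f ≫ g) ⁻¹ᵁ U₂) ⟨x, show (f ≫ g) x ∈ U₂ from hx ▸ hs.2⟩).mp
        (by rw [← morphismRestrict_ι]; exact Flat.stalkMap _ _)
    have he : fib f g s = MoreMor.fiberMap f g s := by
      apply pullback.hom_ext
      · exact (pullback.lift_fst _ _ _).trans (pullback.lift_fst _ _ _).symm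
      · exact (pullback.lift_snd _ _ _).trans ((pullback.lift_snd _ _ _).trans (Category.comp_id _)).symm
    show _ ↔ Flat (fib f g s)
    rw [he, Flat.iff_flat_stalkMap]
    constructor
    · intro h z
      have hx : (f ≫ g) ((f ≫ g).fiberι s z) = s := (range_fst s (f ≫ g)).le ⟨z, rfl⟩
      exact ((FlatLocus.fibre_criterion f g s z _ rfl).2 ⟨hg _ ((Scheme.Hom.comp_apply _ _ _).symm.trans hx), h hx⟩).2
    · intro h x hx
      obtain ⟨z, rfl⟩ : x ∈ Set.range ((f ≫ g).fiberι s) := (range_fst s (f ≫ g)).ge hx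
      exact ((FlatLocus.fibre_criterion f g s z _ rfl).1 ⟨hfg _ hx, h z⟩).2

theorem isLocallyConstructible_lc (f : X ⟶ Y) (g : Y ⟶ S) [LocallyOfFinitePresentation g] [QuasiCompact g]
    [LocallyOfFinitePresentation f] [QuasiCompact f] :
    IsLocallyConstructible {s : S | IsLocallyClosed (Set.range (fib f g s))} := by
  have hR : IsLocallyConstructible (Set.range f) := by
    rw [← Set.image_univ]
    exact f.isLocallyConstructible_image IsLocallyConstructible.univ
  have hA : IsLocallyConstructible (RelClosureSch.relCl g (Set.range f) \ Set.range f) :=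
    (RelClosureSch.isLocallyConstructible_relCl g hR).inter (ProConsLib.isLocallyConstructible_compl hR)
  have h : ∀ s, IsLocallyClosed (Set.range (fib f g s)) ↔
      RelClosureSch.relCl g (RelClosureSch.relCl g (Set.range f) \ Set.range f) ∩ g ⁻¹' {s} ⊆
        RelClosureSch.relCl g (Set.range f) \ Set.range f := fun s => by
    let ι := pullback.fst g (S.fromSpecResidueField s)
    have hι : ∀ z, ι z ∈ g ⁻¹' {s} := fun z => (range_fst s g).le ⟨z, rfl⟩
    have hrng : Set.range (fib f g s) = ι ⁻¹' Set.range f := by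
      ext y
      constructor
      · rintro ⟨x', rfl⟩
        exact ⟨_, (fib_fst f g s x').symm⟩
      · rintro ⟨x, hx⟩
        obtain ⟨x', hx', -⟩ := (fib_preimage f g s y).ge (show x ∈ f ⁻¹' {_} from hx)
        exact ⟨x', hx'⟩
    have hcl : ∀ {Z : Set Y}, IsLocallyConstructible Z → closure (ι ⁻¹' Z) = ι ⁻¹' RelClosureSch.relCl g Z := by
      intro Z hZ
      rw [ι.isEmbedding.closure_eq_preimage_closure_image, Set.image_preimage_eq_inter_range, range_fst s g,
        Set.inter_comm]
      ext z
      exact ⟨fun hz => ((RelClosureSch.inter_closure_fibre g hZ s).le ⟨hι z, hz⟩).2,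
        fun hz => ((RelClosureSch.inter_closure_fibre g hZ s).ge ⟨hι z, hz⟩).2⟩
    rw [isLocallyClosed_iff_isOpen_coborder, coborder, isOpen_compl_iff, hrng, hcl hR, ← Set.preimage_diff,
      ← closure_subset_iff_isClosed, hcl hA]
    constructor
    · rintro h y ⟨hy, hys⟩
      obtain ⟨z, rfl⟩ : y ∈ Set.range ι := (range_fst s g).ge hys
      exact h hy
    · exact fun h z hz => h ⟨hz, hι z⟩
  simp_rw [h]
  exact RelClosureSch.isLocallyConstructible_subset g (RelClosureSch.isLocallyConstructible_relCl g hA) hA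

theorem genConstr_immersion : GenConstr (@IsImmersion : MorphismProperty Scheme.{u}) := by
  intro X Y S f g _ _ _ _ _ _
  haveI : IsLocallyNoetherian Y := LocallyOfFiniteType.isLocallyNoetherian g
  haveI : IsLocallyNoetherian X := LocallyOfFiniteType.isLocallyNoetherian f
  have hM := FibreMorph.isLocallyConstructible_mono f g
  by_cases hη : genericPoint S ∈ {s : S | Mono (fib f g s)}
  · haveI : Mono (fib f g (genericPoint S)) := hη
    have hq : LocallyQuasiFinite (fib f g (genericPoint S)) := by
      rw [locallyQuasiFinite_fib_iff, ← finite_fib_iff]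
      exact fun y' => (Set.subsingleton_singleton.preimage (fib f g (genericPoint S)).injective).finite
    obtain ⟨V, hV, T, j, π, _, _, _, hfac⟩ := exists_factor f g (IsSeparated.isSeparated_of_mono _) hq
    refine gen_of_restrict _ f g hV ?_
    haveI : IsLocallyNoetherian V.toScheme := inferInstance
    haveI : IsLocallyNoetherian (pullback g V.ι) := LocallyOfFiniteType.isLocallyNoetherian (pullback.snd g V.ι)
    have hJ : IsLocallyConstructible (Set.range j) := by
      rw [← Set.image_univ]
      exact j.isLocallyConstructible_image IsLocallyConstructible.univ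
    haveI : LocallyOfFinitePresentation (π ≫ pullback.snd g V.ι) := inferInstance
    have hR : IsLocallyConstructible (Set.range (j ≫ π)) := by
      rw [← Set.image_univ]
      exact (j ≫ π).isLocallyConstructible_image IsLocallyConstructible.univ
    have hRπ : IsLocallyConstructible (π ⁻¹' Set.range (j ≫ π)) := by
      rw [ProConsLib.isLocallyConstructible_iff_pro_and_ind] at hR ⊢
      exact ⟨ProConsLib.isProConstructible_preimage _ hR.1, ProConsLib.isIndConstructible_preimage _ hR.2⟩
    have h1 := FibreMorph.isLocallyConstructible_mono (j ≫ π) (pullback.snd g V.ι)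
    have h2 := isLocallyConstructible_lc (j ≫ π) (pullback.snd g V.ι)
    have h3 := FibreMapConstr.isLocallyConstructible_forall_fibre (π ≫ pullback.snd g V.ι)
      (ProConsLib.isLocallyConstructible_compl
        (((RelClosureSch.isLocallyConstructible_relCl (π ≫ pullback.snd g V.ι) hJ).inter
          (ProConsLib.isLocallyConstructible_compl hJ)).inter hRπ))
    rw [← hfac]
    convert (h1.inter h2).inter h3 using 1
    ext s
    constructor
    · intro (h : IsImmersion _)
      exact ⟨⟨inferInstanceAs (Mono _), (fib _ _ s).isLocallyClosed_range⟩,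
        (immersion_fib_factor_iff j π _ s hJ (fib _ _ s).isLocallyClosed_range).1 h⟩
    · rintro ⟨⟨hm : Mono _, hl⟩, h⟩
      exact (immersion_fib_factor_iff j π _ s hJ hl).2 h
  · exact gen_of_not_mem _ hM (fun s (hs : IsImmersion (fib f g s)) => (inferInstance : Mono (fib f g s))) hη

end Groth.Agent.EtAlgEasy.FibLocus
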