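import Groth.Agent.EtAlgEasy.MorLocus
import Groth.Agent.EtAlgEasy.FibLocusFin
import Groth.Agent.FibreMapConstr.Inj
import Groth.Agent.LocDimBC.Scheme

/-!
Constructible properties of algebraic schemes and of morphisms between them.
-/

set_option autoImplicit false
set_option backward.isDefEq.respectTransparency false
set_option linter.style.haveILetI false

universe u

open CategoryTheory CategoryTheory.Limits AlgebraicGeometry TopologicalSpace Topology ConsProp

noncomputable section

namespace Groth.Agent.EtAlgEasy.MorFibre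

open MorLocus

theorem fieldQ_onePoint {T T' Y Y' : Scheme.{u}} {e : Y' ⟶ Y} {g' : Y' ⟶ T'} {g : Y ⟶ T} {h : T' ⟶ T}
    [IsIntegral T] [Subsingleton T] [IsIntegral T'] [Subsingleton T'] (sq : IsPullback e g' g h) :
    (@Surjective ⊓ @Flat ⊓ @QuasiCompact : MorphismProperty Scheme.{u}) e :=
  MorphismProperty.of_isPullback sq.flip
    (show (@Surjective ⊓ @Flat ⊓ @QuasiCompact : MorphismProperty Scheme.{u}) h from
      ⟨⟨surjective_onePoint h, flat_onePoint h⟩, quasiCompact_onePoint h⟩)

theorem isIso_onePoint (T : Scheme.{u}) [IsIntegral T] [Subsingleton T] (t : T) :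
    IsIso (T.fromSpecResidueField t) := by
  haveI : Surjective (T.fromSpecResidueField t) :=
    ⟨fun x => ⟨IsLocalRing.closedPoint _, Subsingleton.elim _ _⟩⟩
  haveI : IsClosedImmersion (T.fromSpecResidueField t) := IsClosedImmersion.of_isPreimmersion _ (by
    rw [Surjective.surj.range_eq]; exact isClosed_univ)
  exact isIso_of_isClosedImmersion_of_surjective _

theorem isLocallyNoetherian_onePoint (T : Scheme.{u}) [IsIntegral T] [Subsingleton T] : IsLocallyNoetherian T := by
  haveI := isIso_onePoint T (genericPoint T)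
  exact LocallyOfFiniteType.isLocallyNoetherian (inv (T.fromSpecResidueField (genericPoint T)))

/-- Properties of the structure map which descend are field stable. -/
theorem isFieldStable_of (Q : MorphismProperty Scheme.{u}) [Q.IsStableUnderBaseChange]
    [Q.DescendsAlong (@Surjective ⊓ @Flat ⊓ @QuasiCompact)] : IsFieldStable (fun _ _ g => Q g) := by
  intro Y Y' T T' g g' e h _ _ _ _ _ _ sq
  exact (MorphismProperty.iff_of_isPullback (P := Q) (Q := @Surjective ⊓ @Flat ⊓ @QuasiCompact) sq.flip
    ⟨⟨surjective_onePoint h, flat_onePoint h⟩, quasiCompact_onePoint h⟩).symm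

/-- Properties of the morphism which descend are field stable. -/
theorem isFieldStableMor_of (Q : MorphismProperty Scheme.{u}) [Q.IsStableUnderBaseChange]
    [Q.DescendsAlong (@Surjective ⊓ @Flat ⊓ @QuasiCompact)] : IsFieldStableMor (fun _ _ _ f _ => Q f) := by
  intro X X' Y Y' T T' f g f' g' eX eY h _ _ _ _ _ _ _ _ hY hX
  exact (MorphismProperty.iff_of_isPullback (P := Q) (Q := @Surjective ⊓ @Flat ⊓ @QuasiCompact) hX.flip
    (fieldQ_onePoint hY)).symm

theorem interior_dichotomy {S : Scheme.{u}} [IsNoetherian S] [IsIntegral S] {E : Set S}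
    (hE : IsLocallyConstructible E) : (interior E).Nonempty ∨ (interior Eᶜ).Nonempty := by
  have key : ∀ {F : Set S}, IsLocallyConstructible F → genericPoint S ∈ F → (interior F).Nonempty :=
    fun hF hη => by
      obtain ⟨V, hV, hVE⟩ := FibLocus.exists_open_subset hF hη
      exact hV.mono (interior_maximal hVE V.2)
  by_cases hη : genericPoint S ∈ E
  · exact Or.inl (key hE hη)
  · exact Or.inr (key (ProConsLib.isLocallyConstructible_compl hE) hη)

variable {X Y S : Scheme.{u}}

/-- The fibre as the fibre map to the point. -/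
theorem prop_fiber_iff (Q : MorphismProperty Scheme.{u}) [Q.RespectsIso] (f : X ⟶ S) (s : S) :
    Q (f.fiberToSpecResidueField s) ↔ Q (FibreMapConstr.fib f (𝟙 S) s) := by
  haveI : IsIso (pullback.snd (𝟙 S) (S.fromSpecResidueField s)) := inferInstance
  refine AffLim.prop_iff_of_isPullback Q (IsPullback.of_hasPullback f (S.fromSpecResidueField s))
    (FibreMorph.isPullback_fib f (𝟙 S) s) (asIso (pullback.snd (𝟙 S) (S.fromSpecResidueField s))).symm ?_
  show inv (pullback.snd (𝟙 S) (S.fromSpecResidueField s)) ≫ _ = _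
  rw [IsIso.inv_comp_eq, ← pullback.condition, Category.comp_id]

/-- Over a Noetherian base, the locus of a constructible property of algebraic schemes is constructible. -/
theorem isConsPair_of_isCons {P : ∀ ⦃Y T : Scheme.{u}⦄, (Y ⟶ T) → Prop} (hP : IsCons P) :
    ConsPropPair.IsConsPair (fun _ _ _ gX _ => P gX) :=
  ⟨fun _ _ _ _ _ _ gX _ gX' _ eX _ h _ _ _ _ _ _ _ _ hX _ => hP.1 gX gX' eX h hX,
    fun _ _ _ u _ _ _ _ _ _ _ => hP.2 u⟩

theorem isIndConsPair_of_isIndCons {P : ∀ ⦃Y T : Scheme.{u}⦄, (Y ⟶ T) → Prop} (hP : IsIndCons P) :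
    ConsPropPair.IsIndConsPair (fun _ _ _ gX _ => P gX) :=
  ⟨fun _ _ _ _ _ _ gX _ gX' _ eX _ h _ _ _ _ _ _ _ _ hX _ => hP.1 gX gX' eX h hX,
    fun _ _ _ u _ _ _ _ _ _ _ => hP.2 u⟩

/-- A fibre of the map of fibres is a fibre of the map. -/
theorem fibrewise_iff {P : ∀ ⦃Y T : Scheme.{u}⦄, (Y ⟶ T) → Prop} (hP : IsFieldStable P) (f : X ⟶ Y) (g : Y ⟶ S)
    (s : S) [LocallyOfFiniteType f] [QuasiCompact f] :
    (∀ y', P ((MoreMor.fiberMap f g s).fiberToSpecResidueField y')) ↔ g ⁻¹' {s} ⊆ ConsProp.locus P f := by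
  rw [fiberMap_eq_fib]
  have key : ∀ y', P ((FibreMapConstr.fib f g s).fiberToSpecResidueField y') ↔
      pullback.fst g (S.fromSpecResidueField s) y' ∈ ConsProp.locus P f := fun y' => by
    haveI : Subsingleton ↥(Spec ((pullback g (S.fromSpecResidueField s)).residueField y')) :=
      inferInstanceAs (Subsingleton (PrimeSpectrum _))
    haveI : Subsingleton ↥(Spec (Y.residueField (pullback.fst g (S.fromSpecResidueField s) y'))) :=
      inferInstanceAs (Subsingleton (PrimeSpectrum _))
    haveI : LocallyOfFiniteType (f.fiberToSpecResidueField (pullback.fst g (S.fromSpecResidueField s) y')) :=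
      MorphismProperty.pullback_snd _ _ inferInstance
    haveI : QuasiCompact (f.fiberToSpecResidueField (pullback.fst g (S.fromSpecResidueField s) y')) :=
      MorphismProperty.pullback_snd _ _ inferInstance
    obtain ⟨a, -, ha⟩ := GeomRk.exists_fibre_square (FibreMorph.isPullback_fib f g s) y'
    exact (hP _ _ _ _ ha).symm
  constructor
  · intro h y hy
    obtain ⟨y', rfl⟩ : y ∈ Set.range (pullback.fst g (S.fromSpecResidueField s)) :=
      (FibreMapConstr.range_fst s g).ge hy
    exact (key y').1 (h y')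
  · exact fun h y' => (key y').2 (h ((FibreMapConstr.range_fst s g).le ⟨y', rfl⟩))

theorem isFieldStableMor_fibrewise {P : ∀ ⦃Y T : Scheme.{u}⦄, (Y ⟶ T) → Prop} (hP : IsFieldStable P) :
    IsFieldStableMor (fun _ Y _ f _ => ∀ y : ↥Y, P (f.fiberToSpecResidueField y)) := by
  intro X X' Y Y' T T' f g f' g' eX eY h _ _ _ _ _ _ _ _ hY hX
  haveI : LocallyOfFiniteType f := locallyOfFiniteType_of_comp f g
  haveI : IsLocallyNoetherian T := isLocallyNoetherian_onePoint T
  haveI : IsLocallyNoetherian Y := LocallyOfFiniteType.isLocallyNoetherian g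
  haveI : QuasiSeparated g := inferInstance
  haveI : QuasiCompact f := QuasiCompact.of_comp f g
  have key : ∀ y' : Y', P (f.fiberToSpecResidueField (eY y')) ↔ P (f'.fiberToSpecResidueField y') := fun y' => by
    haveI : Subsingleton ↥(Spec (Y'.residueField y')) := inferInstanceAs (Subsingleton (PrimeSpectrum _))
    haveI : Subsingleton ↥(Spec (Y.residueField (eY y'))) := inferInstanceAs (Subsingleton (PrimeSpectrum _))
    haveI : LocallyOfFiniteType (f.fiberToSpecResidueField (eY y')) := MorphismProperty.pullback_snd _ _ inferInstance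
    haveI : QuasiCompact (f.fiberToSpecResidueField (eY y')) := MorphismProperty.pullback_snd _ _ inferInstance
    exact hP _ _ _ _ (isPullback_fiberToSpecResidueField_of_isPullback hX y')
  haveI : Surjective eY := (fieldQ_onePoint hY).1.1
  exact ⟨fun H y' => (key y').1 (H _), fun H y => by
    obtain ⟨y', rfl⟩ := eY.surjective y
    exact (key y').2 (H y')⟩

theorem isConsMor_fibrewise {P : ∀ ⦃Y T : Scheme.{u}⦄, (Y ⟶ T) → Prop} (hP : IsCons P) :
    IsConsMor (fun _ Y _ f _ => ∀ y : ↥Y, P (f.fiberToSpecResidueField y)) := by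
  refine ⟨isFieldStableMor_fibrewise hP.1, fun X Y S f g _ _ _ _ _ _ => ?_⟩
  haveI : IsLocallyNoetherian Y := LocallyOfFiniteType.isLocallyNoetherian g
  haveI : LocallyOfFiniteType f := locallyOfFiniteType_of_comp f g
  haveI : QuasiCompact f := QuasiCompact.of_comp f g
  haveI : CompactSpace Y := QuasiCompact.compactSpace_of_compactSpace g
  haveI : IsNoetherian Y := ⟨⟩
  have h1 : IsConstructible (ConsProp.locus P f) :=
    PairLocus.isConstructible_locus_noetherian (isConsPair_of_isCons hP) f f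
  have h2 := FibreMapConstr.isLocallyConstructible_forall_fibre g h1.isLocallyConstructible
  have he : ConsProp.locusMor (fun _ Y _ f _ => ∀ y : ↥Y, P (f.fiberToSpecResidueField y)) f g =
      {s : S | g ⁻¹' {s} ⊆ ConsProp.locus P f} := Set.ext fun s => fibrewise_iff hP.1 f g s
  rw [he]
  exact interior_dichotomy h2

theorem isIndConsMor_fibrewise {P : ∀ ⦃Y T : Scheme.{u}⦄, (Y ⟶ T) → Prop} (hP : IsIndCons P) :
    IsIndConsMor (fun _ Y _ f _ => ∀ y : ↥Y, P (f.fiberToSpecResidueField y)) := by
  refine ⟨isFieldStableMor_fibrewise hP.1, fun X Y S f g _ _ _ _ _ _ hη => ?_⟩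
  haveI : IsLocallyNoetherian Y := LocallyOfFiniteType.isLocallyNoetherian g
  haveI : LocallyOfFiniteType f := locallyOfFiniteType_of_comp f g
  haveI : QuasiCompact f := QuasiCompact.of_comp f g
  haveI : CompactSpace Y := QuasiCompact.compactSpace_of_compactSpace g
  haveI : IsNoetherian Y := ⟨⟩
  have hη' : g ⁻¹' {genericPoint S} ⊆ ConsProp.locus P f := (fibrewise_iff hP.1 f g _).1 hη
  obtain ⟨C, hC, hCP, hCη⟩ : ∃ C, IsConstructible C ∧ C ⊆ ConsProp.locus P f ∧
      Set.univ ∩ g ⁻¹' {genericPoint S} ⊆ C := by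
    refine ConstrNoeth.irreducible_induction (P := fun Z => ∃ C, IsConstructible C ∧ C ⊆ ConsProp.locus P f ∧
      Z ∩ g ⁻¹' {genericPoint S} ⊆ C) ⟨∅, IsConstructible.empty, Set.empty_subset _, by simp⟩
      (fun A B _ _ ⟨C, h1, h2, h3⟩ ⟨C', h1', h2', h3'⟩ => ⟨C ∪ C', h1.union h1', Set.union_subset h2 h2', by
        rw [Set.union_inter_distrib_right]; exact Set.union_subset_union h3 h3'⟩)
      (fun Z hZ hirr ih => ?_) Set.univ isClosed_univ
    by_cases hne : (Z ∩ g ⁻¹' {genericPoint S}).Nonempty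
    · obtain ⟨y, hyZ, hy⟩ := hne
      obtain ⟨W, i, _, _, hr, hξ⟩ := PairLocus.exists_integral Y Z hZ hirr
      have hξZ : i (genericPoint W) ∈ Z := hr.le ⟨_, rfl⟩
      have hgξ : g (i (genericPoint W)) = genericPoint S := by
        refine ((genericPoint_specializes (g (i (genericPoint W)))).antisymm ?_).eq.symm
        rw [← Set.mem_singleton_iff.1 hy]
        exact (specializes_iff_mem_closure.2 (hξ hyZ)).map g.continuous
      obtain ⟨T, hT, hξT, hTP⟩ := PairLocus.exists_constructible_of_mem (isIndConsPair_of_isIndCons hP) f f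
        (s := i (genericPoint W)) (hη' hgξ)
      have hd : Z ⊆ closure (T ∩ Z) := hξ.trans (closure_mono (Set.singleton_subset_iff.2 ⟨hξT, hξZ⟩))
      obtain ⟨U, hU, ⟨z, hzU, hzZ⟩, hUT⟩ := ConstrNoeth.exists_open_of_constructible hT hirr hd
      obtain ⟨C, h1, h2, h3⟩ := ih _ (hZ.sdiff hU) (Set.sdiff_subset.ssubset_of_ne fun e => (e.ge hzZ).2 hzU)
      refine ⟨T ∪ C, hT.union h1, Set.union_subset hTP h2, fun x hx => ?_⟩
      by_cases hxU : x ∈ U
      · exact Or.inl (hUT ⟨hxU, hx.1⟩)
      · exact Or.inr (h3 ⟨⟨hx.1, hxU⟩, hx.2⟩)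
    · exact ⟨∅, IsConstructible.empty, Set.empty_subset _, (Set.not_nonempty_iff_eq_empty.1 hne).le⟩
  rw [Set.univ_inter] at hCη
  obtain ⟨V, hV, hVE⟩ := FibLocus.exists_open_subset
    (FibreMapConstr.isLocallyConstructible_forall_fibre g hC.isLocallyConstructible) hCη
  exact hV.mono (interior_maximal (fun s hs => (fibrewise_iff hP.1 f g s).2 ((hVE hs).trans hCP)) V.2)

theorem isCons_finite : IsCons (fun _ _ g => IsFinite g : ∀ ⦃Y T : Scheme.{u}⦄, (Y ⟶ T) → Prop) := by
  haveI := FpqcDesc.isFinite_descends.{u}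
  refine ⟨isFieldStable_of @IsFinite, fun X S f _ _ _ _ => interior_dichotomy ?_⟩
  haveI : LocallyOfFinitePresentation f := inferInstance
  haveI : IsLocallyNoetherian X := LocallyOfFiniteType.isLocallyNoetherian f
  unfold ConsProp.locus
  simp_rw [prop_fiber_iff @IsFinite]
  exact FibLocus.isLocallyConstructible_locus _ FibLocus.genConstr_finite f (𝟙 S)

theorem isCons_universallyInjective :
    IsCons (fun _ _ g => UniversallyInjective g : ∀ ⦃Y T : Scheme.{u}⦄, (Y ⟶ T) → Prop) := by
  refine ⟨isFieldStable_of @UniversallyInjective, fun X S f _ _ _ _ => interior_dichotomy ?_⟩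
  haveI : IsLocallyNoetherian X := LocallyOfFiniteType.isLocallyNoetherian f
  unfold ConsProp.locus
  simp_rw [prop_fiber_iff @UniversallyInjective]
  exact FibreMapConstr.isLocallyConstructible_universallyInjective f (𝟙 S)

theorem isConsMor_universallyInjective :
    IsConsMor (fun _ _ _ f _ => UniversallyInjective f :
      ∀ ⦃X Y T : Scheme.{u}⦄, (X ⟶ Y) → (Y ⟶ T) → Prop) := by
  refine ⟨isFieldStableMor_of @UniversallyInjective, fun X Y S f g _ _ _ _ _ _ => interior_dichotomy ?_⟩
  haveI : IsLocallyNoetherian Y := LocallyOfFiniteType.isLocallyNoetherian g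
  haveI : IsLocallyNoetherian X := LocallyOfFiniteType.isLocallyNoetherian (f ≫ g)
  unfold ConsProp.locusMor
  simp_rw [fiberMap_eq_fib]
  exact FibreMapConstr.isLocallyConstructible_universallyInjective f g

theorem isConsMor_quasiFinite :
    IsConsMor (fun _ _ _ f _ => LocallyOfFiniteType f ∧ QuasiCompact f ∧ LocallyQuasiFinite f :
      ∀ ⦃X Y T : Scheme.{u}⦄, (X ⟶ Y) → (Y ⟶ T) → Prop) := by
  haveI := FpqcDesc.quasiCompact_descends.{u}
  haveI := FpqcDesc.locallyQuasiFinite_descends.{u}
  refine ⟨?_, fun X Y S f g _ _ _ _ _ _ => interior_dichotomy ?_⟩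
  · intro X X' Y Y' T T' f g f' g' eX eY h _ _ _ _ _ _ _ _ hY hX
    exact and_congr (isFieldStableMor_of @LocallyOfFiniteType f g f' g' eX eY h hY hX)
      (and_congr (isFieldStableMor_of @QuasiCompact f g f' g' eX eY h hY hX)
        (isFieldStableMor_of @LocallyQuasiFinite f g f' g' eX eY h hY hX))
  haveI : IsLocallyNoetherian Y := LocallyOfFiniteType.isLocallyNoetherian g
  haveI : IsLocallyNoetherian X := LocallyOfFiniteType.isLocallyNoetherian (f ≫ g)
  haveI : LocallyOfFiniteType f := locallyOfFiniteType_of_comp f g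
  haveI : QuasiCompact f := QuasiCompact.of_comp f g
  unfold ConsProp.locusMor
  simp_rw [fiberMap_eq_fib]
  have key : ∀ s, (LocallyOfFiniteType (FibreMapConstr.fib f g s) ∧ QuasiCompact (FibreMapConstr.fib f g s) ∧
      LocallyQuasiFinite (FibreMapConstr.fib f g s)) ↔ LocallyQuasiFinite (FibreMapConstr.fib f g s) := fun s =>
    ⟨fun h => h.2.2, fun h => ⟨MorphismProperty.of_isPullback (FibreMorph.isPullback_fib f g s) inferInstance,
      MorphismProperty.of_isPullback (FibreMorph.isPullback_fib f g s) inferInstance, h⟩⟩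
  simp_rw [key]
  exact FibreMapConstr.isLocallyConstructible_locallyQuasiFinite f g

theorem topologicalKrullDim_baseChange {Y' T T' : Scheme.{u}} {g : Y ⟶ T} {g' : Y' ⟶ T'} {e : Y' ⟶ Y} {h : T' ⟶ T}
    [IsIntegral T] [Subsingleton T] [IsIntegral T'] [Subsingleton T'] [LocallyOfFiniteType g]
    (sq : IsPullback e g' g h) : topologicalKrullDim ↥Y' = topologicalKrullDim ↥Y := by
  haveI := isIso_onePoint T (genericPoint T)
  haveI := isIso_onePoint T' (genericPoint T')
  haveI : Surjective e := (fieldQ_onePoint sq).1.1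
  let a := asIso (T.fromSpecResidueField (genericPoint T))
  let a' := asIso (T'.fromSpecResidueField (genericPoint T'))
  have sq' : IsPullback e (g' ≫ a'.inv) (g ≫ a.inv) (a'.hom ≫ h ≫ a.inv) :=
    sq.of_iso (Iso.refl _) (Iso.refl _) a'.symm a.symm (by simp) (by simp) (by simp) (by simp)
  rw [DimFormulaLib.topologicalKrullDim_eq_iSup_localDim, DimFormulaLib.topologicalKrullDim_eq_iSup_localDim]
  refine le_antisymm (iSup_le fun z => (LocDimBC.localDim_fieldExtension (k := T.residueField (genericPoint T))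
    (K := T'.residueField (genericPoint T')) sq' z).le.trans
    (le_iSup (fun x => FlatMor.localDim Y x) (e z))) (iSup_le fun x => ?_)
  obtain ⟨z, rfl⟩ := e.surjective x
  exact (LocDimBC.localDim_fieldExtension (k := T.residueField (genericPoint T))
    (K := T'.residueField (genericPoint T')) sq' z).ge.trans (le_iSup (fun x => FlatMor.localDim Y' x) z)

theorem isCons_dim (Φ : Set (WithBot ℕ∞)) :
    IsCons (fun Y _ _ => topologicalKrullDim ↥Y ∈ Φ : ∀ ⦃Y T : Scheme.{u}⦄, (Y ⟶ T) → Prop) := by
  refine ⟨fun Y Y' T T' g g' e h _ _ _ _ _ _ sq => ?_, fun X S f _ _ _ _ => ?_⟩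
  · show _ ∈ Φ ↔ _ ∈ Φ
    rw [topologicalKrullDim_baseChange sq]
  · haveI : LocallyOfFinitePresentation f := inferInstance
    obtain ⟨V, hV, hVE⟩ := FibLocus.exists_open_subset
      (NearGen.isLocallyConstructible_fibreDim f (topologicalKrullDim ↥(f.fiber (genericPoint S)))) rfl
    have hval : ∀ s ∈ V, topologicalKrullDim ↥(f.fiber s) = topologicalKrullDim ↥(f.fiber (genericPoint S)) :=
      fun s hs => hVE hs
    by_cases hd : topologicalKrullDim ↥(f.fiber (genericPoint S)) ∈ Φ
    · exact Or.inl (hV.mono (interior_maximal (fun s hs => show _ ∈ Φ from hval s hs ▸ hd) V.2))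
    · exact Or.inr (hV.mono (interior_maximal (fun s hs => show _ ∉ Φ from hval s hs ▸ hd) V.2))

end Groth.Agent.EtAlgEasy.MorFibre
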