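import Groth.Prelude.Def_OmegaPn
import Groth.Agent.PullbackMod.SkyStalk
import Groth.Agent.PullbackMod.Flat
import Mathlib

/-!
The image of `d^n` generates the sheaf of principal parts as a left module.
-/

set_option autoImplicit false
set_option backward.isDefEq.respectTransparency false

universe u

open CategoryTheory CategoryTheory.Limits AlgebraicGeometry TopologicalSpace Opposite

namespace Groth.Agent.EtAlgEasy.PrinPartGen

variable {X S : Scheme.{u}} (f : X ⟶ S) (n : ℕ)

theorem toNbhd_surjective : Function.Surjective (PrinPart.toNbhd f n) :=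
  PrinPart.toInfNbhd_surjective _ n

theorem isInducing_pr1 : Topology.IsInducing (PrinPart.pr1 f n) := by
  refine Topology.IsInducing.of_comp (PrinPart.pr1 f n).continuous (PrinPart.toNbhd f n).continuous ?_
  have : (⇑(PrinPart.toNbhd f n) ∘ ⇑(PrinPart.pr1 f n)) = id := by
    funext z
    obtain ⟨x, rfl⟩ := toNbhd_surjective f n z
    show PrinPart.toNbhd f n (PrinPart.pr1 f n _) = _
    rw [← Scheme.Hom.comp_apply (PrinPart.toNbhd f n), PrinPart.toNbhd_pr1]
    rfl
  rw [this]
  exact Topology.IsInducing.id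

theorem isInducing_toNbhd : Topology.IsInducing (PrinPart.toNbhd f n) := by
  refine Topology.IsInducing.of_comp (PrinPart.toNbhd f n).continuous (PrinPart.pr1 f n).continuous ?_
  have : (⇑(PrinPart.pr1 f n) ∘ ⇑(PrinPart.toNbhd f n)) = id := by
    funext x
    show PrinPart.pr1 f n (PrinPart.toNbhd f n x) = _
    rw [← Scheme.Hom.comp_apply, PrinPart.toNbhd_pr1]
    rfl
  rw [this]
  exact Topology.IsInducing.id

/-- The kernel of the augmentation on stalks is nil. -/
theorem isNilpotent_of_aug (x : X) (e : (PrinPart.nbhd f n).presheaf.stalk (PrinPart.toNbhd f n x))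
    (he : (PrinPart.toNbhd f n).stalkMap x e = 0) : IsNilpotent e := by
  let τ := PrinPart.toNbhd f n
  obtain ⟨U, hxU, h, rfl⟩ := TopCat.Presheaf.exists_germ_eq _ e
  rw [Scheme.Hom.germ_stalkMap_apply] at he
  obtain ⟨O, hxO, i1, i2, hO⟩ := X.presheaf.germ_eq (U := τ ⁻¹ᵁ U) (V := τ ⁻¹ᵁ U) x hxU hxU (τ.app U h) 0
    (he.trans (map_zero _).symm)
  obtain ⟨U'', hU'', hpre⟩ := (isInducing_toNbhd f n).isOpen_iff.1 O.2
  have hxU'' : τ x ∈ U'' := by
    have : x ∈ ⇑τ ⁻¹' U'' := by rw [hpre]; exact hxO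
    exact this
  obtain ⟨_, ⟨W, hW, rfl⟩, hxW, hWle⟩ := (PrinPart.nbhd f n).isBasis_affineOpens.exists_subset_of_mem_open
    (a := τ x) (u := (U : Set _) ∩ U'') ⟨hxU, hxU''⟩ (U.2.inter hU'')
  have hWU : W ≤ U := fun y hy => (hWle hy).1
  have hWO : τ ⁻¹ᵁ W ≤ O := fun y hy => by
    have : y ∈ ⇑τ ⁻¹' U'' := (hWle hy).2
    rw [hpre] at this
    exact this
  rw [← (PrinPart.nbhd f n).presheaf.germ_res_apply (homOfLE hWU) (τ x) hxW h]
  refine IsNilpotent.map ?_ _
  rw [Scheme.isNilpotent_iff_basicOpen_eq_bot_of_isCompact hW.isCompact]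
  ext y
  refine iff_of_false (fun hy => ?_) (fun hy => hy)
  obtain ⟨x', rfl⟩ := toNbhd_surjective f n y
  have hy' : x' ∈ τ ⁻¹ᵁ (PrinPart.nbhd f n).basicOpen ((PrinPart.nbhd f n).presheaf.map (homOfLE hWU).op h) := hy
  rw [Scheme.preimage_basicOpen] at hy'
  have hz : τ.app W ((PrinPart.nbhd f n).presheaf.map (homOfLE hWU).op h) = 0 := by
    have h1 := ConcreteCategory.congr_hom (τ.naturality (homOfLE hWU).op) h
    simp only [CommRingCat.comp_apply] at h1
    refine h1.trans ?_
    have h2 := congrArg (X.presheaf.map (homOfLE hWO).op) hO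
    rw [map_zero, map_zero, ← CommRingCat.comp_apply, ← Functor.map_comp] at h2
    exact h2
  rw [hz, Scheme.basicOpen_zero] at hy'
  exact hy'

/-- The subring generated by the two images of the stalks of `X`. -/
noncomputable def R0 (z : PrinPart.nbhd f n) : Subring ((PrinPart.nbhd f n).presheaf.stalk z) :=
  Subring.closure (Set.range ((PrinPart.pr1 f n).stalkMap z) ∪ Set.range ((PrinPart.pr2 f n).stalkMap z))

theorem mem_R0_of_pullback (z : PrinPart.nbhd f n) (r : (pullback f f).presheaf.stalk (PrinPart.nbhdι f n z)) :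
    ∃ t s : (PrinPart.nbhd f n).presheaf.stalk z, t ∈ R0 f n z ∧ s ∈ R0 f n z ∧ IsUnit s ∧
      (PrinPart.nbhdι f n).stalkMap z r * s = t := by
  let ι := PrinPart.nbhdι f n
  let w := ι z
  have hc : IsPullback (pullback.fst f f) (pullback.snd f f) f f := IsPullback.of_hasPullback f f
  obtain ⟨V, W, V', hV, hW, hV', e, e', hxW, hxV'⟩ := PullbackMod.exists_affines hc w
  obtain ⟨hW', hpo⟩ := PullbackMod.isPushout_appLE hc hV hW hV' e e'
  set W' := pullback.fst f f ⁻¹ᵁ W ⊓ pullback.snd f f ⁻¹ᵁ V'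
  have hw : w ∈ W' := ⟨hxW, hxV'⟩
  letI : Algebra Γ(S, V) Γ(X, W) := (f.appLE V W e).hom.toAlgebra
  letI : Algebra Γ(S, V) Γ(X, V') := (f.appLE V V' e').hom.toAlgebra
  letI : Algebra Γ(X, W) Γ(pullback f f, W') := ((pullback.fst f f).appLE W W' inf_le_left).hom.toAlgebra
  letI : Algebra Γ(X, V') Γ(pullback f f, W') := ((pullback.snd f f).appLE V' W' inf_le_right).hom.toAlgebra
  let γ : Γ(pullback f f, W') →+* (PrinPart.nbhd f n).presheaf.stalk z :=
    ((pullback f f).presheaf.germ W' w hw ≫ ι.stalkMap z).hom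
  have h1 : ∀ a : Γ(X, W), γ (algebraMap Γ(X, W) Γ(pullback f f, W') a) ∈ R0 f n z := fun a => by
    refine Subring.subset_closure (Or.inl ?_)
    refine ⟨X.presheaf.germ W (PrinPart.pr1 f n z) hxW a, ?_⟩
    rw [PullbackMod.germ_stalkMap_appLE (PrinPart.pr1 f n) z hxW (W' := ι ⁻¹ᵁ W') hw
      (fun y hy => hy.1) a]
    show _ = ι.stalkMap z ((pullback f f).presheaf.germ W' w hw _)
    rw [PullbackMod.germ_stalkMap_appLE ι z hw hw le_rfl]
    congr 1
    exact (ConcreteCategory.congr_hom (Scheme.Hom.appLE_comp_appLE ι (pullback.fst f f) W W' (ι ⁻¹ᵁ W') inf_le_left le_rfl) a).symm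
  have h2 : ∀ a : Γ(X, V'), γ (algebraMap Γ(X, V') Γ(pullback f f, W') a) ∈ R0 f n z := fun a => by
    refine Subring.subset_closure (Or.inr ?_)
    refine ⟨X.presheaf.germ V' (PrinPart.pr2 f n z) hxV' a, ?_⟩
    rw [PullbackMod.germ_stalkMap_appLE (PrinPart.pr2 f n) z hxV' (W' := ι ⁻¹ᵁ W') hw
      (fun y hy => hy.2) a]
    show _ = ι.stalkMap z ((pullback f f).presheaf.germ W' w hw _)
    rw [PullbackMod.germ_stalkMap_appLE ι z hw hw le_rfl]
    congr 1
    exact (ConcreteCategory.congr_hom (Scheme.Hom.appLE_comp_appLE ι (pullback.snd f f) V' W' (ι ⁻¹ᵁ W') inf_le_right le_rfl) a).symm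
  have hall : ∀ b : Γ(pullback f f, W'), γ b ∈ R0 f n z := by
    letI : Algebra Γ(S, V) Γ(pullback f f, W') :=
      (((pullback.fst f f).appLE W W' inf_le_left).hom.comp (f.appLE V W e).hom).toAlgebra
    haveI : IsScalarTower Γ(S, V) Γ(X, W) Γ(pullback f f, W') := .of_algebraMap_eq fun _ => rfl
    haveI : IsScalarTower Γ(S, V) Γ(X, V') Γ(pullback f f, W') := .of_algebraMap_eq' (by
      show ((f.appLE V W e) ≫ (pullback.fst f f).appLE W _ inf_le_left).hom =
        ((f.appLE V V' e') ≫ (pullback.snd f f).appLE V' _ inf_le_right).hom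
      simp only [Scheme.Hom.appLE_comp_appLE, hc.w])
    haveI : Algebra.IsPushout Γ(S, V) Γ(X, V') Γ(X, W) Γ(pullback f f, W') := hpo
    intro b
    induction b using hpo.out.inductionOn with
    | zero => rw [map_zero]; exact zero_mem _
    | tmul m => exact h1 m
    | smul s b hb =>
      rw [Algebra.smul_def, map_mul]
      exact mul_mem (h2 s) hb
    | add b₁ b₂ hb₁ hb₂ => rw [map_add]; exact add_mem hb₁ hb₂
  letI : Algebra Γ(pullback f f, W') ((pullback f f).presheaf.stalk w) :=
    ((pullback f f).presheaf.germ W' w hw).hom.toAlgebra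
  haveI := hW'.isLocalization_stalk ⟨w, hw⟩
  obtain ⟨⟨t, s⟩, hts⟩ := IsLocalization.surj (hW'.primeIdealOf ⟨w, hw⟩).asIdeal.primeCompl r
  refine ⟨γ t, γ s, hall _, hall _, ?_, ?_⟩
  · exact (IsLocalization.map_units ((pullback f f).presheaf.stalk w) s).map (ι.stalkMap z).hom
  · exact (map_mul (ι.stalkMap z).hom r _).symm.trans (congrArg (ι.stalkMap z) hts)

theorem R0_eq_top (z : PrinPart.nbhd f n) : R0 f n z = ⊤ := by
  rw [eq_top_iff]
  intro q _
  haveI : IsPreimmersion (PrinPart.nbhdι f n) := by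
    unfold PrinPart.nbhdι PrinPart.infNbhdι; infer_instance
  obtain ⟨r, rfl⟩ := (PrinPart.nbhdι f n).stalkMap_surjective z q
  obtain ⟨t, s, ht, hs, hu, hts⟩ := mem_R0_of_pullback f n z r
  obtain ⟨x, rfl⟩ := toNbhd_surjective f n z
  let τ := PrinPart.toNbhd f n
  let σ := (PrinPart.pr1 f n).stalkMap (τ x)
  haveI : IsIso (τ ≫ PrinPart.pr1 f n) := by rw [PrinPart.toNbhd_pr1]; infer_instance
  have hbij : Function.Bijective (fun a => τ.stalkMap x (σ a)) := by
    have := ConcreteCategory.bijective_of_isIso ((τ ≫ PrinPart.pr1 f n).stalkMap x)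
    rw [Scheme.Hom.stalkMap_comp] at this
    exact this
  obtain ⟨a, ha⟩ := hbij.2 (τ.stalkMap x s)
  have hua : IsUnit a := by
    have hu1 : IsUnit (τ.stalkMap x (σ a)) := by
      have ha' : τ.stalkMap x (σ a) = τ.stalkMap x s := ha
      rw [ha']; exact hu.map (τ.stalkMap x).hom
    haveI : IsLocalHom (σ ≫ τ.stalkMap x).hom := by
      rw [← Scheme.Hom.stalkMap_comp]; infer_instance
    exact (isUnit_map_iff (σ ≫ τ.stalkMap x).hom a).1 hu1
  obtain ⟨a', ha'⟩ := hua.exists_left_inv
  set e := σ a' * s - 1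
  have he : IsNilpotent e := by
    refine isNilpotent_of_aug f n x e ?_
    show τ.stalkMap x (σ a' * s - 1) = 0
    rw [map_sub, map_mul, map_one, ← show τ.stalkMap x (σ a) = τ.stalkMap x s from ha, ← map_mul,
      ← map_mul, ha', map_one, map_one, sub_self]
  have heR : e ∈ R0 f n (τ x) := sub_mem (mul_mem (Subring.subset_closure (Or.inl ⟨a', rfl⟩)) hs) (one_mem _)
  have he' : IsNilpotent (⟨e, heR⟩ : R0 f n (τ x)) := by
    obtain ⟨k, hk⟩ := he
    exact ⟨k, Subtype.ext (by simpa using hk)⟩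
  obtain ⟨⟨v, hvR⟩, hv⟩ := he'.isUnit_one_add.exists_left_inv
  have hv' : v * (σ a' * s) = 1 := by
    have h := congrArg Subtype.val hv
    simpa [e] using h
  have : (PrinPart.nbhdι f n).stalkMap (τ x) r = t * (v * σ a') := by
    rw [← hts]
    calc _ = (PrinPart.nbhdι f n).stalkMap (τ x) r * (v * (σ a' * s)) := by rw [hv', mul_one]
      _ = _ := by ring
  rw [this]
  exact mul_mem ht (mul_mem hvR (Subring.subset_closure (Or.inl ⟨a', rfl⟩)))

/-- Two linear maps out of the principal parts agreeing on the image of `d^n` are equal. -/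
theorem hom_ext {F G : X.Modules} (a b : PrinPart.PMod f n F ⟶ G)
    (h : ∀ (U : X.Opens) (t : Γ(F, U)), a.app U (PrinPart.dP f n F U t) = b.app U (PrinPart.dP f n F U t)) :
    a = b := by
  have h0 : ∀ c : PrinPart.PMod f n F ⟶ G,
      (∀ (U : X.Opens) (t : Γ(F, U)), c.app U (PrinPart.dP f n F U t) = 0) → c = 0 := by
    intro c hc
    let p := PrinPart.pr1 f n
    let q := PrinPart.pr2 f n
    let L := (Scheme.Modules.pullback q).obj F
    refine Scheme.Modules.hom_ext _ _ fun U => AddCommGrpCat.hom_ext (AddMonoidHom.ext fun m => ?_)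
    refine TopCat.Presheaf.section_ext ⟨G.presheaf, G.isSheaf⟩ U _ _ fun x hx => ?_
    obtain ⟨z, hz⟩ : ∃ z, p z = x := ⟨PrinPart.toNbhd f n x, by
      rw [← Scheme.Hom.comp_apply, PrinPart.toNbhd_pr1]; rfl⟩
    subst hz
    haveI : IsIso (TopCat.Presheaf.stalkPushforward Ab p.base L.presheaf z) :=
      TopCat.Presheaf.stalkPushforward.stalkPushforward_iso_of_isInducing Ab (f := p.base) (isInducing_pr1 f n) _ _
    let φ : L.presheaf.stalk z →+ G.presheaf.stalk (p z) :=
      (inv (TopCat.Presheaf.stalkPushforward Ab p.base L.presheaf z) ≫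
        (TopCat.Presheaf.stalkFunctor Ab (p z)).map c.mapPresheaf).hom
    have hφ : ∀ (V : X.Opens) (hV : p z ∈ V) (m : Γ(L, p ⁻¹ᵁ V)),
        φ (L.presheaf.germ (p ⁻¹ᵁ V) z hV m) = G.presheaf.germ V (p z) hV (c.app V m) := by
      intro V hV m
      have h1 : inv (TopCat.Presheaf.stalkPushforward Ab p.base L.presheaf z)
          (L.presheaf.germ (p ⁻¹ᵁ V) z hV m) =
          TopCat.Presheaf.germ (p.base _* L.presheaf) V (p z) hV m := by
        refine (ConcreteCategory.bijective_of_isIso (TopCat.Presheaf.stalkPushforward Ab p.base L.presheaf z)).1 ?_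
        rw [← ConcreteCategory.comp_apply, IsIso.inv_hom_id]
        exact (ConcreteCategory.congr_hom (TopCat.Presheaf.stalkPushforward_germ Ab p.base L.presheaf V z hV) m).symm
      show (TopCat.Presheaf.stalkFunctor Ab (p z)).map c.mapPresheaf
        (inv (TopCat.Presheaf.stalkPushforward Ab p.base L.presheaf z) _) = _
      rw [h1]
      exact TopCat.Presheaf.stalkFunctor_map_germ_apply V (p z) hV c.mapPresheaf m
    have hrep : ∀ w : L.presheaf.stalk z, ∃ (V : X.Opens) (hV : p z ∈ V) (m : Γ(L, p ⁻¹ᵁ V)),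
        L.presheaf.germ (p ⁻¹ᵁ V) z hV m = w := by
      intro w
      obtain ⟨V, hV, m, hm⟩ := TopCat.Presheaf.exists_germ_eq (p.base _* L.presheaf)
        (inv (TopCat.Presheaf.stalkPushforward Ab p.base L.presheaf z) w)
      refine ⟨V, hV, m, ?_⟩
      have := congrArg (TopCat.Presheaf.stalkPushforward Ab p.base L.presheaf z) hm
      rw [← ConcreteCategory.comp_apply _ (TopCat.Presheaf.stalkPushforward Ab p.base L.presheaf z) w,
        IsIso.inv_hom_id] at this
      exact (ConcreteCategory.congr_hom (TopCat.Presheaf.stalkPushforward_germ Ab p.base L.presheaf V z hV) m).symm.trans this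
    have hlin : ∀ (a : X.presheaf.stalk (p z)) (w : L.presheaf.stalk z),
        φ (p.stalkMap z a • w) = a • φ w := by
      intro a w
      obtain ⟨V, hV, m, rfl⟩ := hrep w
      obtain ⟨V', hV', a, rfl⟩ := TopCat.Presheaf.exists_germ_eq X.presheaf a
      have hV'' : p z ∈ V' ⊓ V := ⟨hV', hV⟩
      have e2 : p ⁻¹ᵁ (V' ⊓ V) ≤ p ⁻¹ᵁ V := fun y hy => hy.2
      rw [← X.presheaf.germ_res_apply (homOfLE (inf_le_left : V' ⊓ V ≤ V')) (p z) hV'' a,
        ← L.presheaf.germ_res_apply (homOfLE e2) z hV'' m]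
      set a' := X.presheaf.map (homOfLE (inf_le_left : V' ⊓ V ≤ V')).op a
      set m' := L.presheaf.map (homOfLE e2).op m
      rw [Scheme.Hom.germ_stalkMap_apply]
      erw [← PresheafOfModules.germ_smul (R := (PrinPart.nbhd f n).presheaf) L.val z (p ⁻¹ᵁ (V' ⊓ V)) hV'']
      refine (hφ _ hV'' _).trans ?_
      rw [show c.app (V' ⊓ V) (p.app (V' ⊓ V) a' • m') = a' • c.app (V' ⊓ V) m' from
        Scheme.Modules.Hom.app_smul c a' m']
      refine (PresheafOfModules.germ_smul (R := X.presheaf) G.val (p z) (V' ⊓ V) hV'' a' _).trans ?_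
      exact congrArg _ (hφ _ hV'' m').symm
    have hgen : ∀ (a : F.presheaf.stalk (q z)), φ (PullbackMod.pullStalk q F z a) = 0 := by
      intro a
      obtain ⟨V, hV, t, rfl⟩ := TopCat.Presheaf.exists_germ_eq F.presheaf a
      have hV' : p z ∈ V := by
        show PrinPart.pr1 f n z ∈ V
        rw [PrinPart.pr1_apply]; exact hV
      rw [PullbackMod.pullStalk_germ q F z hV t]
      rw [← L.presheaf.germ_res_apply (homOfLE (PrinPart.preimage_pr1 f n V).le) z hV']
      refine (hφ V hV' _).trans ?_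
      show G.presheaf.germ V (p z) hV' (c.app V (PrinPart.dP f n F V t)) = 0
      rw [hc, map_zero]
    let K : AddSubgroup ((PrinPart.nbhd f n).presheaf.stalk z) :=
      { carrier := {r | ∀ a : F.presheaf.stalk (q z), φ (r • PullbackMod.pullStalk q F z a) = 0}
        zero_mem' := fun a => by rw [zero_smul, map_zero]
        add_mem' := fun ha hb a => by rw [add_smul, map_add, ha a, hb a, add_zero]
        neg_mem' := fun ha a => by rw [neg_smul, map_neg, ha a, neg_zero] }
    let M : Subring ((PrinPart.nbhd f n).presheaf.stalk z) :=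
      { carrier := {r | ∀ k ∈ K, r * k ∈ K}
        one_mem' := fun k hk => by rwa [one_mul]
        mul_mem' := fun ha hb k hk => by rw [mul_assoc]; exact ha _ (hb _ hk)
        zero_mem' := fun k _ => by rw [zero_mul]; exact zero_mem K
        add_mem' := fun ha hb k hk => by rw [add_mul]; exact add_mem (ha _ hk) (hb _ hk)
        neg_mem' := fun ha k hk => by rw [neg_mul]; exact neg_mem (ha _ hk) }
    have hM : R0 f n z ≤ M := by
      refine Subring.closure_le.2 ?_
      rintro _ (⟨a, rfl⟩ | ⟨a, rfl⟩) k hk b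
      · show φ ((p.stalkMap z a * k) • PullbackMod.pullStalk q F z b) = 0
        rw [mul_smul, hlin, hk b, smul_zero]
      · show φ ((q.stalkMap z a * k) • PullbackMod.pullStalk q F z b) = 0
        rw [mul_comm, mul_smul, ← PullbackMod.pullStalk_smul]
        exact hk _
    have hall : ∀ r, r ∈ K := fun r => by
      have hr : r ∈ M := hM (by rw [R0_eq_top]; trivial)
      have h1 : (1 : (PrinPart.nbhd f n).presheaf.stalk z) ∈ K := fun a => by rw [one_smul]; exact hgen a
      simpa using hr 1 h1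
    letI : Algebra (X.presheaf.stalk (q z)) ((PrinPart.nbhd f n).presheaf.stalk z) := (q.stalkMap z).hom.toAlgebra
    letI := Module.compHom (L.presheaf.stalk z) (q.stalkMap z).hom
    haveI : IsScalarTower (X.presheaf.stalk (q z)) ((PrinPart.nbhd f n).presheaf.stalk z) (L.presheaf.stalk z) :=
      .of_algebraMap_smul fun _ _ => rfl
    have hzero : ∀ w, φ w = 0 := by
      intro w
      have key : ∀ r : (PrinPart.nbhd f n).presheaf.stalk z, φ (r • w) = 0 := by
        induction w using (PullbackMod.isBaseChange_pullStalkL' q F z).inductionOn with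
        | zero => intro r; rw [smul_zero, map_zero]
        | tmul a => intro r; exact hall r a
        | smul s w hw => intro r; rw [smul_smul]; exact hw _
        | add w₁ w₂ h₁ h₂ => intro r; rw [smul_add, map_add, h₁, h₂, add_zero]
      simpa using key 1
    show G.presheaf.germ U (p z) hx (c.app U m) = G.presheaf.germ U (p z) hx ((0 : PrinPart.PMod f n F ⟶ G).app U m)
    refine (hφ U hx m).symm.trans ?_
    rw [hzero]
    exact (map_zero _).symm
  rw [← sub_eq_zero]
  exact h0 _ fun U t => by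
    show a.app U _ - b.app U _ = 0
    rw [h U t, sub_self]

end Groth.Agent.EtAlgEasy.PrinPartGen
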