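import Groth.Agent.EtAlgEasy.PrinPartSym
import Groth.Agent.EtAlgEasy.PrinPartGen
import Groth.Agent.PullbackMod.Hom
import Groth.Agent.AmpleLib.Pullback
import Groth.Agent.ParaFLib.Stalk
import Mathlib

/-!
If `P^n` is flat then `F ↦ P^n(F)` is exact.
-/

set_option autoImplicit false
set_option backward.isDefEq.respectTransparency false

universe u

open CategoryTheory CategoryTheory.Limits AlgebraicGeometry TopologicalSpace Opposite

namespace Groth.Agent.EtAlgEasy.PrinPartFlat

theorem flat_stalkMap_of_flatAt {Z X : Scheme.{u}} (p : Z ⟶ X) (hp : Topology.IsInducing p) (z : Z)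
    (h : FlatMod.IsFlatAt ((Scheme.Modules.pushforward p).obj (Coh.structureModule Z)) (p z)) :
    (p.stalkMap z).hom.Flat := by
  let O := Coh.structureModule Z
  let P := (Scheme.Modules.pushforward p).obj O
  haveI : IsIso (TopCat.Presheaf.stalkPushforward Ab p.base O.presheaf z) :=
    TopCat.Presheaf.stalkPushforward.stalkPushforward_iso_of_isInducing Ab (f := p.base) hp _ _
  letI : Algebra (X.presheaf.stalk (p z)) (Z.presheaf.stalk z) := (p.stalkMap z).hom.toAlgebra
  letI : Module (X.presheaf.stalk (p z)) (O.presheaf.stalk z) := FlatMod.moduleStalkOver p O z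
  let β : P.presheaf.stalk (p z) →+ O.presheaf.stalk z :=
    (TopCat.Presheaf.stalkPushforward Ab p.base O.presheaf z).hom
  have hg : ∀ (V : X.Opens) (hV : p z ∈ V) (s : Γ(P, V)),
      β (P.presheaf.germ V (p z) hV s) = O.presheaf.germ (p ⁻¹ᵁ V) z hV s := fun V hV s =>
    ConcreteCategory.congr_hom (TopCat.Presheaf.stalkPushforward_germ Ab p.base O.presheaf V z hV) s
  have hlin : ∀ (a : X.presheaf.stalk (p z)) (w : P.presheaf.stalk (p z)), β (a • w) = a • β w := by
    intro a w
    obtain ⟨V, hV, a, rfl⟩ := TopCat.Presheaf.exists_germ_eq X.presheaf a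
    obtain ⟨W, hW, s, rfl⟩ := TopCat.Presheaf.exists_germ_eq P.presheaf w
    have hx : p z ∈ V ⊓ W := ⟨hV, hW⟩
    rw [← X.presheaf.germ_res_apply (homOfLE (inf_le_left : V ⊓ W ≤ V)) (p z) hx a,
      ← P.presheaf.germ_res_apply (homOfLE (inf_le_right : V ⊓ W ≤ W)) (p z) hx s]
    set a' := X.presheaf.map (homOfLE (inf_le_left : V ⊓ W ≤ V)).op a
    set s' := P.presheaf.map (homOfLE (inf_le_right : V ⊓ W ≤ W)).op s
    erw [← PresheafOfModules.germ_smul (R := X.presheaf) P.val (p z) (V ⊓ W) hx]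
    refine (hg _ hx _).trans ?_
    show O.presheaf.germ (p ⁻¹ᵁ (V ⊓ W)) z hx (p.app (V ⊓ W) a' • (show Γ(O, p ⁻¹ᵁ (V ⊓ W)) from s')) =
      p.stalkMap z (X.presheaf.germ (V ⊓ W) (p z) hx a') • β (P.presheaf.germ (V ⊓ W) (p z) hx s')
    rw [hg, Scheme.Hom.germ_stalkMap_apply]
    exact PresheafOfModules.germ_smul (R := Z.presheaf) O.val z (p ⁻¹ᵁ (V ⊓ W)) hx _ _
  let e : P.presheaf.stalk (p z) ≃ₗ[X.presheaf.stalk (p z)] O.presheaf.stalk z :=
    LinearEquiv.ofBijective { β with map_smul' := hlin }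
      (ConcreteCategory.bijective_of_isIso (TopCat.Presheaf.stalkPushforward Ab p.base O.presheaf z))
  haveI : Module.Flat (X.presheaf.stalk (p z)) (P.presheaf.stalk (p z)) := h
  haveI hO : Module.Flat (X.presheaf.stalk (p z)) (O.presheaf.stalk z) := Module.Flat.of_linearEquiv e.symm
  let l : Z.presheaf.stalk z →ₗ[X.presheaf.stalk (p z)] O.presheaf.stalk z :=
    { toFun := fun r => r • ParaFLib.oneG z
      map_add' := fun a b => add_smul a b _
      map_smul' := fun a r => mul_smul (p.stalkMap z a) r _ }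
  let e2 := LinearEquiv.ofBijective l (ParaFLib.bijective_oneG z)
  show @Module.Flat _ _ _ _ (p.stalkMap z).hom.toAlgebra.toModule
  exact Module.Flat.of_linearEquiv e2

theorem isFlatAt_of_iso {X : Scheme.{u}} {M N : X.Modules} (e : M ≅ N) (x : X) (h : FlatMod.IsFlatAt M x) :
    FlatMod.IsFlatAt N x := by
  have h1 : ∀ w, PullbackMod.stalkLin e.hom x (PullbackMod.stalkLin e.inv x w) = w := fun w => by
    obtain ⟨U, hU, s, rfl⟩ := TopCat.Presheaf.exists_germ_eq N.presheaf w
    rw [PullbackMod.stalkLin_germ, PullbackMod.stalkLin_germ]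
    show N.presheaf.germ U x hU ((e.inv ≫ e.hom).app U s) = _
    rw [e.inv_hom_id]
    rfl
  have h2 : ∀ w, PullbackMod.stalkLin e.inv x (PullbackMod.stalkLin e.hom x w) = w := fun w => by
    obtain ⟨U, hU, s, rfl⟩ := TopCat.Presheaf.exists_germ_eq M.presheaf w
    rw [PullbackMod.stalkLin_germ, PullbackMod.stalkLin_germ]
    show M.presheaf.germ U x hU ((e.hom ≫ e.inv).app U s) = _
    rw [e.hom_inv_id]
    rfl
  let l : M.presheaf.stalk x ≃ₗ[X.presheaf.stalk x] N.presheaf.stalk x :=
    { PullbackMod.stalkLin e.hom x with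
      invFun := PullbackMod.stalkLin e.inv x
      left_inv := h2
      right_inv := h1 }
  haveI : Module.Flat (X.presheaf.stalk x) (M.presheaf.stalk x) := h
  exact Module.Flat.of_linearEquiv l.symm

theorem preservesFiniteLimits_pullback_of_flat {X Y : Scheme.{u}} (g : Y ⟶ X) [Flat g] :
    PreservesFiniteLimits (Scheme.Modules.pullback g) := by
  haveI : (Scheme.Modules.pullback g).Additive := inferInstance
  have h1 : ∀ S : ShortComplex X.Modules, S.ShortExact → (S.map (Scheme.Modules.pullback g)).ShortExact := by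
    intro S hS
    haveI := hS.epi_g
    haveI := hS.mono_f
    haveI : Mono ((Scheme.Modules.pullback g).map S.f) := PullbackMod.mono_map_pullback g S.f
    exact { exact := hS.exact.map_of_epi_of_preservesCokernel (Scheme.Modules.pullback g) hS.epi_g inferInstance
            mono_f := inferInstanceAs (Mono ((Scheme.Modules.pullback g).map S.f))
            epi_g := inferInstanceAs (Epi ((Scheme.Modules.pullback g).map S.g)) }
  have h3 : PreservesFiniteLimits (Scheme.Modules.pullback g) ∧ PreservesFiniteColimits (Scheme.Modules.pullback g) :=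
    ((Functor.exact_tfae (Scheme.Modules.pullback g)).out 0 3).1 h1
  exact h3.1

theorem preservesFiniteLimits {X S : Scheme.{u}} (f : X ⟶ S) (n : ℕ) (hP : FlatMod.IsFlat (PrinPart.P f n)) :
    PreservesFiniteLimits
      ((Scheme.Modules.pullback (PrinPart.pr2 f n)) ⋙ (Scheme.Modules.pushforward (PrinPart.pr1 f n))) := by
  haveI : Flat (PrinPart.pr1 f n) := (Flat.iff_flat_stalkMap _).2 fun z => by
    refine flat_stalkMap_of_flatAt _ (PrinPartGen.isInducing_pr1 f n) z ?_
    exact isFlatAt_of_iso ((Scheme.Modules.pushforward (PrinPart.pr1 f n)).mapIso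
      (AmpleLib.pullO (PrinPart.pr2 f n))) _ (hP _)
  obtain ⟨σ, -, hσσ, hσ1, -, -⟩ := PrinPartSym.exists_sigma f n
  haveI : IsIso σ := ⟨σ, hσσ, hσσ⟩
  haveI : Flat (PrinPart.pr2 f n) := hσ1 ▸ inferInstance
  haveI := preservesFiniteLimits_pullback_of_flat (PrinPart.pr2 f n)
  haveI : (Scheme.Modules.pushforward (PrinPart.pr1 f n)).IsRightAdjoint :=
    (Scheme.Modules.pullbackPushforwardAdjunction (PrinPart.pr1 f n)).isRightAdjoint
  exact comp_preservesFiniteLimits _ _

end Groth.Agent.EtAlgEasy.PrinPartFlat
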