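import Mathlib

/-!
# Absolutely flat rings
-/

set_option autoImplicit false
set_option linter.style.haveILetI false

universe u

open TensorProduct

namespace Groth.Agent.EtAlgEasy

variable (A : Type u) [CommRing A]

theorem isField_localization_of_vnr (h : ∀ x : A, ∃ y, x * x * y = x) (p : Ideal A) [p.IsPrime] :
    IsField (Localization.AtPrime p) := by
  rw [IsLocalRing.isField_iff_maximalIdeal_eq, Submodule.eq_bot_iff]
  intro z hz
  obtain ⟨x, s, rfl⟩ := IsLocalization.exists_mk'_eq p.primeCompl z
  rw [IsLocalization.AtPrime.mk'_mem_maximal_iff _ p] at hz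
  obtain ⟨y, hy⟩ := h x
  rw [IsLocalization.mk'_eq_zero_iff]
  refine ⟨⟨1 - x * y, fun hp => ‹p.IsPrime›.ne_top ((Ideal.eq_top_iff_one _).2 ?_)⟩, ?_⟩
  · simpa using p.add_mem hp (p.mul_mem_right y hz)
  · show (1 - x * y) * x = 0
    linear_combination -hy

theorem flat_of_isField_localization (h : ∀ (p : Ideal A) [p.IsPrime], IsField (Localization.AtPrime p))
    (M : Type u) [AddCommGroup M] [Module A M] : Module.Flat A M := by
  refine Module.flat_of_localized_maximal (R := A) (M := M) fun P _ => ?_
  letI := (h P).toField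
  haveI : Module.Flat (Localization.AtPrime P) (LocalizedModule P.primeCompl M) := inferInstance
  first
    | exact inferInstance
    | exact Module.Flat.trans A (Localization.AtPrime P) _

theorem absolutelyFlat_tfae :
    List.TFAE [∀ (M : Type u) [AddCommGroup M] [Module A M], Module.Flat A M,
      IsReduced A ∧ ∀ p : Ideal A, p.IsPrime → p.IsMaximal,
      ∀ (p : Ideal A) [p.IsPrime], IsField (Localization.AtPrime p)] := by
  tfae_have 3 → 1 := fun h M _ _ => flat_of_isField_localization A h M
  tfae_have 1 → 2 := fun h => by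
    have hv : ∀ x : A, ∃ y, x * x * y = x := fun x => by
      let I := Ideal.span {x}
      haveI := h (A ⧸ I)
      have hxI : x ∈ I := Ideal.mem_span_singleton_self x
      have hinj := Module.Flat.rTensor_preserves_injective_linearMap (M := A ⧸ I) (Submodule.subtype I) Subtype.val_injective
      have h0 : (⟨x, hxI⟩ : I) ⊗ₜ[A] (1 : A ⧸ I) = 0 := hinj (by
        rw [LinearMap.rTensor_tmul, map_zero]
        show x ⊗ₜ[A] (1 : A ⧸ I) = 0
        have hx1 : x • (1 : A) = x := by simp
        rw [← hx1, TensorProduct.smul_tmul, Algebra.smul_def, mul_one, Ideal.Quotient.algebraMap_eq,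
          Ideal.Quotient.eq_zero_iff_mem.2 hxI, TensorProduct.tmul_zero])
      have h1 := congrArg (TensorProduct.tensorQuotEquivQuotSMul I I) h0
      rw [map_zero] at h1
      have h2 : (⟨x, hxI⟩ : I) ∈ I • (⊤ : Submodule A I) := by
        rw [← Submodule.Quotient.mk_eq_zero, ← h1]
        have h3 := TensorProduct.tensorQuotEquivQuotSMul_tmul_mk (M := I) I ⟨x, hxI⟩ (1 : A)
        rw [one_smul] at h3
        exact h3.symm.trans (by rw [← map_one (Ideal.Quotient.mk I)])
      rw [Submodule.mem_smul_top_iff, smul_eq_mul, Ideal.span_singleton_mul_span_singleton, Ideal.mem_span_singleton'] at h2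
      obtain ⟨y, hy⟩ := h2
      exact ⟨y, by rw [mul_comm] at hy; exact hy⟩
    refine ⟨(isReduced_iff A).2 fun x hx => ?_, fun p hp => Ideal.isMaximal_def.2 ⟨hp.ne_top, fun J hJ => ?_⟩⟩
    · obtain ⟨n, hn⟩ := hx
      obtain ⟨y, hy⟩ := hv x
      have key : ∀ m, x = x ^ (m + 1) * y ^ m := fun m => by
        induction m with
        | zero => simp
        | succ m ih =>
          calc x = x ^ (m + 1) * y ^ m := ih
            _ = x ^ m * (x * x * y) * y ^ m := by rw [hy, pow_succ]
            _ = x ^ (m + 1 + 1) * y ^ (m + 1) := by ring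
      rw [key n, pow_succ, hn]
      ring
    · obtain ⟨x, hxJ, hxp⟩ := SetLike.exists_of_lt hJ
      obtain ⟨y, hy⟩ := hv x
      have : 1 - x * y ∈ p := (hp.mem_or_mem (show (1 - x * y) * x ∈ p by
        rw [show (1 - x * y) * x = 0 by linear_combination -hy]; exact p.zero_mem)).resolve_right hxp
      rw [Ideal.eq_top_iff_one]
      simpa using J.add_mem (hJ.le this) (J.mul_mem_right y hxJ)
  tfae_have 2 → 3 := fun ⟨_, hmax⟩ p _ => by
    haveI : IsReduced (Localization.AtPrime p) := isReduced_localizationPreserves p.primeCompl (Localization.AtPrime p) inferInstance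
    haveI : Ring.KrullDimLE 0 A := Ring.krullDimLE_zero_iff.2 hmax
    haveI : Ring.KrullDimLE 0 (Localization.AtPrime p) := Ring.krullDimLE_zero_iff.2 fun Q hQ => by
      have hQp : Q.comap (algebraMap A _) ≤ p := fun x hx => by
        by_contra hxp
        exact Set.disjoint_left.1 ((IsLocalization.isPrime_iff_isPrime_disjoint p.primeCompl _ Q).1 hQ).2 hxp hx
      haveI : (Q.comap (algebraMap A (Localization.AtPrime p))).IsPrime := hQ.comap _
      have he := (hmax _ inferInstance).eq_of_le ‹p.IsPrime›.ne_top hQp
      have : Q = IsLocalRing.maximalIdeal _ := by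
        rw [← IsLocalization.map_comap p.primeCompl _ Q, ← Localization.AtPrime.map_eq_maximalIdeal]
        exact congrArg (Ideal.map _) he
      rw [this]
      infer_instance
    exact Ring.KrullDimLE.isField_of_isReduced
  tfae_finish

theorem flat_pi_field (ι : Type u) (K : ι → Type u) [∀ i, Field (K i)] (M : Type u)
    [AddCommGroup M] [Module (∀ i, K i) M] : Module.Flat (∀ i, K i) M :=
  flat_of_isField_localization _ (fun p _ => isField_localization_of_vnr _ (fun x => ⟨fun i => (x i)⁻¹, funext fun i => by
    by_cases hi : x i = 0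
    · simp [hi]
    · simp [hi]⟩) p) M

end Groth.Agent.EtAlgEasy
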