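import Groth.Agent.EtAlgEasy.OmegaSmooth
import Groth.Agent.FlatLocus.FreeNhd
import Mathlib

/-!
Local freeness of differentials and conormal sheaves for formally smooth morphisms.
-/

set_option autoImplicit false
set_option backward.isDefEq.respectTransparency false
set_option backward.defeqAttrib.useBackward true
set_option linter.style.haveILetI false

universe u

open CategoryTheory CategoryTheory.Limits AlgebraicGeometry TopologicalSpace Opposite
open scoped TensorProduct
open Groth.Agent.OmegaUnivLib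

namespace Groth.Agent.EtAlgEasy.OmegaSmooth

/-- A retraction of the conormal map exists when the quotient is formally smooth. -/
theorem injective_kerCotangentToTensor {R P S : Type u} [CommRing R] [CommRing P] [CommRing S] [Algebra R P]
    [Algebra R S] [Algebra P S] [IsScalarTower R P S] (hf : Function.Surjective (algebraMap P S))
    [Algebra.FormallySmooth R S] : Function.Injective (KaehlerDifferential.kerCotangentToTensor R P S) := by
  let f := IsScalarTower.toAlgHom R P S
  have hk : Function.Surjective f.kerSquareLift := fun s => by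
    obtain ⟨p, hp⟩ := hf s
    exact ⟨Ideal.Quotient.mk _ p, hp⟩
  have hker := AlgHom.ker_kerSquareLift f
  have hn : IsNilpotent (RingHom.ker f.kerSquareLift.toRingHom) :=
    ⟨2, by rw [hker]; exact Ideal.cotangentIdeal_square _⟩
  let g := Algebra.FormallySmooth.liftOfSurjective (AlgHom.id R S) f.kerSquareLift hk hn
  have hg := Algebra.FormallySmooth.comp_liftOfSurjective (AlgHom.id R S) f.kerSquareLift hk hn
  let e := (retractionKerCotangentToTensorEquivSection (R := R) (P := P) (S := S) hf).symm ⟨g, hg⟩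
  exact Function.LeftInverse.injective (g := e.1) fun x => LinearMap.congr_fun e.2 x

theorem mono_conormalDiff {Z X Y : Scheme.{u}} (i : Z ⟶ X) [IsImmersion i] [QuasiCompact i] (p : X ⟶ Y)
    (hf : MoreMor.IsFormallySmoothHom (i ≫ p)) {Ω : X.Modules} {d : OmegaSh.Der p Ω} (hd : OmegaSh.IsUniversal d)
    (φ : Omega.conormal i ⟶ (Scheme.Modules.pullback i).obj Ω) (hφ : OmegaSh.IsConormalDiff i d φ) : Mono φ := by
  haveI := isQCoh_of_universal hd
  refine ConormalLib.mono_of_local _ fun x V₀ hx m hm => ?_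
  obtain ⟨_, ⟨V, hV, rfl⟩, hxV, -⟩ :=
    Y.isBasis_affineOpens.exists_subset_of_mem_open (Set.mem_univ (p (i x))) isOpen_univ
  obtain ⟨W, hW, hxW, hWV, hle, hb⟩ := ConormalLib.exists_chart i x hx (O := p ⁻¹ᵁ V) hxV
  obtain ⟨hU, hs⟩ := ConormalLib.chart_of_le i hW hb
  let U := i ⁻¹ᵁ W
  refine ⟨U, hle, hxW, ?_⟩
  let A := Γ(Y, V); let B := Γ(X, W); let C := Γ(Z, U)
  have eW : W ≤ p ⁻¹ᵁ V := hWV
  letI : Algebra A B := (p.appLE V W eW).hom.toAlgebra
  letI : Algebra A C := ((i ≫ p).appLE V U (OmegaSeq.le_comp i p eW le_rfl)).hom.toAlgebra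
  letI : Algebra B C := (i.appLE W U le_rfl).hom.toAlgebra
  haveI : IsScalarTower A B C := .of_algebraMap_eq' (by
    show ((i ≫ p).appLE V U (OmegaSeq.le_comp i p eW le_rfl)).hom = (p.appLE V W eW ≫ i.appLE W U le_rfl).hom
    rw [Scheme.Hom.appLE_comp_appLE])
  haveI : Algebra.FormallySmooth A C :=
    (S1486.result (i ≫ p)).1 hf U V hU hV (OmegaSeq.le_comp i p eW le_rfl)
  have hsurj : Function.Surjective (algebraMap B C) := by
    show Function.Surjective (i.appLE W (i ⁻¹ᵁ W) le_rfl)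
    rw [← Scheme.Hom.app_eq_appLE]
    exact hs
  have hker : RingHom.ker (algebraMap B C) = RingHom.ker (i.app W).hom := by
    show RingHom.ker (i.appLE W (i ⁻¹ᵁ W) le_rfl).hom = _
    rw [← Scheme.Hom.app_eq_appLE]
  obtain ⟨T, hT⟩ := exists_lin_of_der d eW
  have hTb := bijective_of_universal hV hW eW hd T hT
  letI : Module B Γ((Scheme.Modules.pullback i).obj Ω, U) := Module.compHom _ (i.appLE W U le_rfl).hom
  haveI : IsScalarTower B C Γ((Scheme.Modules.pullback i).obj Ω, U) := .of_algebraMap_smul fun _ _ => rfl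
  let q : Ω[B⁄A] →ₗ[B] Γ((Scheme.Modules.pullback i).obj Ω, U) :=
    PullbackMod.pullMapL i Ω (W' := U) (le_refl U) ∘ₗ T
  have hbc := PullbackMod.isBaseChange_pullMapL i Ω hW hU (le_refl U)
  let E : C ⊗[B] Ω[B⁄A] ≃ₗ[C] Γ((Scheme.Modules.pullback i).obj Ω, U) :=
    (TensorProduct.AlgebraTensorModule.congr (LinearEquiv.refl C C) (LinearEquiv.ofBijective T hTb)).trans hbc.equiv
  obtain ⟨s, hs'⟩ := (ConormalLib.cls_surjective_and_eq_zero_iff i hW hU hs).1
    ((Omega.conormal i).presheaf.map (homOfLE hle).op m)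
  have h0 : φ.app U ((Omega.conormal i).presheaf.map (homOfLE hle).op m) = 0 := by
    rw [hom_natural, hm, map_zero]
  rw [← hs'] at h0 ⊢
  replace h0 := (ConormalLib.Pair.phi_apply hφ s).symm.trans h0
  have hmem : OmegaSh.idealSect i.ker W s ∈ RingHom.ker (algebraMap B C) :=
    hker ▸ ConormalLib.app_idealSect i W s
  have hE : E (1 ⊗ₜ KaehlerDifferential.D A B (OmegaSh.idealSect i.ker W s)) = 0 := by
    rw [LinearEquiv.trans_apply, TensorProduct.AlgebraTensorModule.congr_tmul, hbc.equiv_tmul]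
    refine (one_smul C _).trans ?_
    refine Eq.trans ?_ h0
    exact congrArg (fun z => PullbackMod.pullMap i Ω (W := W) (W' := U) le_rfl z) (hT _)
  have h1 : KaehlerDifferential.kerCotangentToTensor A B C
      ((RingHom.ker (algebraMap B C)).toCotangent ⟨_, hmem⟩) = 0 := by
    rw [KaehlerDifferential.kerCotangentToTensor_toCotangent]
    exact E.injective (hE.trans (map_zero E).symm)
  have h2 := injective_kerCotangentToTensor hsurj (h1.trans (map_zero _).symm)
  rw [Ideal.toCotangent_eq_zero, pow_two] at h2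
  replace h2 : OmegaSh.idealSect i.ker W s ∈ RingHom.ker (i.app W).hom * RingHom.ker (i.app W).hom := by
    rw [← hker]; exact h2
  exact ((ConormalLib.cls_surjective_and_eq_zero_iff i hW hU hs).2 s).2 h2

/-- Finite projective sections around every point give a locally free module. -/
theorem isFinLocFree_of_local {X : Scheme.{u}} (M : X.Modules) [Coh.IsQCoh M]
    (h : ∀ x : X, ∃ D : X.Opens, IsAffineOpen D ∧ x ∈ D ∧ Module.Finite Γ(X, D) Γ(M, D) ∧
      Module.Projective Γ(X, D) Γ(M, D)) : FlatMod.IsFinLocFree M := by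
  choose D hD hxD hfin hproj using h
  refine (PullbackMod.isFinLocFree_iff M).mpr ⟨inferInstance, PullbackMod.isFP_of_finitePresentation M D hD
    (eq_top_iff.2 fun x _ => Opens.mem_iSup.2 ⟨x, hxD x⟩) (fun x => ?_), fun x => ?_⟩
  · haveI := hfin x; haveI := hproj x
    exact Module.finitePresentation_of_projective _ _
  · haveI := hproj x
    letI := Module.compHom (M.presheaf.stalk x) (X.presheaf.germ (D x) x (hxD x)).hom
    haveI := FlatLocus.isLocalizedModule_germL M (hD x) x (hxD x)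
    letI : Algebra Γ(X, D x) (X.presheaf.stalk x) :=
      TopCat.Presheaf.algebra_section_stalk X.presheaf ⟨x, hxD x⟩
    haveI := (hD x).isLocalization_stalk ⟨x, hxD x⟩
    haveI : IsScalarTower Γ(X, D x) (X.presheaf.stalk x) (M.presheaf.stalk x) :=
      .of_algebraMap_smul fun _ _ => rfl
    exact Module.Flat.of_linearEquiv
      (IsLocalizedModule.isBaseChange ((hD x).primeIdealOf ⟨x, hxD x⟩).asIdeal.primeCompl
        (X.presheaf.stalk x) (FlatLocus.germL M (D x) x (hxD x))).equiv.symm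

theorem isFinLocFree_omega {X Y : Scheme.{u}} (f : X ⟶ Y) (hf : MoreMor.IsFormallySmoothHom f) [LocallyOfFiniteType f]
    {Ω : X.Modules} {d : OmegaSh.Der f Ω} (hd : OmegaSh.IsUniversal d) : FlatMod.IsFinLocFree Ω := by
  haveI := isQCoh_of_universal hd
  refine isFinLocFree_of_local Ω fun x => ?_
  obtain ⟨_, ⟨V, hV, rfl⟩, hxV, -⟩ :=
    Y.isBasis_affineOpens.exists_subset_of_mem_open (Set.mem_univ (f x)) isOpen_univ
  obtain ⟨_, ⟨U, hU, rfl⟩, hxU, hUV⟩ :=
    X.isBasis_affineOpens.exists_subset_of_mem_open (a := x) hxV (f ⁻¹ᵁ V).2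
  have e : U ≤ f ⁻¹ᵁ V := hUV
  letI := (f.appLE V U e).hom.toAlgebra
  haveI : Algebra.FormallySmooth Γ(Y, V) Γ(X, U) := (S1486.result f).1 hf U V hU hV e
  haveI : Algebra.FiniteType Γ(Y, V) Γ(X, U) := f.finiteType_appLE hV hU e
  obtain ⟨T, hT⟩ := exists_lin_of_der d e
  let E := LinearEquiv.ofBijective T (bijective_of_universal hV hU e hd T hT)
  exact ⟨U, hU, hxU, Module.Finite.equiv E, Module.Projective.of_equiv E⟩

theorem exists_free_omega {X Y : Scheme.{u}} (f : X ⟶ Y) [Smooth f]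
    {Ω : X.Modules} {d : OmegaSh.Der f Ω} (hd : OmegaSh.IsUniversal d) (x : X) :
    ∃ (U : X.Opens) (n : ℕ), IsAffineOpen U ∧ x ∈ U ∧ Nonempty (Γ(Ω, U) ≃ₗ[Γ(X, U)] (Fin n → Γ(X, U))) ∧
      FlatMor.fibreDimAt f x = (n : WithBot ℕ∞) := by
  obtain ⟨V, hV, U, hU, hxU, e, hstd⟩ := Smooth.exists_isStandardSmooth f x
  algebraize [(f.appLE V U e).hom]
  obtain ⟨ι, σ, _, _, ⟨P⟩⟩ := (‹Algebra.IsStandardSmooth Γ(Y, V) Γ(X, U)›).out
  refine ⟨U, P.dimension, hU, hxU, ?_, ?_⟩
  · obtain ⟨T, hT⟩ := exists_lin_of_der d e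
    let E := LinearEquiv.ofBijective T (bijective_of_universal hV hU e hd T hT)
    haveI : Nontrivial Γ(X, U) :=
      (X.presheaf.germ U x hxU).hom.domain_nontrivial
    haveI := P.free_kaehlerDifferential
    haveI : Module.Finite Γ(X, U) Ω[Γ(X, U)⁄Γ(Y, V)] := inferInstance
    have hn : Module.finrank Γ(X, U) Ω[Γ(X, U)⁄Γ(Y, V)] = P.dimension :=
      Module.finrank_eq_of_rank_eq P.rank_kaehlerDifferential
    exact ⟨E.symm.trans (Module.finBasisOfFinrankEq _ _ hn).equivFun⟩
  · haveI : SmoothOfRelativeDimension P.dimension (Spec.map (f.appLE V U e)) :=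
      (HasRingHomProperty.Spec_iff (P := @SmoothOfRelativeDimension P.dimension)).mpr
        (RingHom.locally_of RingHom.isStandardSmoothOfRelativeDimension_respectsIso _
          (Algebra.IsStandardSmoothOfRelativeDimension.mk ⟨ι, σ, inferInstance, inferInstance, P, rfl⟩))
    haveI : SmoothOfRelativeDimension P.dimension (hU.fromSpec ≫ f) := by
      rw [← IsAffineOpen.SpecMap_appLE_fromSpec f hV hU e]
      have : SmoothOfRelativeDimension (P.dimension + 0) (Spec.map (f.appLE V U e) ≫ hV.fromSpec) := inferInstance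
      simpa using this
    obtain ⟨w, rfl⟩ : x ∈ Set.range hU.fromSpec := by rw [IsAffineOpen.range_fromSpec]; exact hxU
    rw [FibreDimEt.fibreDimAt_eq_of_etale f (hU.fromSpec ≫ f) hU.fromSpec (𝟙 Y) (Category.comp_id _) w]
    exact S2768.result P.dimension (hU.fromSpec ≫ f) w

theorem exists_freeMod_omega {X Y : Scheme.{u}} (f : X ⟶ Y) [Smooth f]
    {Ω : X.Modules} {d : OmegaSh.Der f Ω} (hd : OmegaSh.IsUniversal d) (x : X) :
    ∃ (U : X.Opens) (n : ℕ), x ∈ U ∧ Nonempty (Ω.restrict U.ι ≅ FlatMod.freeMod (↑U) n) ∧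
      FlatMor.fibreDimAt f x = (n : WithBot ℕ∞) := by
  haveI := isQCoh_of_universal hd
  obtain ⟨U, n, hU, hx, ⟨E⟩, hdim⟩ := exists_free_omega f hd x
  exact ⟨U, n, hx, FlatLocus.nonempty_iso_freeMod Ω hU n E, hdim⟩

end Groth.Agent.EtAlgEasy.OmegaSmooth
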