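import Groth.Agent.EtAlgEasy.PrinPartSym
import Groth.Agent.AmpleLib.Pullback
import Mathlib

/-!
`P^n = pr1_* O` on the neighbourhood.
-/

set_option autoImplicit false
set_option backward.isDefEq.respectTransparency false

universe u

open CategoryTheory CategoryTheory.Limits AlgebraicGeometry TopologicalSpace Opposite

namespace Groth.Agent.EtAlgEasy.PrinPartO

theorem pullO_pullSect {X' X : Scheme.{u}} (g : X' ⟶ X) (U : X.Opens) (a : Γ(X, U)) :
    (AmpleLib.pullO g).hom.app (g ⁻¹ᵁ U) (OmegaSh.pullSect g (Coh.structureModule X) U (OmegaSh.strSect X U a)) =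
      OmegaSh.strSect X' (g ⁻¹ᵁ U) (g.app U a) := by
  have h := (Scheme.Modules.pullbackPushforwardAdjunction g).homEquiv_unit (X := Coh.structureModule X)
    (Y := Coh.structureModule X') (f := (AmpleLib.pullO g).hom)
  have h2 : (Scheme.Modules.pullbackPushforwardAdjunction g).homEquiv _ _ (AmpleLib.pullO g).hom =
      SheafOfModules.unitToPushforwardObjUnit g.toRingCatSheafHom :=
    Equiv.apply_symm_apply _ _
  rw [h2] at h
  exact congrArg (fun (φ : Coh.structureModule X ⟶ (Scheme.Modules.pushforward g).obj (Coh.structureModule X')) =>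
    φ.app U (OmegaSh.strSect X U a)) h.symm

variable {X S : Scheme.{u}} (f : X ⟶ S) (n : ℕ)

/-- `P^n ≅ pr1_* O`. -/
noncomputable def αP : PrinPart.P f n ≅ (Scheme.Modules.pushforward (PrinPart.pr1 f n)).obj (Coh.structureModule (PrinPart.nbhd f n)) :=
  (Scheme.Modules.pushforward (PrinPart.pr1 f n)).mapIso (AmpleLib.pullO (PrinPart.pr2 f n))

theorem αP_dn (U : X.Opens) (b : Γ(X, U)) :
    (αP f n).hom.app U (PrinPart.dn f n U b) =
      OmegaSh.strSect (PrinPart.nbhd f n) (PrinPart.pr1 f n ⁻¹ᵁ U)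
        ((PrinPart.nbhd f n).presheaf.map (homOfLE (PrinPart.preimage_pr1 f n U).le).op ((PrinPart.pr2 f n).app U b)) := by
  show (AmpleLib.pullO (PrinPart.pr2 f n)).hom.app (PrinPart.pr1 f n ⁻¹ᵁ U)
    (PrinPart.dP f n (Coh.structureModule X) U (OmegaSh.strSect X U b)) = _
  rw [PrinPart.dP_apply]
  have hnat := ConcreteCategory.congr_hom ((AmpleLib.pullO (PrinPart.pr2 f n)).hom.mapPresheaf.naturality
    (homOfLE (PrinPart.preimage_pr1 f n U).le).op) (OmegaSh.pullSect (PrinPart.pr2 f n) (Coh.structureModule X) U (OmegaSh.strSect X U b))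
  simp only [ConcreteCategory.comp_apply] at hnat
  refine hnat.trans ?_
  exact congrArg _ (pullO_pullSect (PrinPart.pr2 f n) U b)

theorem αP_smul_dn (U : X.Opens) (a b : Γ(X, U)) :
    OmegaSh.fnSect (PrinPart.nbhd f n) (PrinPart.pr1 f n ⁻¹ᵁ U) ((αP f n).hom.app U (a • PrinPart.dn f n U b)) =
      (PrinPart.pr1 f n).app U a *
        (PrinPart.nbhd f n).presheaf.map (homOfLE (PrinPart.preimage_pr1 f n U).le).op ((PrinPart.pr2 f n).app U b) := by
  rw [Scheme.Modules.Hom.app_smul, αP_dn]
  rfl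

theorem bijective_αP (U : X.Opens) : Function.Bijective ((αP f n).hom.app U) :=
  ConcreteCategory.bijective_of_isIso _

end Groth.Agent.EtAlgEasy.PrinPartO
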