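import Groth.Agent.EtAlgEasy.GrMapStalk
import Groth.Agent.IdealStalkLib.Comap
import Groth.Agent.RegIdealLib.Immersion
import Groth.Agent.ConormalLib.Chart
import Groth.Agent.ConormalLib.Ring
import Mathlib

/-!
An immersion is open near a point exactly when the conormal sheaf vanishes there.
-/

set_option autoImplicit false
set_option backward.isDefEq.respectTransparency false

universe u

open CategoryTheory AlgebraicGeometry TopologicalSpace IsLocalRing
open Groth.Agent.PullbackMod

namespace Groth.Agent.EtAlgEasy.ConormalStalk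

variable {Y X : Scheme.{u}} (j : Y ⟶ X) [IsImmersion j] [QuasiCompact j]

theorem stalkIdeal_ker (y : Y) : IntMult.stalkIdeal j.ker (j y) = RingHom.ker (j.stalkMap y).hom := by
  obtain ⟨W, hW, hy, -, -, hb⟩ := ConormalLib.exists_chart j y (V := ⊤) trivial (O := ⊤) trivial
  rw [RegIdealLib.ker_stalkMap j hW (by
      haveI : IsClosedImmersion (j ∣_ j.coborderRange) := by
        let C := j.coborderRange
        have hfac : j ∣_ C = (j ⁻¹ᵁ C).ι ≫ j.liftCoborder := by
          rw [← cancel_mono C.ι, morphismRestrict_ι, Category.assoc, j.liftCoborder_ι]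
        haveI : IsClosedImmersion (j ⁻¹ᵁ C).ι := IsClosedImmersion.of_isPreimmersion _ (by
          rw [Scheme.Opens.range_ι, show ((j ⁻¹ᵁ C : Y.Opens) : Set Y) = Set.univ from
            Set.eq_univ_of_forall fun z => subset_coborder (Set.mem_range_self z)]
          exact isClosed_univ)
        rw [hfac]
        infer_instance
      let C := j.coborderRange
      have hV : C.ι ''ᵁ (C.ι ⁻¹ᵁ W) = W := by
        rw [Scheme.Hom.image_preimage_eq_opensRange_inf, Scheme.Opens.opensRange_ι]
        exact inf_eq_right.2 hb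
      have h1 : IsClosedImmersion ((j ∣_ C) ∣_ (C.ι ⁻¹ᵁ W)) := IsZariskiLocalAtTarget.restrict (P := @IsClosedImmersion) inferInstance _
      rw [MorphismProperty.arrow_mk_iso_iff @IsClosedImmersion (morphismRestrictRestrict j C _)] at h1
      rwa [hV] at h1) y hy,
    IdealStalkLib.stalkIdeal_eq j.ker ⟨W, hW⟩ (j y) hy, Scheme.Hom.ker_apply]

/-- The stalk of the conormal sheaf vanishes exactly when the ideal equals its square. -/
theorem subsingleton_iff (y : Y) :
    Subsingleton ((Omega.conormal j).presheaf.stalk y) ↔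
      RingHom.ker (j.stalkMap y).hom ≤ RingHom.ker (j.stalkMap y).hom * RingHom.ker (j.stalkMap y).hom := by
  let M := ClSub.idealMod j.ker
  let N : Type u := ((Scheme.Modules.pullback j).obj M).presheaf.stalk y
  letI : Algebra (X.presheaf.stalk (j y)) (Y.presheaf.stalk y) := (j.stalkMap y).hom.toAlgebra
  letI : Module (X.presheaf.stalk (j y)) N := Module.compHom N (j.stalkMap y).hom
  haveI : IsScalarTower (X.presheaf.stalk (j y)) (Y.presheaf.stalk y) N := .of_algebraMap_smul fun _ _ => rfl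
  let l : M.presheaf.stalk (j y) →ₗ[X.presheaf.stalk (j y)] N := pullStalkL j M y
  have hl : IsBaseChange (Y.presheaf.stalk y) l := isBaseChange_pullStalkL' j M y
  obtain ⟨hsurj, hker⟩ := ConormalLib.surjective_and_eq_zero_iff (A := X.presheaf.stalk (j y))
    (B := Y.presheaf.stalk y) (j.stalkMap_surjective y) hl
  obtain ⟨e, he, her, -⟩ := GrMapStalk.exists_toFn j.ker (j y)
  rw [stalkIdeal_ker] at her
  let K := RingHom.ker (j.stalkMap y).hom
  have hmap : (K • (⊤ : Submodule (X.presheaf.stalk (j y)) (M.presheaf.stalk (j y)))).map e = K * K := by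
    rw [Submodule.map_smul'', ← LinearMap.range_eq_map, her, smul_eq_mul]
  constructor
  · intro h r hr
    obtain ⟨m, rfl⟩ : r ∈ LinearMap.range e := by rw [her]; exact hr
    have hm : l m = 0 := @Subsingleton.elim N h _ _
    rw [← hmap]
    exact ⟨m, (hker m).1 hm, rfl⟩
  · intro h
    refine ⟨fun a b => ?_⟩
    have hzero : ∀ c : N, c = 0 := fun c => by
      obtain ⟨m, rfl⟩ := hsurj c
      refine (hker m).2 ?_
      have hm : e m ∈ (K • (⊤ : Submodule (X.presheaf.stalk (j y)) (M.presheaf.stalk (j y)))).map e := by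
        rw [hmap]; exact h (her ▸ LinearMap.mem_range_self e m)
      obtain ⟨m', hm', hmm⟩ := hm
      exact he hmm ▸ hm'
    exact (hzero a).trans (hzero b).symm

theorem isOpenImmersion_nhd_iff [LocallyOfFinitePresentation j] (y : Y) :
    (∃ U : Y.Opens, y ∈ U ∧ IsOpenImmersion (U.ι ≫ j)) ↔
      Subsingleton ((Omega.conormal j).presheaf.stalk y) := by
  rw [subsingleton_iff]
  constructor
  · rintro ⟨U, hy, hU⟩ r hr
    have hinj : Function.Injective ((U.ι ≫ j).stalkMap ⟨y, hy⟩) :=
      (ConcreteCategory.bijective_of_isIso ((U.ι ≫ j).stalkMap ⟨y, hy⟩)).1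
    rw [Scheme.Hom.stalkMap_comp] at hinj
    have : r = 0 := hinj (by
      rw [map_zero]
      show U.ι.stalkMap ⟨y, hy⟩ (j.stalkMap y r) = 0
      rw [show j.stalkMap y r = 0 from hr, map_zero])
    rw [this]
    exact zero_mem _
  · intro hK
    obtain ⟨W, hW, hy, -, -, hb⟩ := ConormalLib.exists_chart j y (V := ⊤) trivial (O := ⊤) trivial
    obtain ⟨haff, hs⟩ := ConormalLib.chart_of_le j hW hb
    let I := RingHom.ker (j.app W).hom
    have hfp : (j.app W).hom.FinitePresentation := by
      rw [Scheme.Hom.app_eq_appLE]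
      exact j.finitePresentation_appLE hW haff le_rfl
    have hI : I.FG := by
      letI := (j.app W).hom.toAlgebra
      haveI : Algebra.FinitePresentation Γ(X, W) Γ(Y, j ⁻¹ᵁ W) := hfp
      exact Algebra.FinitePresentation.ker_fG_of_surjective (Algebra.ofId Γ(X, W) Γ(Y, j ⁻¹ᵁ W)) hs
    have hkerz : ∀ z : Y, ∀ hz : j z ∈ W,
        RingHom.ker (j.stalkMap z).hom = I.map (X.presheaf.germ W (j z) hz).hom := fun z hz => by
      rw [← stalkIdeal_ker, IdealStalkLib.stalkIdeal_eq j.ker ⟨W, hW⟩ (j z) hz, Scheme.Hom.ker_apply]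
    have hz0 : RingHom.ker (j.stalkMap y).hom = ⊥ := by
      refine Submodule.eq_bot_of_le_smul_of_le_jacobson_bot _ _ ?_ hK ?_
      · rw [hkerz y hy]; exact hI.map _
      · rw [IsLocalRing.jacobson_eq_maximalIdeal ⊥ bot_ne_top]
        exact le_maximalIdeal (RingHom.ker_ne_top _)
    -- a denominator killing the ideal
    obtain ⟨g, hgy, hg⟩ : ∃ g : Γ(X, W), j y ∈ X.basicOpen g ∧ ∀ r ∈ I, g * r = 0 := by
      letI : Algebra Γ(X, W) (X.presheaf.stalk (j y)) := TopCat.Presheaf.algebra_section_stalk X.presheaf ⟨j y, hy⟩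
      haveI := hW.isLocalization_stalk ⟨j y, hy⟩
      obtain ⟨s, hs'⟩ := hI
      have hex : ∀ r ∈ s, ∃ t : (hW.primeIdealOf ⟨j y, hy⟩).asIdeal.primeCompl, (t : Γ(X, W)) * r = 0 := fun r hr => by
        refine (IsLocalization.map_eq_zero_iff (hW.primeIdealOf ⟨j y, hy⟩).asIdeal.primeCompl (X.presheaf.stalk (j y)) r).1 ?_
        have : X.presheaf.germ W (j y) hy r ∈ RingHom.ker (j.stalkMap y).hom := by
          rw [hkerz y hy]; exact Ideal.mem_map_of_mem _ (show r ∈ I by rw [← hs']; exact Submodule.subset_span hr)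
        rw [hz0] at this
        exact this
      choose t ht using hex
      classical
      let g := ∏ r ∈ s.attach, ((t r.1 r.2 : (hW.primeIdealOf ⟨j y, hy⟩).asIdeal.primeCompl) : Γ(X, W))
      refine ⟨g, (X.mem_basicOpen g (j y) hy).2 (IsLocalization.map_units (X.presheaf.stalk (j y))
        (⟨g, (hW.primeIdealOf ⟨j y, hy⟩).asIdeal.primeCompl.prod_mem fun r _ => (t r.1 r.2).2⟩ :
          (hW.primeIdealOf ⟨j y, hy⟩).asIdeal.primeCompl)), fun r hr => ?_⟩
      rw [show I = Ideal.span (s : Set Γ(X, W)) from hs'.symm] at hr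
      induction hr using Submodule.span_induction with
      | mem r hr =>
        obtain ⟨c, hc⟩ : ((t r hr : (hW.primeIdealOf ⟨j y, hy⟩).asIdeal.primeCompl) : Γ(X, W)) ∣ g :=
          Finset.dvd_prod_of_mem (fun r : s => ((t r.1 r.2 : _) : Γ(X, W))) (Finset.mem_attach s ⟨r, hr⟩)
        rw [hc, mul_right_comm, ht r hr, zero_mul]
      | zero => rw [mul_zero]
      | add a b _ _ ha hb => rw [mul_add, ha, hb, add_zero]
      | smul a b _ hb => rw [smul_eq_mul, mul_left_comm, hb, mul_zero]
    have hgerm : ∀ x : X, x ∈ X.basicOpen g → ∀ r ∈ I, ∀ hx : x ∈ W, X.presheaf.germ W x hx r = 0 := by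
      intro x hxg r hr hx
      have h1 : X.presheaf.germ W x hx g * X.presheaf.germ W x hx r = 0 := by rw [← map_mul, hg r hr, map_zero]
      exact ((X.mem_basicOpen g x hx).1 hxg).mul_right_eq_zero.1 h1
    refine ⟨j ⁻¹ᵁ X.basicOpen g, hgy, ?_⟩
    haveI : ∀ z : ↥(j ⁻¹ᵁ X.basicOpen g), IsIso (((j ⁻¹ᵁ X.basicOpen g).ι ≫ j).stalkMap z) := fun z => by
      rw [Scheme.Hom.stalkMap_comp]
      haveI : IsIso (j.stalkMap ((j ⁻¹ᵁ X.basicOpen g).ι z)) := by
        refine (ConcreteCategory.isIso_iff_bijective _).2 ⟨?_, j.stalkMap_surjective _⟩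
        have hz : j z.1 ∈ X.basicOpen g := z.2
        have hzW : j z.1 ∈ W := X.basicOpen_le g hz
        refine (RingHom.injective_iff_ker_eq_bot _).2 ?_
        show RingHom.ker (j.stalkMap z.1).hom = ⊥
        rw [hkerz z.1 hzW, eq_bot_iff, Ideal.map_le_iff_le_comap]
        exact fun r hr => (Ideal.mem_comap).2 ((Ideal.mem_bot).2 (hgerm _ hz r hr hzW))
      infer_instance
    refine IsOpenImmersion.of_isIso_stalkMap _ ⟨((j ⁻¹ᵁ X.basicOpen g).ι ≫ j).isEmbedding, ?_⟩
    suffices h : Set.range ((j ⁻¹ᵁ X.basicOpen g).ι ≫ j) = (X.basicOpen g : Set X) by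
      rw [h]; exact (X.basicOpen g).2
    ext x
    constructor
    · rintro ⟨z, rfl⟩; exact z.2
    · intro hx
      have hxW : x ∈ W := X.basicOpen_le g hx
      have hsupp : x ∈ closure (Set.range j) := by
        rw [← j.support_ker]
        by_contra hn
        obtain ⟨r, hr, hru⟩ : ∃ r ∈ j.ker.ideal ⟨W, hW⟩, IsUnit (X.presheaf.germ W x hxW r) := by
          by_contra hall
          push Not at hall
          refine hn ((Scheme.IdealSheafData.mem_support_iff_of_mem (U := ⟨W, hW⟩) hxW).2 ?_)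
          rw [Scheme.mem_zeroLocus_iff]
          exact fun r hr hxr => hall r hr ((X.mem_basicOpen r x hxW).1 hxr)
        rw [Scheme.Hom.ker_apply] at hr
        rw [hgerm x hx r hr hxW] at hru
        exact not_isUnit_zero hru
      have hxr : x ∈ Set.range j := by
        by_contra hn
        exact hb hxW ⟨hsupp, hn⟩
      obtain ⟨z, rfl⟩ := hxr
      exact ⟨⟨z, hx⟩, rfl⟩

end Groth.Agent.EtAlgEasy.ConormalStalk
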