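import Groth.Agent.EtAlgEasy.PrinPartStalk
import Groth.Agent.PullbackMod.Hom
import Mathlib

/-!
The stalks of the sheaves of principal parts of a module; gluing a morphism of modules from stalk maps.
-/

set_option autoImplicit false
set_option backward.isDefEq.respectTransparency false

universe u

open CategoryTheory CategoryTheory.Limits AlgebraicGeometry TopologicalSpace Opposite
open scoped TensorProduct

namespace Groth.Agent.EtAlgEasy.PrinPartStalkMod

open PrinPartStalk

/-- A family of stalk maps which is locally given by sections comes from a morphism of modules. -/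
theorem exists_hom_of_stalk {X : Scheme.{u}} {M G : X.Modules}
    (φ : ∀ x : X, M.presheaf.stalk x →ₗ[X.presheaf.stalk x] G.presheaf.stalk x)
    (hloc : ∀ (U : X.Opens) (m : Γ(M, U)) (x : X), x ∈ U → ∃ (V : X.Opens) (i : V ≤ U) (_ : x ∈ V) (g : Γ(G, V)),
      ∀ (y : X) (hy : y ∈ V), φ y (M.presheaf.germ U y (i hy) m) = G.presheaf.germ V y hy g) :
    ∃ u : M ⟶ G, ∀ (U : X.Opens) (m : Γ(M, U)) (x : X) (hx : x ∈ U),
      G.presheaf.germ U x hx (u.app U m) = φ x (M.presheaf.germ U x hx m) := by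
  let F : TopCat.Sheaf Ab X := ⟨G.presheaf, G.isSheaf⟩
  have hex : ∀ (U : X.Opens) (m : Γ(M, U)), ∃ g : Γ(G, U),
      ∀ (x : X) (hx : x ∈ U), G.presheaf.germ U x hx g = φ x (M.presheaf.germ U x hx m) := by
    intro U m
    choose V iV hxV g hg using fun x : U => hloc U m x.1 x.2
    have hcompat : TopCat.Presheaf.IsCompatible F.obj V g := by
      intro a b
      refine TopCat.Presheaf.section_ext F (V a ⊓ V b) _ _ fun y hy => ?_
      show G.presheaf.germ (V a ⊓ V b) y hy (G.presheaf.map (Opens.infLELeft _ _).op (g a)) =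
        G.presheaf.germ (V a ⊓ V b) y hy (G.presheaf.map (Opens.infLERight _ _).op (g b))
      rw [TopCat.Presheaf.germ_res_apply, TopCat.Presheaf.germ_res_apply, ← hg a y hy.1, ← hg b y hy.2]
    obtain ⟨s, hs, -⟩ := F.existsUnique_gluing' V U (fun a => homOfLE (iV a))
      (fun y hy => Opens.mem_iSup.2 ⟨⟨y, hy⟩, hxV ⟨y, hy⟩⟩) g hcompat
    refine ⟨s, fun x hx => ?_⟩
    rw [← G.presheaf.germ_res_apply (homOfLE (iV ⟨x, hx⟩)) x (hxV ⟨x, hx⟩) s,
      hg ⟨x, hx⟩ x (hxV ⟨x, hx⟩)]
    exact congrArg _ (hs ⟨x, hx⟩)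
  choose g hg using hex
  have hext : ∀ (U : X.Opens) (a b : Γ(G, U)),
      (∀ (x : X) (hx : x ∈ U), G.presheaf.germ U x hx a = G.presheaf.germ U x hx b) → a = b :=
    fun U a b h => TopCat.Presheaf.section_ext F U a b h
  let ab : M.presheaf ⟶ G.presheaf :=
    { app := fun U => AddCommGrpCat.ofHom
        ({ toFun := g U.unop
           map_zero' := hext _ _ _ fun x hx => by rw [hg, map_zero, map_zero, map_zero]
           map_add' := fun a b => hext _ _ _ fun x hx => by
             rw [hg, map_add, map_add, map_add, hg, hg] } : Γ(M, U.unop) →+ Γ(G, U.unop))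
      naturality := fun U V i => AddCommGrpCat.hom_ext (AddMonoidHom.ext fun m => hext V.unop _ _ fun x hx => by
        show G.presheaf.germ V.unop x hx (g V.unop (M.presheaf.map i.unop.op m)) =
          G.presheaf.germ V.unop x hx (G.presheaf.map i.unop.op (g U.unop m))
        rw [hg, TopCat.Presheaf.germ_res_apply, TopCat.Presheaf.germ_res_apply, hg]) }
  refine ⟨{ val := PresheafOfModules.homMk ab fun U (r : Γ(X, U.unop)) (m : Γ(M, U.unop)) => hext U.unop _ _ fun x hx => ?_ }, fun U m x hx => hg U m x hx⟩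
  show G.presheaf.germ U.unop x hx (g U.unop (r • m)) = G.presheaf.germ U.unop x hx (r • g U.unop m)
  rw [hg]
  refine (congrArg (φ x) (PresheafOfModules.germ_smul (R := X.presheaf) M.val x U.unop hx r m)).trans ?_
  refine ((φ x).map_smul _ _).trans ?_
  refine Eq.trans ?_ (PresheafOfModules.germ_smul (R := X.presheaf) G.val x U.unop hx r _).symm
  exact congrArg _ (hg U.unop m x hx).symm

theorem isBaseChange_of_eq {X X' : Scheme.{u}} (g : X' ⟶ X) (M : X.Modules) (x' : X') {y : X} (h : g x' = y) :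
    letI : Algebra (X.presheaf.stalk y) (X'.presheaf.stalk x') :=
      (X.presheaf.stalkSpecializes (specializes_of_eq h) ≫ g.stalkMap x').hom.toAlgebra
    letI := Module.compHom (((Scheme.Modules.pullback g).obj M).presheaf.stalk x')
      (X.presheaf.stalkSpecializes (specializes_of_eq h) ≫ g.stalkMap x').hom
    haveI : IsScalarTower (X.presheaf.stalk y) (X'.presheaf.stalk x')
      (((Scheme.Modules.pullback g).obj M).presheaf.stalk x') :=
        .of_algebraMap_smul fun _ _ => rfl
    ∃ l : M.presheaf.stalk y →ₗ[X.presheaf.stalk y] ((Scheme.Modules.pullback g).obj M).presheaf.stalk x',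
      IsBaseChange (X'.presheaf.stalk x') l ∧
      ∀ (U : X.Opens) (hU : y ∈ U) (t : Γ(M, U)), l (M.presheaf.germ U y hU t) =
        ((Scheme.Modules.pullback g).obj M).presheaf.germ (g ⁻¹ᵁ U) x' (h.symm ▸ hU : g x' ∈ U)
          (OmegaSh.pullSect g M U t) := by
  subst h
  have e : X.presheaf.stalkSpecializes (specializes_of_eq (rfl : g x' = g x')) ≫ g.stalkMap x' = g.stalkMap x' := by
    rw [TopCat.Presheaf.stalkSpecializes_refl, Category.id_comp]
  rw [e]
  exact ⟨PullbackMod.pullStalkL g M x', PullbackMod.isBaseChange_pullStalkL' g M x',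
    fun U hU t => PullbackMod.pullStalk_germ g M x' hU t⟩

variable {X S : Scheme.{u}} (f : X ⟶ S) (n : ℕ) (F : X.Modules)

/-- `pr2^* F` on the neighbourhood. -/
noncomputable abbrev L : (PrinPart.nbhd f n).Modules := (Scheme.Modules.pullback (PrinPart.pr2 f n)).obj F

theorem exists_ρ (x : X) :
    ∃ ρ : (PrinPart.PMod f n F).presheaf.stalk x →+ (L f n F).presheaf.stalk (PrinPart.toNbhd f n x),
      Function.Bijective ρ ∧
      (∀ (a : X.presheaf.stalk x) w, ρ (a • w) = σ₁ f n x a • ρ w) ∧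
      ∀ (U : X.Opens) (hU : x ∈ U) (m : Γ(PrinPart.PMod f n F, U)),
        ρ ((PrinPart.PMod f n F).presheaf.germ U x hU m) =
          (L f n F).presheaf.germ (PrinPart.pr1 f n ⁻¹ᵁ U) (PrinPart.toNbhd f n x) (mem_pr1_preimage f n hU) m := by
  let p := PrinPart.pr1 f n
  let z := PrinPart.toNbhd f n x
  let P := PrinPart.PMod f n F
  haveI : IsIso (TopCat.Presheaf.stalkPushforward Ab p.base (L f n F).presheaf z) :=
    TopCat.Presheaf.stalkPushforward.stalkPushforward_iso_of_isInducing Ab (f := p.base) (PrinPartGen.isInducing_pr1 f n) _ _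
  let e := P.presheaf.stalkSpecializes (specializes_of_eq (pr1_toNbhd_apply f n x))
  haveI : IsIso e := ⟨P.presheaf.stalkSpecializes (specializes_of_eq (pr1_toNbhd_apply f n x).symm),
    by simp [e], by simp [e]⟩
  let ρ : P.presheaf.stalk x →+ (L f n F).presheaf.stalk z :=
    (e ≫ TopCat.Presheaf.stalkPushforward Ab p.base (L f n F).presheaf z).hom
  have hg : ∀ (U : X.Opens) (hU : x ∈ U) (m : Γ(P, U)),
      ρ (P.presheaf.germ U x hU m) = (L f n F).presheaf.germ (p ⁻¹ᵁ U) z (mem_pr1_preimage f n hU) m := by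
    intro U hU m
    show TopCat.Presheaf.stalkPushforward Ab p.base (L f n F).presheaf z (e (P.presheaf.germ U x hU m)) = _
    rw [show e (P.presheaf.germ U x hU m) = P.presheaf.germ U (p z) (mem_pr1_preimage f n hU) m from
      TopCat.Presheaf.germ_stalkSpecializes_apply _ _ _ _]
    exact ConcreteCategory.congr_hom (TopCat.Presheaf.stalkPushforward_germ Ab p.base (L f n F).presheaf U z
      (mem_pr1_preimage f n hU)) m
  refine ⟨ρ, ConcreteCategory.bijective_of_isIso (e ≫ TopCat.Presheaf.stalkPushforward Ab p.base (L f n F).presheaf z),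
    fun a w => ?_, hg⟩
  obtain ⟨V, hV, a, rfl⟩ := TopCat.Presheaf.exists_germ_eq X.presheaf a
  obtain ⟨W, hW, m, rfl⟩ := TopCat.Presheaf.exists_germ_eq P.presheaf w
  have hx : x ∈ V ⊓ W := ⟨hV, hW⟩
  rw [← X.presheaf.germ_res_apply (homOfLE (inf_le_left : V ⊓ W ≤ V)) x hx a,
    ← P.presheaf.germ_res_apply (homOfLE (inf_le_right : V ⊓ W ≤ W)) x hx m]
  set a' := X.presheaf.map (homOfLE (inf_le_left : V ⊓ W ≤ V)).op a
  set m' := P.presheaf.map (homOfLE (inf_le_right : V ⊓ W ≤ W)).op m
  erw [← PresheafOfModules.germ_smul (R := X.presheaf) P.val x (V ⊓ W) hx]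
  refine (hg _ hx _).trans ?_
  rw [hg, σ₁_germ]
  exact PresheafOfModules.germ_smul (R := (PrinPart.nbhd f n).presheaf) (L f n F).val z (p ⁻¹ᵁ (V ⊓ W))
    (mem_pr1_preimage f n hx) _ _

theorem germ_dP (x : X) (U : X.Opens) (hU : x ∈ U) (t : Γ(F, U)) :
    (L f n F).presheaf.germ (PrinPart.pr1 f n ⁻¹ᵁ U) (PrinPart.toNbhd f n x) (mem_pr1_preimage f n hU)
      (PrinPart.dP f n F U t) =
    (L f n F).presheaf.germ (PrinPart.pr2 f n ⁻¹ᵁ U) (PrinPart.toNbhd f n x) (mem_pr2_preimage f n hU)
      (OmegaSh.pullSect (PrinPart.pr2 f n) F U t) := by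
  rw [PrinPart.dP_apply]
  exact (L f n F).presheaf.germ_res_apply _ _ _ _

end Groth.Agent.EtAlgEasy.PrinPartStalkMod
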