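import Groth.Agent.EtAlgEasy.SmoothStalk
import Groth.Agent.FlatDepth.Fibres
import Groth.Agent.GeomRk.Alg
import Groth.Agent.RegHomLib.Basic
import Groth.Agent.RegLocLib.Basic
import Groth.Agent.CILib.SmoothFlat
import Groth.Agent.CILib.LCISmooth
import Groth.Agent.S1182
import Groth.Agent.S1183
import Groth.Agent.S9407
import Groth.Agent.S9438
import Mathlib

/-!
Properties of local rings along smooth morphisms.
-/

set_option autoImplicit false
set_option backward.isDefEq.respectTransparency false
set_option linter.style.haveILetI false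

universe u

open IsLocalRing AlgebraicGeometry

namespace Groth.Agent.EtAlgEasy.SmoothStalk

section Alg

variable (R S : Type u) [CommRing R] [IsLocalRing R] [CommRing S] [Algebra R S] (q : Ideal S) [q.IsPrime]

theorem isRegularLocalRing_fibre [Algebra.Smooth R S]
    (hq : q.comap (algebraMap R S) = maximalIdeal R) :
    IsRegularLocalRing (Localization.AtPrime q ⧸ (maximalIdeal R).map (algebraMap R (Localization.AtPrime q))) := by
  let p := maximalIdeal R
  haveI : q.LiesOver p := ⟨hq.symm⟩
  let e := PrimeSpectrum.preimageEquivFiber R S ⟨p, inferInstance⟩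
  let Q := e ⟨⟨q, inferInstance⟩, PrimeSpectrum.ext hq⟩
  have hQ : Q.asIdeal.comap (Algebra.TensorProduct.includeRight : S →ₐ[R] p.Fiber S).toRingHom = q :=
    congrArg (fun x => x.1.asIdeal) (e.symm_apply_apply ⟨⟨q, inferInstance⟩, PrimeSpectrum.ext hq⟩)
  obtain ⟨e', -⟩ := CILib.exists_fibreLocal_equiv p q hq Q.asIdeal hQ
  haveI : Algebra.Smooth p.ResidueField (p.Fiber S) :=
    inferInstanceAs (Algebra.Smooth p.ResidueField (TensorProduct R p.ResidueField S))
  haveI : IsRegularRing p.ResidueField := isRegularRing_iff.2 fun r _ => by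
    refine IsRegularLocalRing.of_ringEquiv (R := p.ResidueField) (IsLocalization.atUnits p.ResidueField r.primeCompl (S := Localization.AtPrime r) fun z hz => ?_).toRingEquiv
    exact isUnit_iff_ne_zero.2 fun h => hz (h ▸ r.zero_mem)
  haveI := RegHomLib.isRegularRing_of_smooth p.ResidueField (p.Fiber S)
  haveI : IsRegularLocalRing (Localization.AtPrime Q.asIdeal) := IsRegularRing.isRegularLocalRing_localization _
  exact IsRegularLocalRing.of_ringEquiv (R := Localization.AtPrime Q.asIdeal) e'

theorem hasSk_localization [IsNoetherianRing S] (k : ℕ) (h : LocCoh.HasSk k S S) :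
    LocCoh.HasSk k (Localization.AtPrime q) (Localization.AtPrime q) := by
  rw [FlatDepth.hasSk_iff] at h ⊢
  intro P _
  haveI : IsLocalization.AtPrime (Localization.AtPrime P) (P.comap (algebraMap S (Localization.AtPrime q))) :=
    IsLocalization.isLocalization_isLocalization_atPrime_isLocalization q.primeCompl (Localization.AtPrime P) P
  haveI : IsNoetherianRing (Localization.AtPrime (P.comap (algebraMap S (Localization.AtPrime q)))) :=
    IsLocalization.isNoetherianRing (P.comap (algebraMap S (Localization.AtPrime q))).primeCompl _ inferInstance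
  exact FlatDepth.skLocal_of_ringEquiv (IsLocalization.algEquiv (P.comap (algebraMap S (Localization.AtPrime q))).primeCompl
    (Localization.AtPrime (P.comap (algebraMap S (Localization.AtPrime q)))) (Localization.AtPrime P)).toRingEquiv (h _)

theorem hasRk_localization [IsNoetherianRing S] (k : ℕ) (h : LocCoh.HasRk k S) :
    LocCoh.HasRk k (Localization.AtPrime q) := by
  intro P _ hht
  rw [GeomRk.regular_of_isLocalization_iff q.primeCompl P]
  exact h _ (by rw [IsLocalization.height_under q.primeCompl]; exact hht)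

theorem hasSk_of_cm {T : Type u} [CommRing T] [LocCoh.IsCohenMacaulayRing T] (k : ℕ) : LocCoh.HasSk k T T := by
  rw [FlatDepth.hasSk_iff]
  intro P _
  have h := (LocCoh.IsCohenMacaulayRing.isCohenMacaulayLocalRing_localization (R := T) P).supportDim_eq_depth
  rw [Module.supportDim_self_eq_ringKrullDim] at h
  exact ⟨inferInstance, (min_le_right _ _).trans h.le⟩

theorem hasSk_smooth [IsNoetherianRing R] [Algebra.Smooth R S] (k : ℕ) (h : LocCoh.HasSk k R R) :
    LocCoh.HasSk k S S := by
  haveI : IsNoetherianRing S := Algebra.FiniteType.isNoetherianRing R S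
  refine FlatDepth.hasSk_ascend k R S h fun p _ => ?_
  haveI : Algebra.Smooth p.ResidueField (p.Fiber S) :=
    inferInstanceAs (Algebra.Smooth p.ResidueField (TensorProduct R p.ResidueField S))
  haveI : IsRegularRing p.ResidueField := isRegularRing_iff.2 fun r _ => by
    refine IsRegularLocalRing.of_ringEquiv (R := p.ResidueField) (IsLocalization.atUnits p.ResidueField r.primeCompl (S := Localization.AtPrime r) fun z hz => ?_).toRingEquiv
    exact isUnit_iff_ne_zero.2 fun h => hz (h ▸ r.zero_mem)
  haveI := RegHomLib.isRegularRing_of_smooth p.ResidueField (p.Fiber S)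
  haveI : IsNoetherianRing (p.Fiber S) := Algebra.FiniteType.isNoetherianRing p.ResidueField _
  haveI := FlatDepth.cm_of_regular (p.Fiber S)
  exact hasSk_of_cm k

theorem isNormalRing_self {T : Type u} [CommRing T] [IsDomain T] [IsIntegrallyClosed T] : EGA4.IsNormalRing T :=
  fun p _ => by
    haveI : IsDomain (Localization.AtPrime p) :=
      IsLocalization.isDomain_localization (Ideal.primeCompl_le_nonZeroDivisors p)
    exact ⟨inferInstance, isIntegrallyClosed_of_isLocalization (Localization.AtPrime p) p.primeCompl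
      (Ideal.primeCompl_le_nonZeroDivisors p)⟩

end Alg

variable {X Y : Scheme.{u}} (f : X ⟶ Y) [LocallyOfFinitePresentation f] {x : X}

theorem faithfullyFlat_stalk (hx : x ∈ f.smoothLocus) :
    letI := (f.stalkMap x).hom.toAlgebra
    Module.FaithfullyFlat (Y.presheaf.stalk (f x)) (X.presheaf.stalk x) := by
  letI := (f.stalkMap x).hom.toAlgebra
  haveI : Module.Flat (Y.presheaf.stalk (f x)) (X.presheaf.stalk x) := flat_stalkMap f hx
  haveI : IsLocalHom (algebraMap (Y.presheaf.stalk (f x)) (X.presheaf.stalk x)) :=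
    inferInstanceAs (IsLocalHom (f.stalkMap x).hom)
  exact Module.FaithfullyFlat.of_flat_of_isLocalHom

theorem isReduced_iff (hx : x ∈ f.smoothLocus) :
    IsReduced (X.presheaf.stalk x) ↔ IsReduced (Y.presheaf.stalk (f x)) := by
  letI := (f.stalkMap x).hom.toAlgebra
  haveI := faithfullyFlat_stalk f hx
  refine ⟨fun h => isReduced_of_injective (algebraMap (Y.presheaf.stalk (f x)) (X.presheaf.stalk x))
    (FaithfulSMul.algebraMap_injective _ _), fun h => ?_⟩
  obtain ⟨S, _, _, _, q, _, e, -⟩ := exists_model_stalk f hx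
  haveI : IsReduced S := S9407.result (Y.presheaf.stalk (f x)) S
  haveI : IsReduced (Localization.AtPrime q) := inferInstance
  exact isReduced_of_injective e.symm.toRingHom e.symm.injective

theorem normal_iff (hx : x ∈ f.smoothLocus) :
    (IsDomain (X.presheaf.stalk x) ∧ IsIntegrallyClosed (X.presheaf.stalk x)) ↔
      (IsDomain (Y.presheaf.stalk (f x)) ∧ IsIntegrallyClosed (Y.presheaf.stalk (f x))) := by
  letI := (f.stalkMap x).hom.toAlgebra
  haveI := faithfullyFlat_stalk f hx
  constructor
  · rintro ⟨_, _⟩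
    have h := NormalTensor.isNormalRing_of_faithfullyFlat (Y.presheaf.stalk (f x)) (X.presheaf.stalk x) isNormalRing_self
    obtain ⟨_, _⟩ := h (maximalIdeal (Y.presheaf.stalk (f x)))
    let e : Y.presheaf.stalk (f x) ≃+* Localization.AtPrime (maximalIdeal (Y.presheaf.stalk (f x))) :=
      (IsLocalization.atUnits (Y.presheaf.stalk (f x)) (maximalIdeal (Y.presheaf.stalk (f x))).primeCompl
        (S := Localization.AtPrime (maximalIdeal (Y.presheaf.stalk (f x))))
        fun z hz => IsLocalRing.notMem_maximalIdeal.1 hz).toRingEquiv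
    exact ⟨e.toMulEquiv.isDomain _, IsIntegrallyClosed.of_equiv e.symm⟩
  · rintro ⟨_, _⟩
    obtain ⟨S, _, _, _, q, _, e, -⟩ := exists_model_stalk f hx
    obtain ⟨_, _⟩ := (S1182.result (Y.presheaf.stalk (f x)) S).1 isNormalRing_self q
    exact ⟨e.symm.toMulEquiv.isDomain _, IsIntegrallyClosed.of_equiv e⟩

variable [IsLocallyNoetherian Y]

theorem isRegularLocalRing_iff (hx : x ∈ f.smoothLocus) :
    IsRegularLocalRing (X.presheaf.stalk x) ↔ IsRegularLocalRing (Y.presheaf.stalk (f x)) := by
  letI := (f.stalkMap x).hom.toAlgebra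
  haveI := faithfullyFlat_stalk f hx
  haveI : IsLocalHom (algebraMap (Y.presheaf.stalk (f x)) (X.presheaf.stalk x)) :=
    inferInstanceAs (IsLocalHom (f.stalkMap x).hom)
  haveI : IsLocallyNoetherian X := LocallyOfFiniteType.isLocallyNoetherian f
  refine ⟨fun h => RegLocal.isRegularLocalRing_of_flat (Y.presheaf.stalk (f x)) (X.presheaf.stalk x), fun h => ?_⟩
  obtain ⟨S, _, _, _, q, _, e, -⟩ := exists_model_stalk f hx
  haveI := RegLocLib.isRegularRing_of_isRegularLocalRing (Y.presheaf.stalk (f x))
  haveI := RegHomLib.isRegularRing_of_smooth (Y.presheaf.stalk (f x)) S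
  haveI : IsRegularLocalRing (Localization.AtPrime q) := IsRegularRing.isRegularLocalRing_localization _
  exact IsRegularLocalRing.of_ringEquiv e

theorem ringKrullDim_eq (hx : x ∈ f.smoothLocus) :
    ringKrullDim (X.presheaf.stalk x) = ringKrullDim (Y.presheaf.stalk (f x)) +
      ringKrullDim (X.presheaf.stalk x ⧸ (maximalIdeal (Y.presheaf.stalk (f x))).map (f.stalkMap x).hom) := by
  letI := (f.stalkMap x).hom.toAlgebra
  haveI : Module.Flat (Y.presheaf.stalk (f x)) (X.presheaf.stalk x) := flat_stalkMap f hx
  haveI : IsLocalHom (algebraMap (Y.presheaf.stalk (f x)) (X.presheaf.stalk x)) :=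
    inferInstanceAs (IsLocalHom (f.stalkMap x).hom)
  haveI : IsLocallyNoetherian X := LocallyOfFiniteType.isLocallyNoetherian f
  exact CILib.ringKrullDim_eq_add_of_flat

theorem codepth_eq (hx : x ∈ f.smoothLocus) :
    ringKrullDim (X.presheaf.stalk x) +
        ((LocCoh.depth (Y.presheaf.stalk (f x)) (Y.presheaf.stalk (f x)) : ℕ∞) : WithBot ℕ∞) =
      ringKrullDim (Y.presheaf.stalk (f x)) +
        ((LocCoh.depth (X.presheaf.stalk x) (X.presheaf.stalk x) : ℕ∞) : WithBot ℕ∞) := by
  letI := (f.stalkMap x).hom.toAlgebra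
  let R := Y.presheaf.stalk (f x); let B := X.presheaf.stalk x
  haveI : Module.Flat R B := flat_stalkMap f hx
  haveI : IsLocalHom (algebraMap R B) := inferInstanceAs (IsLocalHom (f.stalkMap x).hom)
  haveI : IsLocallyNoetherian X := LocallyOfFiniteType.isLocallyNoetherian f
  haveI := FlatDepth.isLocalRing_fibre R B
  obtain ⟨S, _, _, _, q, _, e, he⟩ := exists_model_stalk f hx
  have hq : q.comap (algebraMap R S) = maximalIdeal R := by
    ext a
    rw [Ideal.mem_comap, ← IsLocalization.AtPrime.to_map_mem_maximal_iff (Localization.AtPrime q) q,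
      IsLocalRing.mem_maximalIdeal, IsLocalRing.mem_maximalIdeal, mem_nonunits_iff, mem_nonunits_iff,
      ← MulEquiv.isUnit_map e, he]
    exact not_congr (isUnit_map_iff (f.stalkMap x).hom a)
  haveI := isRegularLocalRing_fibre R S q hq
  let e' : Localization.AtPrime q ⧸ (maximalIdeal R).map (algebraMap R (Localization.AtPrime q)) ≃+*
      B ⧸ (maximalIdeal R).map (algebraMap R B) := Ideal.quotientEquiv _ _ e (by
    rw [Ideal.map_map]
    congr 1
    exact RingHom.ext fun a => by
      show _ = e (algebraMap R (Localization.AtPrime q) a)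
      rw [IsScalarTower.algebraMap_apply R S (Localization.AtPrime q), he]
      rfl)
  haveI := IsRegularLocalRing.of_ringEquiv e'
  have hF := (RatliffLib.cm_of_regularLocal (B ⧸ (maximalIdeal R).map (algebraMap R B))).supportDim_eq_depth
  rw [Module.supportDim_self_eq_ringKrullDim] at hF
  rw [CILib.ringKrullDim_eq_add_of_flat (R := R) (S := B), FlatDepth.depth_ring (A := R) (B := B), hF]
  push_cast
  ring

theorem hasSk_iff_stalk (hx : x ∈ f.smoothLocus) (n : ℕ) :
    LocCoh.HasSk n (X.presheaf.stalk x) (X.presheaf.stalk x) ↔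
      LocCoh.HasSk n (Y.presheaf.stalk (f x)) (Y.presheaf.stalk (f x)) := by
  letI := (f.stalkMap x).hom.toAlgebra
  haveI := faithfullyFlat_stalk f hx
  haveI : IsLocallyNoetherian X := LocallyOfFiniteType.isLocallyNoetherian f
  refine ⟨fun h => (S9437.result n (Y.presheaf.stalk (f x)) (X.presheaf.stalk x) h).2, fun h => ?_⟩
  obtain ⟨S, _, _, _, q, _, e, -⟩ := exists_model_stalk f hx
  haveI : IsNoetherianRing S := Algebra.FiniteType.isNoetherianRing (Y.presheaf.stalk (f x)) S
  exact FlatDepth.hasSk_of_ringEquiv e (hasSk_localization S q n (hasSk_smooth (Y.presheaf.stalk (f x)) S n h))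

theorem hasRk_iff_stalk (hx : x ∈ f.smoothLocus) (n : ℕ) :
    LocCoh.HasRk n (X.presheaf.stalk x) ↔ LocCoh.HasRk n (Y.presheaf.stalk (f x)) := by
  letI := (f.stalkMap x).hom.toAlgebra
  haveI := faithfullyFlat_stalk f hx
  haveI : IsLocallyNoetherian X := LocallyOfFiniteType.isLocallyNoetherian f
  refine ⟨fun h => (S9438.result n (Y.presheaf.stalk (f x)) (X.presheaf.stalk x) h).2, fun h => ?_⟩
  obtain ⟨S, _, _, _, q, _, e, -⟩ := exists_model_stalk f hx
  haveI : IsNoetherianRing S := Algebra.FiniteType.isNoetherianRing (Y.presheaf.stalk (f x)) S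
  exact GeomRk.hasRk_of_ringEquiv e n (hasRk_localization S q n ((S1183.result (Y.presheaf.stalk (f x)) S n).1 h))

end Groth.Agent.EtAlgEasy.SmoothStalk
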