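import Mathlib
import Groth.Agent.ASp.LiftDim

universe u

open AlgebraicGeometry CategoryTheory Topology TopologicalSpace

namespace Groth.Agent.EtAlgEasy.FibreDimBound

attribute [local instance 10] specializationOrder in
theorem topologicalKrullDim_le_of_cover {A : Type u} [TopologicalSpace A] [QuasiSober A] [T0Space A]
    {N : WithBot ℕ∞} (h : ∀ a : A, ∃ W : Set A, IsOpen W ∧ a ∈ W ∧ topologicalKrullDim W ≤ N) :
    topologicalKrullDim A ≤ N := by
  rw [Groth.Agent.ASp.topologicalKrullDim_eq_krullDim, Order.krullDim]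
  refine iSup_le fun p => ?_
  obtain ⟨W, hW, hp, hd⟩ := h p.head
  have : QuasiSober W := hW.isOpenEmbedding_subtypeVal.quasiSober
  rw [Groth.Agent.ASp.topologicalKrullDim_eq_krullDim] at hd
  have hmem : ∀ i, p i ∈ W := fun i => by
    have hs : p i ⤳ p.head := p.monotone (Fin.zero_le i)
    exact hs.mem_open hW hp
  let q : @LTSeries W (specializationOrder W).toPreorder :=
    @LTSeries.mk W (specializationOrder W).toPreorder p.length (fun i => ⟨p i, hmem i⟩) (fun i j hij => by
      have h1 : p i < p j := p.strictMono hij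
      refine @lt_of_le_not_ge W (specializationOrder W).toPreorder _ _ ((subtype_specializes_iff _ _).2 h1.le)
        (fun h2 => h1.not_ge ?_)
      exact (subtype_specializes_iff _ _).1 h2)
  exact le_trans (@Order.LTSeries.length_le_krullDim W (specializationOrder W).toPreorder q) hd

theorem ringKrullDim_fiber (R : Type u) [CommRing R] (n : ℕ) (p : PrimeSpectrum R) :
    ringKrullDim (p.asIdeal.Fiber (MvPolynomial (Fin n) R)) ≤ n := by
  rw [ringKrullDim_eq_of_ringEquiv (MvPolynomial.algebraTensorAlgEquiv R p.asIdeal.ResidueField).toRingEquiv,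
    MvPolynomial.ringKrullDim_of_isNoetherianRing, ringKrullDim_eq_zero_of_field, zero_add, Nat.card_fin]

variable {X Y : Scheme.{u}} (f : X ⟶ Y)

/-- An affine chart bounds the dimension of all fibres inside it. -/
theorem piece [LocallyOfFiniteType f] {V : Y.Opens} (hV : IsAffineOpen V) {U : X.Opens} (hU : IsAffineOpen U)
    (e : U ≤ f ⁻¹ᵁ V) :
    ∃ n : ℕ, ∀ y : Y, topologicalKrullDim ↥((f.fiberι y) ⁻¹' (U : Set X) : Set (f.fiber y)) ≤ n := by
  algebraize [(f.appLE V U e).hom]
  have hft : Algebra.FiniteType Γ(Y, V) Γ(X, U) := f.finiteType_appLE hV hU e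
  obtain ⟨n, ψ, hψ⟩ := Algebra.FiniteType.iff_quotient_mvPolynomial''.1 hft
  refine ⟨n, fun y => ?_⟩
  let W : Set (f.fiber y) := (f.fiberι y) ⁻¹' (U : Set X)
  rcases isEmpty_or_nonempty W with hWe | hWne
  · have : IsEmpty (IrreducibleCloseds W) := ⟨fun Z => hWe.false Z.isIrreducible.nonempty.some⟩
    exact Order.krullDim_eq_bot.trans_le bot_le
  obtain ⟨⟨w₀, hw₀⟩⟩ := hWne
  have hfib : ∀ w : f.fiber y, f (f.fiberι y w) = y := fun w => by
    have : f.fiberι y w ∈ Set.range (f.fiberι y) := ⟨w, rfl⟩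
    rw [f.range_fiberι y] at this
    exact this
  have hyV : y ∈ V := hfib w₀ ▸ e hw₀
  let p : PrimeSpectrum Γ(Y, V) := hV.primeIdealOf ⟨y, hyV⟩
  let g : W → PrimeSpectrum Γ(X, U) := fun w => hU.primeIdealOf ⟨f.fiberι y w.1, w.2⟩
  have hUe : IsOpenEmbedding hU.fromSpec := hU.fromSpec.isOpenEmbedding
  have hVe : IsOpenEmbedding hV.fromSpec := hV.fromSpec.isOpenEmbedding
  have hg : IsInducing g := by
    refine hUe.isInducing.of_comp_iff.1 ?_
    have : hU.fromSpec ∘ g = fun w : W => f.fiberι y w.1 := funext fun w => hU.fromSpec_primeIdealOf _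
    rw [this]
    exact (f.fiberι y).isEmbedding.isInducing.comp IsInducing.subtypeVal
  have hgp : ∀ w, PrimeSpectrum.comap (algebraMap Γ(Y, V) Γ(X, U)) (g w) = p := fun w => by
    apply hVe.injective
    have h := congr($(IsAffineOpen.SpecMap_appLE_fromSpec f hV hU e) (g w))
    simp only [Scheme.Hom.comp_apply] at h
    rw [hV.fromSpec_primeIdealOf]
    refine h.trans ?_
    rw [hU.fromSpec_primeIdealOf]
    exact hfib w.1
  have hc : IsClosedEmbedding (PrimeSpectrum.comap ψ.toRingHom) :=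
    PrimeSpectrum.isClosedEmbedding_comap_of_surjective _ _ hψ
  let g' : W → (PrimeSpectrum.comap (algebraMap Γ(Y, V) (MvPolynomial (Fin n) Γ(Y, V))) ⁻¹' {p} :
      Set (PrimeSpectrum (MvPolynomial (Fin n) Γ(Y, V)))) := fun w =>
    ⟨PrimeSpectrum.comap ψ.toRingHom (g w), by
      rw [Set.mem_preimage, Set.mem_singleton_iff, ← hgp w, ← PrimeSpectrum.comap_comp_apply]
      congr 1
      exact RingHom.ext fun r => ψ.commutes r⟩
  have hg' : IsInducing g' := by
    refine IsInducing.subtypeVal.of_comp_iff.1 ?_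
    exact hc.isInducing.comp hg
  refine le_trans hg'.topologicalKrullDim_le ?_
  rw [IsHomeomorph.topologicalKrullDim_eq _ (PrimeSpectrum.preimageHomeomorphFiber Γ(Y, V) _ p).isHomeomorph,
    PrimeSpectrum.topologicalKrullDim_eq_ringKrullDim]
  exact ringKrullDim_fiber _ n p

theorem exists_bound [CompactSpace Y] [LocallyOfFiniteType f] [QuasiCompact f] :
    ∃ n : ℕ, ∀ y : Y, topologicalKrullDim ↥(f.fiber y) ≤ n := by
  have : CompactSpace X := QuasiCompact.compactSpace_of_compactSpace f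
  have hloc : ∀ x : X, ∃ U : X.Opens, x ∈ U ∧
      ∃ n : ℕ, ∀ y : Y, topologicalKrullDim ↥((f.fiberι y) ⁻¹' (U : Set X) : Set (f.fiber y)) ≤ n := by
    intro x
    obtain ⟨_, ⟨V, hV, rfl⟩, hxV, -⟩ := Y.isBasis_affineOpens.exists_subset_of_mem_open (Set.mem_univ (f x)) isOpen_univ
    obtain ⟨_, ⟨U, hU, rfl⟩, hxU, hUV⟩ := X.isBasis_affineOpens.exists_subset_of_mem_open
      (show x ∈ f ⁻¹ᵁ V from hxV) (f ⁻¹ᵁ V).2
    exact ⟨U, hxU, piece f hV hU hUV⟩
  choose U hxU n hn using hloc
  obtain ⟨t, ht⟩ := (isCompact_univ (X := X)).elim_finite_subcover (fun x => (U x : Set X)) (fun x => (U x).2)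
    (fun x _ => Set.mem_iUnion.2 ⟨x, hxU x⟩)
  refine ⟨t.sup n, fun y => topologicalKrullDim_le_of_cover fun a => ?_⟩
  obtain ⟨x, hx, ha⟩ := Set.mem_iUnion₂.1 (ht (Set.mem_univ (f.fiberι y a)))
  refine ⟨_, (U x).2.preimage (f.fiberι y).continuous, ha, (hn x y).trans ?_⟩
  exact_mod_cast Finset.le_sup hx

end Groth.Agent.EtAlgEasy.FibreDimBound
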