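import Groth.Agent.ConormalLib.Seq
import Groth.Agent.ConormalLib.Trans
import Groth.Agent.OmegaUnivLib.Compat
import Mathlib

/-!
The two fundamental exact sequences of sheaves of differentials.
-/

set_option autoImplicit false
set_option backward.isDefEq.respectTransparency false
set_option backward.defeqAttrib.useBackward true
set_option linter.style.haveILetI false
set_option maxHeartbeats 800000

universe u

open CategoryTheory CategoryTheory.Limits AlgebraicGeometry TopologicalSpace Opposite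
open scoped TensorProduct
open Groth.Agent.OmegaUnivLib

namespace Groth.Agent.EtAlgEasy.OmegaSeq

variable {X Y Z : Scheme.{u}} (f : X ⟶ Y) (g : Y ⟶ Z)
  {ΩY : Y.Modules} {dY : OmegaSh.Der g ΩY} (hY : OmegaSh.IsUniversal dY)
  {ΩX : X.Modules} {dX : OmegaSh.Der (f ≫ g) ΩX} (hX : OmegaSh.IsUniversal dX)
  (c : (Scheme.Modules.pullback f).obj ΩY ⟶ ΩX) (hc : OmegaSh.IsDiffCompat f dY dX c)
  {V : Z.Opens} {W : Y.Opens} {U : X.Opens} (hV : IsAffineOpen V) (hW : IsAffineOpen W) (hU : IsAffineOpen U)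
  (eW : W ≤ g ⁻¹ᵁ V) (eU : U ≤ f ⁻¹ᵁ W)

theorem le_comp (eW : W ≤ g ⁻¹ᵁ V) (eU : U ≤ f ⁻¹ᵁ W) : U ≤ (f ≫ g) ⁻¹ᵁ V := fun _ hy => eW (eU hy)

omit hX in
include hY hc hV hW hU in
/-- On a tower of affine charts the pullback of the differentials is `C ⊗ Ω_{B/A}`. -/
theorem exists_chartEquiv :
    letI : Algebra Γ(Z, V) Γ(Y, W) := (g.appLE V W eW).hom.toAlgebra
    letI : Algebra Γ(Z, V) Γ(X, U) := ((f ≫ g).appLE V U (le_comp f g eW eU)).hom.toAlgebra
    letI : Algebra Γ(Y, W) Γ(X, U) := (f.appLE W U eU).hom.toAlgebra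
    haveI : IsScalarTower Γ(Z, V) Γ(Y, W) Γ(X, U) := .of_algebraMap_eq' (by
      show ((f ≫ g).appLE V U (le_comp f g eW eU)).hom = (g.appLE V W eW ≫ f.appLE W U eU).hom
      rw [Scheme.Hom.appLE_comp_appLE])
    ∀ TX : Ω[Γ(X, U)⁄Γ(Z, V)] →ₗ[Γ(X, U)] Γ(ΩX, U),
      (∀ b, TX (KaehlerDifferential.D Γ(Z, V) Γ(X, U) b) = dX.app U b) →
      ∃ E : Γ(X, U) ⊗[Γ(Y, W)] Ω[Γ(Y, W)⁄Γ(Z, V)] ≃ Γ((Scheme.Modules.pullback f).obj ΩY, U),
        (∀ t, c.app U (E t) = TX (KaehlerDifferential.mapBaseChange Γ(Z, V) Γ(Y, W) Γ(X, U) t)) ∧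
        (∀ b, E (1 ⊗ₜ KaehlerDifferential.D Γ(Z, V) Γ(Y, W) b) = PullbackMod.pullMap f ΩY eU (dY.app W b)) := by
  letI : Algebra Γ(Z, V) Γ(Y, W) := (g.appLE V W eW).hom.toAlgebra
  letI : Algebra Γ(Z, V) Γ(X, U) := ((f ≫ g).appLE V U (le_comp f g eW eU)).hom.toAlgebra
  letI : Algebra Γ(Y, W) Γ(X, U) := (f.appLE W U eU).hom.toAlgebra
  haveI : IsScalarTower Γ(Z, V) Γ(Y, W) Γ(X, U) := .of_algebraMap_eq' (by
    show ((f ≫ g).appLE V U (le_comp f g eW eU)).hom = (g.appLE V W eW ≫ f.appLE W U eU).hom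
    rw [Scheme.Hom.appLE_comp_appLE])
  intro TX hTX
  haveI := isQCoh_of_universal hY
  let A := Γ(Z, V)
  let B := Γ(Y, W)
  let C := Γ(X, U)
  let G := (Scheme.Modules.pullback f).obj ΩY
  obtain ⟨T, hT⟩ := exists_lin_of_der dY eW
  have hTb := bijective_of_universal hV hW eW hY T hT
  letI : Module B Γ(G, U) := Module.compHom _ (f.appLE W U eU).hom
  haveI : IsScalarTower B C Γ(G, U) := .of_algebraMap_smul fun _ _ => rfl
  let p : Γ(ΩY, W) →ₗ[B] Γ(G, U) := PullbackMod.pullMapL f ΩY (W' := U) eU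
  have hbc : IsBaseChange C p := PullbackMod.isBaseChange_pullMapL f ΩY hW hU eU
  let q : Ω[B⁄A] →ₗ[B] Γ(G, U) := p ∘ₗ T
  let E : C ⊗[B] Ω[B⁄A] ≃ₗ[C] Γ(G, U) :=
    (TensorProduct.AlgebraTensorModule.congr (LinearEquiv.refl C C) (LinearEquiv.ofBijective T hTb)).trans hbc.equiv
  have hE : ∀ (r : C) (x : Ω[B⁄A]), E (r ⊗ₜ x) = r • q x := fun r x => by
    rw [LinearEquiv.trans_apply, TensorProduct.AlgebraTensorModule.congr_tmul, hbc.equiv_tmul]
    rfl
  let cL : Γ(G, U) →ₗ[C] Γ(ΩX, U) :=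
    { toFun := c.app U
      map_add' := map_add _
      map_smul' := fun r m => Scheme.Modules.Hom.app_smul c r m }
  have hcomp : ∀ b : B, cL (q (KaehlerDifferential.D A B b)) = dX.app U (algebraMap B C b) := fun b => by
    show c.app U (p (T _)) = _
    rw [hT]
    show c.app U (G.presheaf.map (homOfLE eU).op (OmegaSh.pullSect f ΩY W (dY.app W b))) = _
    rw [hom_natural, hc, ← app_res]
    rfl
  refine ⟨E.toEquiv, fun t => ?_, fun b => ?_⟩
  · show cL (E t) = _
    induction t using TensorProduct.induction_on with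
    | zero => simp only [map_zero]
    | add s t hs ht => simp only [map_add, hs, ht]
    | tmul r x =>
      rw [hE, map_smul, KaehlerDifferential.mapBaseChange_tmul, map_smul]
      congr 1
      have hx : x ∈ Submodule.span B (Set.range (KaehlerDifferential.D A B)) := by
        rw [KaehlerDifferential.span_range_derivation]; trivial
      induction hx using Submodule.span_induction with
      | mem y hy =>
        obtain ⟨b, rfl⟩ := hy
        rw [KaehlerDifferential.map_D, hTX]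
        exact hcomp b
      | zero => simp only [map_zero]
      | add y z _ _ hy hz => simp only [map_add, hy, hz]
      | smul b y _ hy =>
        rw [map_smul q, ← algebraMap_smul C b (q y), map_smul, hy,
          map_smul (KaehlerDifferential.map A A B C), ← algebraMap_smul C b (KaehlerDifferential.map A A B C y),
          map_smul]
  · refine (hE _ _).trans ?_
    rw [one_smul]
    refine Eq.trans ?_ (congrArg (fun z => PullbackMod.pullMap f ΩY eU z) (hT b))
    rfl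

include hY hX hc in
/-- The first fundamental sequence. -/
theorem exact_comp {ΩXY : X.Modules} {dXY : OmegaSh.Der f ΩXY} (hXY : OmegaSh.IsUniversal dXY)
    (c₂ : (Scheme.Modules.pullback (𝟙 X)).obj ΩX ⟶ ΩXY) (hc₂ : OmegaSh.IsDiffCompat (𝟙 X) dX dXY c₂) :
    ∃ w : c ≫ ((Scheme.Modules.pullbackId X).inv.app ΩX ≫ c₂) = 0,
      Epi ((Scheme.Modules.pullbackId X).inv.app ΩX ≫ c₂) ∧
      (ShortComplex.mk c ((Scheme.Modules.pullbackId X).inv.app ΩX ≫ c₂) w).Exact := by
  let s₂ : ΩX ⟶ ΩXY := (Scheme.Modules.pullbackId X).inv.app ΩX ≫ c₂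
  have hs₂ : ∀ (U : X.Opens) (a : Γ(X, U)), s₂.app U (dX.app U a) = dXY.app U a := fun U a => by
    show c₂.app U (((Scheme.Modules.pullbackId X).inv.app ΩX).app U (dX.app U a)) = _
    rw [ConormalLib.pullbackId_inv_app]
    exact hc₂ U a
  have chart : ∀ (x : X) (V₀ : X.Opens), x ∈ V₀ → ∃ U : X.Opens, U ≤ V₀ ∧ x ∈ U ∧
      Function.Surjective (s₂.app U) ∧
      (∀ n, s₂.app U (c.app U n) = 0) ∧
      ∀ m, s₂.app U m = 0 → ∃ n, c.app U n = m := by
    intro x V₀ hx
    obtain ⟨_, ⟨V, hV, rfl⟩, hxV, -⟩ :=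
      Z.isBasis_affineOpens.exists_subset_of_mem_open (Set.mem_univ (g (f x))) isOpen_univ
    obtain ⟨_, ⟨W, hW, rfl⟩, hxW, hWV⟩ :=
      Y.isBasis_affineOpens.exists_subset_of_mem_open (a := f x) hxV (g ⁻¹ᵁ V).2
    obtain ⟨_, ⟨U, hU, rfl⟩, hxU, hUW⟩ :=
      X.isBasis_affineOpens.exists_subset_of_mem_open (a := x) (show x ∈ V₀ ⊓ f ⁻¹ᵁ W from ⟨hx, hxW⟩)
        (V₀ ⊓ f ⁻¹ᵁ W).2
    have eW : W ≤ g ⁻¹ᵁ V := hWV
    have eU : U ≤ f ⁻¹ᵁ W := fun y hy => (hUW hy).2
    refine ⟨U, fun y hy => (hUW hy).1, hxU, ?_⟩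
    let A := Γ(Z, V)
    let B := Γ(Y, W)
    let C := Γ(X, U)
    letI : Algebra A B := (g.appLE V W eW).hom.toAlgebra
    letI : Algebra A C := ((f ≫ g).appLE V U (le_comp f g eW eU)).hom.toAlgebra
    letI : Algebra B C := (f.appLE W U eU).hom.toAlgebra
    haveI : IsScalarTower A B C := .of_algebraMap_eq' (by
      show ((f ≫ g).appLE V U (le_comp f g eW eU)).hom = (g.appLE V W eW ≫ f.appLE W U eU).hom
      rw [Scheme.Hom.appLE_comp_appLE])
    obtain ⟨TX, hTX⟩ := exists_lin_of_der dX (le_comp f g eW eU)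
    obtain ⟨TXY, hTXY⟩ := exists_lin_of_der dXY eU
    have hTXb := bijective_of_universal hV hU (le_comp f g eW eU) hX TX hTX
    have hTXYb := bijective_of_universal hW hU eU hXY TXY hTXY
    have key : ∀ z, s₂.app U (TX z) = TXY (KaehlerDifferential.map A B C C z) := by
      intro z
      have hz : z ∈ Submodule.span C (Set.range (KaehlerDifferential.D A C)) := by
        rw [KaehlerDifferential.span_range_derivation]; trivial
      induction hz using Submodule.span_induction with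
      | mem y hy =>
        obtain ⟨a, rfl⟩ := hy
        rw [KaehlerDifferential.map_D, hTX, hTXY, hs₂]
        rfl
      | zero => simp only [map_zero]
      | add y z _ _ hy hz => simp only [map_add, hy, hz]
      | smul r y _ hy => rw [map_smul, Scheme.Modules.Hom.app_smul, hy, map_smul, map_smul]
    obtain ⟨E, hE, -⟩ := exists_chartEquiv f g hY c hc hV hW hU eW eU TX hTX
    refine ⟨fun m => ?_, fun n => ?_, fun m hm => ?_⟩
    · obtain ⟨z, rfl⟩ := hTXYb.2 m
      obtain ⟨z', rfl⟩ := KaehlerDifferential.map_surjective A B C z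
      exact ⟨TX z', key z'⟩
    · obtain ⟨t, rfl⟩ := E.surjective n
      rw [hE, key, (KaehlerDifferential.exact_mapBaseChange_map A B C).apply_apply_eq_zero, map_zero]
    · obtain ⟨z, rfl⟩ := hTXb.2 m
      rw [key] at hm
      obtain ⟨t, rfl⟩ := (KaehlerDifferential.exact_mapBaseChange_map A B C z).mp (hTXYb.1 (hm.trans (map_zero TXY).symm))
      exact ⟨E t, hE t⟩
  have w : c ≫ s₂ = 0 := ConormalLib.eq_zero_of_local _ fun x V₀ hx m => by
    obtain ⟨U, hle, hxU, -, h0, -⟩ := chart x V₀ hx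
    exact ⟨U, hle, hxU, h0 _⟩
  refine ⟨w, ConormalLib.epi_of_local _ fun x V₀ hx m => ?_, ConormalLib.exact_of_local _ _ w fun x V₀ hx m hm => ?_⟩
  · obtain ⟨U, hle, hxU, hs, -, -⟩ := chart x V₀ hx
    exact ⟨U, hle, hxU, hs _⟩
  · obtain ⟨U, hle, hxU, -, -, he⟩ := chart x V₀ hx
    exact ⟨U, hle, hxU, he _ (by rw [hom_natural, hm, map_zero])⟩

include hY hX hc in
/-- The second fundamental sequence. -/
theorem exact_immersion [IsImmersion f] [QuasiCompact f]
    (φ : Omega.conormal f ⟶ (Scheme.Modules.pullback f).obj ΩY) (hφ : OmegaSh.IsConormalDiff f dY φ) :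
    ∃ w : φ ≫ c = 0, Epi c ∧ (ShortComplex.mk φ c w).Exact := by
  have chart : ∀ (x : X) (V₀ : X.Opens), x ∈ V₀ → ∃ U : X.Opens, U ≤ V₀ ∧ x ∈ U ∧
      Function.Surjective (c.app U) ∧
      (∀ n, c.app U (φ.app U n) = 0) ∧
      ∀ m, c.app U m = 0 → ∃ n, φ.app U n = m := by
    intro x V₀ hx
    obtain ⟨_, ⟨V, hV, rfl⟩, hxV, -⟩ :=
      Z.isBasis_affineOpens.exists_subset_of_mem_open (Set.mem_univ (g (f x))) isOpen_univ
    obtain ⟨W, hW, hxW, hWV, hle, hb⟩ := ConormalLib.exists_chart f x hx (O := g ⁻¹ᵁ V) hxV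
    obtain ⟨hU, hs⟩ := ConormalLib.chart_of_le f hW hb
    let U := f ⁻¹ᵁ W
    have eW : W ≤ g ⁻¹ᵁ V := hWV
    have eU : U ≤ f ⁻¹ᵁ W := le_rfl
    refine ⟨U, hle, hxW, ?_⟩
    let A := Γ(Z, V)
    let B := Γ(Y, W)
    let C := Γ(X, U)
    letI : Algebra A B := (g.appLE V W eW).hom.toAlgebra
    letI : Algebra A C := ((f ≫ g).appLE V U (le_comp f g eW eU)).hom.toAlgebra
    letI : Algebra B C := (f.appLE W U eU).hom.toAlgebra
    haveI : IsScalarTower A B C := .of_algebraMap_eq' (by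
      show ((f ≫ g).appLE V U (le_comp f g eW eU)).hom = (g.appLE V W eW ≫ f.appLE W U eU).hom
      rw [Scheme.Hom.appLE_comp_appLE])
    have hsurj : Function.Surjective (algebraMap B C) := by
      show Function.Surjective (f.appLE W (f ⁻¹ᵁ W) le_rfl)
      rw [← Scheme.Hom.app_eq_appLE]
      exact hs
    obtain ⟨TX, hTX⟩ := exists_lin_of_der dX (le_comp f g eW eU)
    have hTXb := bijective_of_universal hV hU (le_comp f g eW eU) hX TX hTX
    obtain ⟨E, hE, hEd⟩ := exists_chartEquiv f g hY c hc hV hW hU eW eU TX hTX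
    have hker : RingHom.ker (algebraMap B C) = RingHom.ker (f.app W).hom := by
      show RingHom.ker (f.appLE W (f ⁻¹ᵁ W) le_rfl).hom = _
      rw [← Scheme.Hom.app_eq_appLE]
    have hφE : ∀ (s : Γ(ClSub.idealMod f.ker, W)),
        φ.app U (PullbackMod.pullMap f (ClSub.idealMod f.ker) (W := W) (W' := U) le_rfl s) =
          E (1 ⊗ₜ KaehlerDifferential.D A B (OmegaSh.idealSect f.ker W s)) := fun s => by
      rw [hEd]
      exact ConormalLib.Pair.phi_apply hφ s
    refine ⟨fun m => ?_, fun n => ?_, fun m hm => ?_⟩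
    · obtain ⟨z, rfl⟩ := hTXb.2 m
      obtain ⟨t, rfl⟩ := KaehlerDifferential.mapBaseChange_surjective A B C hsurj z
      exact ⟨E t, hE t⟩
    · obtain ⟨s, rfl⟩ := (ConormalLib.cls_surjective_and_eq_zero_iff f hW hU hs).1 n
      rw [hφE, hE]
      have hmem : OmegaSh.idealSect f.ker W s ∈ RingHom.ker (algebraMap B C) :=
        hker ▸ ConormalLib.app_idealSect f W s
      rw [KaehlerDifferential.mapBaseChange_tmul, one_smul, KaehlerDifferential.map_D]
      rw [show algebraMap B C (OmegaSh.idealSect f.ker W s) = 0 from hmem, map_zero, map_zero]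
    · obtain ⟨t, rfl⟩ := E.surjective m
      rw [hE] at hm
      obtain ⟨u, hu⟩ := (KaehlerDifferential.exact_kerCotangentToTensor_mapBaseChange A B C hsurj t).mp
        (hTXb.1 (hm.trans (map_zero TX).symm))
      obtain ⟨⟨b, hb'⟩, rfl⟩ := Ideal.toCotangent_surjective _ u
      obtain ⟨s, hs'⟩ := ConormalLib.exists_idealSect_eq f W b (by rw [← RingHom.mem_ker, ← hker]; exact hb')
      refine ⟨_, (hφE s).trans ?_⟩
      rw [hs']
      exact congrArg E hu
  have w : φ ≫ c = 0 := ConormalLib.eq_zero_of_local _ fun x V₀ hx m => by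
    obtain ⟨U, hle, hxU, -, h0, -⟩ := chart x V₀ hx
    exact ⟨U, hle, hxU, h0 _⟩
  refine ⟨w, ConormalLib.epi_of_local _ fun x V₀ hx m => ?_, ConormalLib.exact_of_local _ _ w fun x V₀ hx m hm => ?_⟩
  · obtain ⟨U, hle, hxU, hs, -, -⟩ := chart x V₀ hx
    exact ⟨U, hle, hxU, hs _⟩
  · obtain ⟨U, hle, hxU, -, -, he⟩ := chart x V₀ hx
    exact ⟨U, hle, hxU, he _ (by rw [hom_natural, hm, map_zero])⟩

end Groth.Agent.EtAlgEasy.OmegaSeq
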