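import Groth.Agent.EtAlgEasy.OmegaSeq
import Groth.Agent.ProjBundleLib.EpiClosed
import Groth.Agent.CohCmpLib.Inj
import Groth.Agent.PullbackMod.LocFree
import Groth.Agent.S1486
import Groth.Agent.S4992
import Mathlib

/-!
Differentials of formally unramified and formally smooth morphisms.
-/

set_option autoImplicit false
set_option backward.isDefEq.respectTransparency false
set_option backward.defeqAttrib.useBackward true
set_option linter.style.haveILetI false

universe u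

open CategoryTheory CategoryTheory.Limits AlgebraicGeometry TopologicalSpace Opposite
open scoped TensorProduct
open Groth.Agent.OmegaUnivLib

namespace Groth.Agent.EtAlgEasy.OmegaSmooth

theorem exact_seq_chart {X Y S : Scheme.{u}} (f : X ⟶ Y) (g : Y ⟶ S)
    {ΩY : Y.Modules} {dY : OmegaSh.Der g ΩY} (hY : OmegaSh.IsUniversal dY)
    {ΩX : X.Modules} {dX : OmegaSh.Der (f ≫ g) ΩX} (hX : OmegaSh.IsUniversal dX)
    (c : (Scheme.Modules.pullback f).obj ΩY ⟶ ΩX) (hc : OmegaSh.IsDiffCompat f dY dX c)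
    {V : S.Opens} {W : Y.Opens} {U : X.Opens} (hV : IsAffineOpen V) (hW : IsAffineOpen W) (hU : IsAffineOpen U)
    (eW : W ≤ g ⁻¹ᵁ V) (eU : U ≤ f ⁻¹ᵁ W) :
    letI : Algebra Γ(S, V) Γ(Y, W) := (g.appLE V W eW).hom.toAlgebra
    letI : Algebra Γ(S, V) Γ(X, U) := ((f ≫ g).appLE V U (OmegaSeq.le_comp f g eW eU)).hom.toAlgebra
    letI : Algebra Γ(Y, W) Γ(X, U) := (f.appLE W U eU).hom.toAlgebra
    haveI : IsScalarTower Γ(S, V) Γ(Y, W) Γ(X, U) := .of_algebraMap_eq' (by
      show ((f ≫ g).appLE V U (OmegaSeq.le_comp f g eW eU)).hom = (g.appLE V W eW ≫ f.appLE W U eU).hom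
      rw [Scheme.Hom.appLE_comp_appLE])
    (Function.Surjective (c.app U) ↔ Subsingleton Ω[Γ(X, U)⁄Γ(Y, W)]) ∧
    (Algebra.FormallySmooth Γ(Y, W) Γ(X, U) → Function.Injective (c.app U)) := by
  letI : Algebra Γ(S, V) Γ(Y, W) := (g.appLE V W eW).hom.toAlgebra
  letI : Algebra Γ(S, V) Γ(X, U) := ((f ≫ g).appLE V U (OmegaSeq.le_comp f g eW eU)).hom.toAlgebra
  letI : Algebra Γ(Y, W) Γ(X, U) := (f.appLE W U eU).hom.toAlgebra
  haveI : IsScalarTower Γ(S, V) Γ(Y, W) Γ(X, U) := .of_algebraMap_eq' (by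
    show ((f ≫ g).appLE V U (OmegaSeq.le_comp f g eW eU)).hom = (g.appLE V W eW ≫ f.appLE W U eU).hom
    rw [Scheme.Hom.appLE_comp_appLE])
  let A := Γ(S, V); let B := Γ(Y, W); let C := Γ(X, U)
  obtain ⟨T, hT⟩ := exists_lin_of_der dX (OmegaSeq.le_comp f g eW eU)
  have hTb := bijective_of_universal hV hU (OmegaSeq.le_comp f g eW eU) hX T hT
  obtain ⟨E, hE, -⟩ := OmegaSeq.exists_chartEquiv f g hY c hc hV hW hU eW eU T hT
  have hfun : (c.app U : _ → _) ∘ E = (T : _ → _) ∘ KaehlerDifferential.mapBaseChange A B C := funext hE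
  refine ⟨⟨fun h => ?_, fun h => ?_⟩, fun h => ?_⟩
  · have h2 : Function.Surjective (KaehlerDifferential.mapBaseChange A B C) := by
      have := h.comp E.surjective
      rw [hfun] at this
      exact fun z => let ⟨t, ht⟩ := this (T z); ⟨t, hTb.1 ht⟩
    refine subsingleton_of_forall_eq 0 fun w => ?_
    obtain ⟨z, rfl⟩ := KaehlerDifferential.map_surjective A B C w
    obtain ⟨t, rfl⟩ := h2 z
    exact (KaehlerDifferential.exact_mapBaseChange_map A B C).apply_apply_eq_zero t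
  · intro m
    obtain ⟨z, rfl⟩ := hTb.2 m
    obtain ⟨t, rfl⟩ := (KaehlerDifferential.exact_mapBaseChange_map A B C z).mp (Subsingleton.elim _ _)
    exact ⟨E t, congrFun hfun t⟩
  · have h2 : Function.Injective (KaehlerDifferential.mapBaseChange A B C) := by
      rw [injective_iff_map_eq_zero]
      intro t ht
      obtain ⟨s, rfl⟩ := (Algebra.H1Cotangent.exact_δ_mapBaseChange A B C t).mp ht
      rw [Subsingleton.elim s 0, map_zero]
    have := hTb.1.comp h2
    rw [← hfun] at this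
    exact (Function.Injective.of_comp_iff' _ E.bijective).1 this

theorem formallyUnramified_iff_epi {X Y S : Scheme.{u}} (f : X ⟶ Y) (g : Y ⟶ S)
    {ΩY : Y.Modules} {dY : OmegaSh.Der g ΩY} (hY : OmegaSh.IsUniversal dY)
    {ΩX : X.Modules} {dX : OmegaSh.Der (f ≫ g) ΩX} (hX : OmegaSh.IsUniversal dX)
    (c : (Scheme.Modules.pullback f).obj ΩY ⟶ ΩX) (hc : OmegaSh.IsDiffCompat f dY dX c) :
    FormallyUnramified f ↔ Epi c := by
  haveI := isQCoh_of_universal hY
  have hqX := isQCoh_of_universal hX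
  have hqp := PullbackMod.isQCoh_pullback f ΩY
  constructor
  · intro hu
    refine ConormalLib.epi_of_local _ fun x V₀ hx m => ?_
    obtain ⟨_, ⟨V, hV, rfl⟩, hxV, -⟩ :=
      S.isBasis_affineOpens.exists_subset_of_mem_open (Set.mem_univ (g (f x))) isOpen_univ
    obtain ⟨_, ⟨W, hW, rfl⟩, hxW, hWV⟩ :=
      Y.isBasis_affineOpens.exists_subset_of_mem_open (a := f x) hxV (g ⁻¹ᵁ V).2
    obtain ⟨_, ⟨U, hU, rfl⟩, hxU, hUW⟩ :=
      X.isBasis_affineOpens.exists_subset_of_mem_open (a := x) (show x ∈ V₀ ⊓ f ⁻¹ᵁ W from ⟨hx, hxW⟩)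
        (V₀ ⊓ f ⁻¹ᵁ W).2
    have eU : U ≤ f ⁻¹ᵁ W := fun y hy => (hUW hy).2
    have h1 := (exact_seq_chart f g hY hX c hc hV hW hU hWV eU).1
    refine ⟨U, fun y hy => (hUW hy).1, hxU, h1.2 ?_ _⟩
    letI := (f.appLE W U eU).hom.toAlgebra
    haveI : Algebra.FormallyUnramified Γ(Y, W) Γ(X, U) := f.formallyUnramified_appLE hW hU eU
    infer_instance
  · intro hepi
    rw [formallyUnramified_iff]
    intro W hW U hU eU
    letI := (f.appLE W U eU).hom.toAlgebra
    show Algebra.FormallyUnramified Γ(Y, W) Γ(X, U)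
    -- cover `W` by basic opens over affines of the base
    suffices h : ∀ x : X, x ∈ U → ∃ (V : S.Opens) (W' : Y.Opens) (U' : X.Opens) (_ : IsAffineOpen V)
        (_ : IsAffineOpen W') (_ : IsAffineOpen U') (e : U' ≤ f ⁻¹ᵁ W'), x ∈ U' ∧ W' ≤ g ⁻¹ᵁ V ∧ U' ≤ U ∧
        (f.appLE W' U' e).hom.FormallyUnramified by
      haveI : FormallyUnramified (f.resLE W U eU) := by
        have : ∀ x : U, ∃ V : U.toScheme.Opens, x ∈ V ∧ FormallyUnramified (V.ι ≫ f.resLE W U eU) := by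
          intro x
          obtain ⟨V, W', U', hV, hW', hU', e, hx, -, hle, hfu⟩ := h x.1 x.2
          refine ⟨U.ι ⁻¹ᵁ U', hx, ?_⟩
          haveI : FormallyUnramified (f.resLE W' U' e) := by
            haveI : IsAffine W'.toScheme := hW'
            haveI : IsAffine U'.toScheme := hU'
            rw [HasRingHomProperty.iff_of_isAffine (P := @FormallyUnramified)]
            exact RingHom.FormallyUnramified.respectsIso.arrow_mk_iso_iff (arrowResLEAppIso f W' U' e) |>.2 hfu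
          haveI : FormallyUnramified ((U.ι ⁻¹ᵁ U').ι ≫ f.resLE W U eU ≫ W.ι) := by
            rw [Scheme.Hom.resLE_comp_ι]
            let i : (U.ι ⁻¹ᵁ U').toScheme ⟶ U'.toScheme :=
              IsOpenImmersion.lift U'.ι ((U.ι ⁻¹ᵁ U').ι ≫ U.ι) (by
                rintro _ ⟨z, rfl⟩
                rw [Scheme.Opens.range_ι]
                exact z.2)
            haveI : IsOpenImmersion (i ≫ U'.ι) := by rw [IsOpenImmersion.lift_fac]; infer_instance
            haveI : IsOpenImmersion i := IsOpenImmersion.of_comp i U'.ι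
            rw [show (U.ι ⁻¹ᵁ U').ι ≫ U.ι ≫ f = i ≫ f.resLE W' U' e ≫ W'.ι by
              rw [Scheme.Hom.resLE_comp_ι, ← Category.assoc, ← Category.assoc, IsOpenImmersion.lift_fac]]
            haveI hi : FormallyUnramified i := inferInstance
            haveI hw : FormallyUnramified W'.ι := inferInstance
            exact MorphismProperty.comp_mem _ _ _ hi (MorphismProperty.comp_mem _ _ _ ‹_› hw)
          rw [← Category.assoc] at this
          exact FormallyUnramified.of_comp _ W.ι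
        choose V hxV hV using this
        refine IsZariskiLocalAtSource.of_iSup_eq_top (P := @FormallyUnramified) V
          (eq_top_iff.2 fun x _ => Opens.mem_iSup.2 ⟨x, hxV x⟩) hV
      haveI : IsAffine W.toScheme := hW
      haveI : IsAffine U.toScheme := hU
      have h2 := (HasRingHomProperty.iff_of_isAffine (P := @FormallyUnramified) (f := f.resLE W U eU)).1 inferInstance
      exact RingHom.FormallyUnramified.respectsIso.arrow_mk_iso_iff (arrowResLEAppIso f W U eU) |>.1 h2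
    intro x hx
    obtain ⟨_, ⟨V, hV, rfl⟩, hxV, -⟩ :=
      S.isBasis_affineOpens.exists_subset_of_mem_open (Set.mem_univ (g (f x))) isOpen_univ
    obtain ⟨_, ⟨W', hW', rfl⟩, hxW, hWV⟩ :=
      Y.isBasis_affineOpens.exists_subset_of_mem_open (a := f x) hxV (g ⁻¹ᵁ V).2
    obtain ⟨_, ⟨U', hU', rfl⟩, hxU, hUW⟩ :=
      X.isBasis_affineOpens.exists_subset_of_mem_open (a := x) (show x ∈ U ⊓ f ⁻¹ᵁ W' from ⟨hx, hxW⟩)
        (U ⊓ f ⁻¹ᵁ W').2
    have eU' : U' ≤ f ⁻¹ᵁ W' := fun y hy => (hUW hy).2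
    refine ⟨V, W', U', hV, hW', hU', eU', hxU, hWV, fun y hy => (hUW hy).1, ?_⟩
    haveI := hepi
    have hs := (exact_seq_chart f g hY hX c hc hV hW' hU' hWV eU').1.1
      (ProjBundleLib.surjective_app_of_epi hqp hqX c hU')
    letI := (f.appLE W' U' eU').hom.toAlgebra
    show Algebra.FormallyUnramified Γ(Y, W') Γ(X, U')
    exact ⟨hs⟩

theorem mono_of_formallySmooth {X Y S : Scheme.{u}} (f : X ⟶ Y) (g : Y ⟶ S) (hf : MoreMor.IsFormallySmoothHom f)
    {ΩY : Y.Modules} {dY : OmegaSh.Der g ΩY} (hY : OmegaSh.IsUniversal dY)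
    {ΩX : X.Modules} {dX : OmegaSh.Der (f ≫ g) ΩX} (hX : OmegaSh.IsUniversal dX)
    (c : (Scheme.Modules.pullback f).obj ΩY ⟶ ΩX) (hc : OmegaSh.IsDiffCompat f dY dX c) : Mono c := by
  refine ConormalLib.mono_of_local _ fun x V₀ hx m hm => ?_
  obtain ⟨_, ⟨V, hV, rfl⟩, hxV, -⟩ :=
    S.isBasis_affineOpens.exists_subset_of_mem_open (Set.mem_univ (g (f x))) isOpen_univ
  obtain ⟨_, ⟨W, hW, rfl⟩, hxW, hWV⟩ :=
    Y.isBasis_affineOpens.exists_subset_of_mem_open (a := f x) hxV (g ⁻¹ᵁ V).2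
  obtain ⟨_, ⟨U, hU, rfl⟩, hxU, hUW⟩ :=
    X.isBasis_affineOpens.exists_subset_of_mem_open (a := x) (show x ∈ V₀ ⊓ f ⁻¹ᵁ W from ⟨hx, hxW⟩)
      (V₀ ⊓ f ⁻¹ᵁ W).2
  have eU : U ≤ f ⁻¹ᵁ W := fun y hy => (hUW hy).2
  have hinj := (exact_seq_chart f g hY hX c hc hV hW hU hWV eU).2 ((S1486.result f).1 hf U W hU hW eU)
  refine ⟨U, fun y hy => (hUW hy).1, hxU, hinj ?_⟩
  rw [hom_natural, hm, map_zero, map_zero]

end Groth.Agent.EtAlgEasy.OmegaSmooth
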