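import Groth.Prelude.Def_OmegaPn
import Groth.Agent.BlowCompLib.Compose
import Mathlib

/-!
The symmetry of the infinitesimal neighbourhoods of the diagonal; functoriality of neighbourhoods.
-/

set_option autoImplicit false

universe u

open CategoryTheory CategoryTheory.Limits AlgebraicGeometry TopologicalSpace Opposite

namespace Groth.Agent.EtAlgEasy.PrinPartSym

theorem comap_pow {X Y : Scheme.{u}} (g : X ⟶ Y) (K : Y.IdealSheafData) (k : ℕ) :
    (K ^ (k + 1)).comap g = (K.comap g) ^ (k + 1) := by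
  induction k with
  | zero => rw [pow_one, pow_one]
  | succ k ih => rw [pow_succ, Groth.Agent.BlowCompLib.comap_mul, ih, pow_succ _ (k + 1)]

theorem exists_infNbhd_map {Y X Y' X' : Scheme.{u}} (i : Y ⟶ X) (i' : Y' ⟶ X') [QuasiCompact i] [QuasiCompact i']
    (g : X ⟶ X') (h : Y ⟶ Y') (w : i ≫ g = h ≫ i') (n : ℕ) :
    ∃ σ : PrinPart.infNbhd i n ⟶ PrinPart.infNbhd i' n,
      σ ≫ PrinPart.infNbhdι i' n = PrinPart.infNbhdι i n ≫ g := by
  haveI : IsClosedImmersion (PrinPart.infNbhdι i' n) := by unfold PrinPart.infNbhdι; infer_instance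
  have H : (PrinPart.infNbhdι i' n).ker ≤ (PrinPart.infNbhdι i n ≫ g).ker := by
    rw [Scheme.Hom.ker_comp, PrinPart.infNbhdι, PrinPart.infNbhdι, Scheme.IdealSheafData.ker_subschemeι,
      Scheme.IdealSheafData.ker_subschemeι, Scheme.IdealSheafData.le_map_iff_comap_le, comap_pow]
    refine pow_le_pow_left' ?_ _
    rw [← Scheme.IdealSheafData.le_map_iff_comap_le, ← Scheme.Hom.ker_comp, w]
    exact h.le_ker_comp i'
  exact ⟨IsClosedImmersion.lift _ _ H, IsClosedImmersion.lift_fac _ _ H⟩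

variable {X S : Scheme.{u}} (f : X ⟶ S) (n : ℕ)

theorem symmetry_diagonal : pullback.diagonal f ≫ (pullbackSymmetry f f).hom = pullback.diagonal f := by
  apply pullback.hom_ext <;> simp

theorem exists_sigma :
    ∃ σ : PrinPart.nbhd f n ⟶ PrinPart.nbhd f n,
      σ ≫ PrinPart.nbhdι f n = PrinPart.nbhdι f n ≫ (pullbackSymmetry f f).hom ∧
      σ ≫ σ = 𝟙 (PrinPart.nbhd f n) ∧
      σ ≫ PrinPart.pr1 f n = PrinPart.pr2 f n ∧ σ ≫ PrinPart.pr2 f n = PrinPart.pr1 f n ∧
      PrinPart.toNbhd f n ≫ σ = PrinPart.toNbhd f n := by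
  let t := (pullbackSymmetry f f).hom
  let W := (pullback.diagonal f).coborderRange
  have hR : t ⁻¹' Set.range (pullback.diagonal f) = Set.range (pullback.diagonal f) := by
    ext y
    constructor
    · rintro ⟨x, hx⟩
      refine ⟨x, ?_⟩
      have h1 : t (pullback.diagonal f x) = pullback.diagonal f x := by
        rw [← Scheme.Hom.comp_apply, symmetry_diagonal]
      exact t.isOpenEmbedding.injective (h1.trans hx)
    · rintro ⟨x, rfl⟩
      exact ⟨x, by rw [← Scheme.Hom.comp_apply, symmetry_diagonal]⟩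
  have hW : (t ⁻¹' (W : Set (pullback f f : Scheme.{u}))) = (W : Set (pullback f f : Scheme.{u})) := by
    show t ⁻¹' coborder (Set.range (pullback.diagonal f)) = coborder (Set.range (pullback.diagonal f))
    rw [← t.isOpenEmbedding.coborder_preimage, hR]
  have hr : Set.range (W.ι ≫ t) ⊆ Set.range W.ι := by
    rintro _ ⟨y, rfl⟩
    rw [Scheme.Opens.range_ι]
    have : W.ι y ∈ t ⁻¹' (W : Set (pullback f f : Scheme.{u})) := by
      rw [hW]; exact y.2
    exact this
  let tW := IsOpenImmersion.lift W.ι (W.ι ≫ t) hr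
  have htW : tW ≫ W.ι = W.ι ≫ t := IsOpenImmersion.lift_fac _ _ hr
  have hd : PrinPart.diagCl f ≫ tW = 𝟙 X ≫ PrinPart.diagCl f := by
    rw [← cancel_mono W.ι, Category.assoc, htW, ← Category.assoc, Scheme.Hom.liftCoborder_ι,
      Category.id_comp, Scheme.Hom.liftCoborder_ι, symmetry_diagonal]
  obtain ⟨σ, hσ⟩ := exists_infNbhd_map (PrinPart.diagCl f) (PrinPart.diagCl f) tW (𝟙 X) hd n
  have h0 : σ ≫ PrinPart.nbhdι f n = PrinPart.nbhdι f n ≫ t := by
    rw [PrinPart.nbhdι, ← Category.assoc, hσ, Category.assoc, htW, Category.assoc]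
  haveI : Mono (PrinPart.nbhdι f n) := by
    unfold PrinPart.nbhdι PrinPart.infNbhdι; infer_instance
  refine ⟨σ, h0, ?_, ?_, ?_, ?_⟩
  · rw [← cancel_mono (PrinPart.nbhdι f n), Category.assoc, h0, ← Category.assoc, h0, Category.assoc,
      Category.id_comp]
    have : t ≫ t = 𝟙 _ := by apply pullback.hom_ext <;> simp [t]
    rw [this, Category.comp_id]
  · rw [PrinPart.pr1, PrinPart.pr2, ← Category.assoc, h0, Category.assoc]
    simp [t]
  · rw [PrinPart.pr1, PrinPart.pr2, ← Category.assoc, h0, Category.assoc]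
    simp [t]
  · rw [← cancel_mono (PrinPart.nbhdι f n), Category.assoc, h0, ← Category.assoc, PrinPart.toNbhd_ι,
      symmetry_diagonal]

end Groth.Agent.EtAlgEasy.PrinPartSym
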