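import Mathlib

/-!
The support of a finitely presented module is cut out by finitely many minors.
-/

set_option autoImplicit false

universe u v

open PrimeSpectrum Topology

namespace Groth.Agent.EtAlgEasy.SupportConstr

variable {B : Type u} [CommRing B] {M : Type v} [AddCommGroup M] [Module B M]

theorem support_quotient_eq (a : ℕ) (G : Finset (Fin a → B)) :
    Module.support B ((Fin a → B) ⧸ Submodule.span B (G : Set (Fin a → B))) =
      zeroLocus (Set.range fun σ : Fin a → G => (Pi.basisFun B (Fin a)).det fun i => (σ i : Fin a → B)) := by
  classical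
  ext q
  rw [Module.mem_support_iff, mem_zeroLocus, Set.range_subset_iff]
  constructor
  · intro h σ
    by_contra hd
    refine (not_subsingleton_iff_nontrivial.2 h) (LocalizedModule.subsingleton_iff.2 fun z => ?_)
    refine ⟨_, hd, ?_⟩
    obtain ⟨v, rfl⟩ := Submodule.Quotient.mk_surjective _ z
    rw [← Submodule.Quotient.mk_smul, Submodule.Quotient.mk_eq_zero]
    let C : Matrix (Fin a) (Fin a) B := Matrix.of fun i j => (σ i : Fin a → B) j
    have hC : (Pi.basisFun B (Fin a)).det (fun i => (σ i : Fin a → B)) = C.det := by
      rw [Module.Basis.det_apply, ← Matrix.det_transpose]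
      rfl
    rw [hC, show C.det • v = Matrix.vecMul (Matrix.vecMul v C.adjugate) C by
      rw [Matrix.vecMul_vecMul, Matrix.adjugate_mul, Matrix.vecMul_smul, Matrix.vecMul_one]]
    have e : ∀ w : Fin a → B, Matrix.vecMul w C = ∑ i, w i • (σ i : Fin a → B) := fun w => by
      funext j
      simp [Matrix.vecMul, dotProduct, C, Finset.sum_apply]
    rw [e]
    exact Submodule.sum_mem _ fun i _ => Submodule.smul_mem _ _ (Submodule.subset_span (σ i).2)
  · intro h
    by_contra hs
    rw [not_nontrivial_iff_subsingleton, LocalizedModule.subsingleton_iff] at hs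
    choose s hsq hs using fun i : Fin a => hs (Submodule.Quotient.mk (Pi.single i 1))
    simp_rw [← Submodule.Quotient.mk_smul, Submodule.Quotient.mk_eq_zero, Submodule.mem_span_finset'] at hs
    choose c hc using hs
    have hd : (∏ i, s i) ∈ q.asIdeal := by
      have h1 : (Pi.basisFun B (Fin a)).det (fun i => s i • (Pi.single i 1 : Fin a → B)) = ∏ i, s i := by
        rw [AlternatingMap.map_smul_univ, show (fun i => (Pi.single i 1 : Fin a → B)) = ⇑(Pi.basisFun B (Fin a)) from
          funext fun i => (Pi.basisFun_apply B (Fin a) i).symm, Module.Basis.det_self, smul_eq_mul, mul_one]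
      rw [← h1]
      simp_rw [← hc]
      rw [← AlternatingMap.coe_multilinearMap, MultilinearMap.map_sum]
      refine Ideal.sum_mem _ fun r _ => ?_
      rw [MultilinearMap.map_smul_univ, smul_eq_mul]
      exact Ideal.mul_mem_left _ _ (h r)
    exact Submonoid.prod_mem q.asIdeal.primeCompl (fun i _ => hsq i) hd

/-- The support of a finitely presented module is constructible. -/
theorem isConstructible_support [Module.FinitePresentation B M] : IsConstructible (Module.support B M) := by
  obtain ⟨a, K, e, G, hG⟩ := Module.FinitePresentation.exists_fin B M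
  subst hG
  rw [e.support_eq, support_quotient_eq, ← Set.iUnion_singleton_eq_range, zeroLocus_iUnion]
  exact IsConstructible.iInter fun σ => by rw [← compl_compl (zeroLocus _), ← basicOpen_eq_zeroLocus_compl]; exact isConstructible_basicOpen.compl

end Groth.Agent.EtAlgEasy.SupportConstr
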