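import Groth.Agent.FlatLocus.PointScheme
import Groth.Agent.PointBC.Basic
import Mathlib

/-!
Pointwise criteria for unramified morphisms, étale morphisms and monomorphisms.
-/

set_option autoImplicit false
set_option backward.isDefEq.respectTransparency false
set_option linter.style.haveILetI false

universe u

open CategoryTheory CategoryTheory.Limits AlgebraicGeometry TopologicalSpace IsLocalRing

namespace Groth.Agent.EtAlgEasy.UnramStalk

section Alg

variable (R S : Type u) [CommRing R] [IsLocalRing R] [CommRing S] [IsLocalRing S] [Algebra R S]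
  [IsLocalHom (algebraMap R S)]

/-- The quotient by the extension of the maximal ideal as an algebra over the residue field. -/
noncomputable abbrev quotAlgebra : Algebra (R ⧸ maximalIdeal R) (S ⧸ (maximalIdeal R).map (algebraMap R S)) :=
  (Ideal.quotientMap ((maximalIdeal R).map (algebraMap R S)) (algebraMap R S) Ideal.le_comap_map).toAlgebra

noncomputable def quotEquiv (h : (maximalIdeal R).map (algebraMap R S) = maximalIdeal S) :
    letI : Algebra (ResidueField R) (S ⧸ (maximalIdeal R).map (algebraMap R S)) := quotAlgebra R S
    (S ⧸ (maximalIdeal R).map (algebraMap R S)) ≃ₐ[ResidueField R] ResidueField S :=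
  letI : Algebra (ResidueField R) (S ⧸ (maximalIdeal R).map (algebraMap R S)) := quotAlgebra R S
  AlgEquiv.ofRingEquiv (f := Ideal.quotEquivOfEq h) fun r => by
    obtain ⟨r, rfl⟩ := Ideal.Quotient.mk_surjective r
    rfl

theorem formallyUnramified_iff_quotient [Algebra.EssFiniteType R S] :
    letI := quotAlgebra R S
    Algebra.FormallyUnramified R S ↔
      IsField (S ⧸ (maximalIdeal R).map (algebraMap R S)) ∧
        Module.Finite (R ⧸ maximalIdeal R) (S ⧸ (maximalIdeal R).map (algebraMap R S)) ∧
        Algebra.IsSeparable (R ⧸ maximalIdeal R) (S ⧸ (maximalIdeal R).map (algebraMap R S)) := by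
  letI := quotAlgebra R S
  letI : Algebra (ResidueField R) (S ⧸ (maximalIdeal R).map (algebraMap R S)) := quotAlgebra R S
  constructor
  · intro h
    have hm := Algebra.FormallyUnramified.map_maximalIdeal (R := R) (S := S)
    haveI : Algebra.IsSeparable (ResidueField R) (ResidueField S) := inferInstance
    haveI : Algebra.EssFiniteType R (ResidueField S) := Algebra.EssFiniteType.comp R S (ResidueField S)
    haveI : Algebra.EssFiniteType (ResidueField R) (ResidueField S) := .of_comp R _ _
    haveI : Algebra.FormallyUnramified (ResidueField R) (ResidueField S) := .of_isSeparable _ _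
    haveI : Module.Finite (ResidueField R) (ResidueField S) := Algebra.FormallyUnramified.finite_of_free _ _
    exact ⟨Algebra.FormallyUnramified.isField_quotient_map_maximalIdeal,
      (Module.Finite.equiv (quotEquiv R S hm).symm.toLinearEquiv :
        Module.Finite (ResidueField R) (S ⧸ (maximalIdeal R).map (algebraMap R S))),
      (AlgEquiv.Algebra.isSeparable (quotEquiv R S hm).symm :
        Algebra.IsSeparable (ResidueField R) (S ⧸ (maximalIdeal R).map (algebraMap R S)))⟩
  · rintro ⟨hF, -, hsep⟩
    have hm : (maximalIdeal R).map (algebraMap R S) = maximalIdeal S :=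
      eq_maximalIdeal (Ideal.Quotient.maximal_ideal_iff_isField_quotient _ |>.2 hF)
    haveI : Algebra.IsSeparable (ResidueField R) (S ⧸ (maximalIdeal R).map (algebraMap R S)) := hsep
    haveI : Algebra.IsSeparable (ResidueField R) (ResidueField S) := AlgEquiv.Algebra.isSeparable (quotEquiv R S hm)
    exact Algebra.FormallyUnramified.of_map_maximalIdeal hm

theorem quotient_conditions_of_bijective
    (hb : Function.Bijective (Ideal.quotientMap ((maximalIdeal R).map (algebraMap R S)) (algebraMap R S) Ideal.le_comap_map)) :
    letI := quotAlgebra R S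
    IsField (S ⧸ (maximalIdeal R).map (algebraMap R S)) ∧
      Module.Finite (R ⧸ maximalIdeal R) (S ⧸ (maximalIdeal R).map (algebraMap R S)) ∧
      Algebra.IsSeparable (R ⧸ maximalIdeal R) (S ⧸ (maximalIdeal R).map (algebraMap R S)) := by
  letI := quotAlgebra R S
  let e : (R ⧸ maximalIdeal R) ≃+* (S ⧸ (maximalIdeal R).map (algebraMap R S)) := RingEquiv.ofBijective _ hb
  letI := Ideal.Quotient.field (maximalIdeal R)
  let e' : (R ⧸ maximalIdeal R) ≃ₐ[R ⧸ maximalIdeal R] (S ⧸ (maximalIdeal R).map (algebraMap R S)) :=
    AlgEquiv.ofRingEquiv (f := e) fun _ => rfl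
  refine ⟨MulEquiv.isField (Field.toIsField (R ⧸ maximalIdeal R)) e.symm.toMulEquiv, Module.Finite.equiv e'.toLinearEquiv,
    AlgEquiv.Algebra.isSeparable e'⟩

end Alg

variable {X Y : Scheme.{u}} (f : X ⟶ Y)

theorem formallyUnramified_iff [LocallyOfFiniteType f] :
    FormallyUnramified f ↔ ∀ x : X, (f.stalkMap x).hom.FormallyUnramified := by
  refine ⟨fun _ x => FormallyUnramified.stalkMap f x, fun h => ?_⟩
  choose U hxU hfu using fun x => (FlatLocus.exists_formallyUnramified_nhd_iff f x).2 (h x)
  exact IsZariskiLocalAtSource.of_iSup_eq_top U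
    (top_unique fun x _ => Opens.mem_iSup.2 ⟨x, hxU x⟩) hfu

theorem stalk_formallyUnramified_iff_quotient [LocallyOfFiniteType f] (x : X) :
    (f.stalkMap x).hom.FormallyUnramified ↔
      letI φ := (f.stalkMap x).hom
      letI 𝔪 := IsLocalRing.maximalIdeal ↑(Y.presheaf.stalk (f x))
      letI := (Ideal.quotientMap (𝔪.map φ) φ Ideal.le_comap_map).toAlgebra
      IsField (↑(X.presheaf.stalk x) ⧸ 𝔪.map φ) ∧
        Module.Finite (↑(Y.presheaf.stalk (f x)) ⧸ 𝔪) (↑(X.presheaf.stalk x) ⧸ 𝔪.map φ) ∧
        Algebra.IsSeparable (↑(Y.presheaf.stalk (f x)) ⧸ 𝔪) (↑(X.presheaf.stalk x) ⧸ 𝔪.map φ) := by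
  letI := (f.stalkMap x).hom.toAlgebra
  haveI : IsLocalHom (algebraMap (Y.presheaf.stalk (f x)) (X.presheaf.stalk x)) :=
    inferInstanceAs (IsLocalHom (f.stalkMap x).hom)
  haveI : Algebra.EssFiniteType (Y.presheaf.stalk (f x)) (X.presheaf.stalk x) :=
    RingHom.essFiniteType_algebraMap.1 (LocallyOfFiniteType.stalkMap f x)
  rw [show (f.stalkMap x).hom.FormallyUnramified ↔
    Algebra.FormallyUnramified (Y.presheaf.stalk (f x)) (X.presheaf.stalk x) from RingHom.formallyUnramified_algebraMap]
  exact formallyUnramified_iff_quotient (Y.presheaf.stalk (f x)) (X.presheaf.stalk x)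

theorem formallyUnramified_iff_fibres {S : Scheme.{u}} (g : Y ⟶ S) [LocallyOfFiniteType f] :
    FormallyUnramified f ↔ ∀ s : S, FormallyUnramified (pullback.snd f (g.fiberι s)) := by
  refine ⟨fun h s => MorphismProperty.pullback_snd (P := @FormallyUnramified) _ _ h, fun h => ?_⟩
  rw [formallyUnramified_iff]
  intro x
  let y := f x
  let t : Spec (Y.residueField y) ⟶ g.fiber (g y) := pullback.lift (Y.fromSpecResidueField y)
    (Spec.map (g.residueFieldMap y)) (g.SpecMap_residueFieldMap_fromSpecResidueField y).symm
  have ht : t ≫ g.fiberι (g y) = Y.fromSpecResidueField y := pullback.lift_fst _ _ _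
  haveI := h (g y)
  have hT : FormallyUnramified (f.fiberToSpecResidueField y) := by
    show FormallyUnramified (pullback.snd f (Y.fromSpecResidueField y))
    rw [← ht]
    have : pullback.snd f (t ≫ g.fiberι (g y)) =
        (pullbackLeftPullbackSndIso f (g.fiberι (g y)) t).inv ≫ pullback.snd (pullback.snd f (g.fiberι (g y))) t := by
      simp
    rw [this]
    exact MorphismProperty.comp_mem _ _ _ inferInstance
      (MorphismProperty.pullback_snd (P := @FormallyUnramified) _ _ ‹_›)
  have key := (Groth.Agent.PointBC.formallyUnramified_iff_fibre f y (f.asFiber x)).2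
    (FormallyUnramified.stalkMap _ _)
  rwa [Scheme.Hom.fiberι_asFiber] at key

theorem etale_iff [LocallyOfFinitePresentation f] :
    Etale f ↔ Flat f ∧ ∀ x : X, (f.stalkMap x).hom.FormallyUnramified := by
  rw [Etale.iff_flat_and_formallyUnramified, formallyUnramified_iff]
  exact ⟨fun h => ⟨h.1, h.2.1⟩, fun h => ⟨h.1, h.2, inferInstance⟩⟩

theorem mono_iff [LocallyOfFiniteType f] :
    Mono f ↔ ∀ x : X, (∀ x' : X, f x' = f x → x' = x) ∧
      Function.Bijective (Ideal.quotientMap ((maximalIdeal (Y.presheaf.stalk (f x))).map (f.stalkMap x).hom)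
        (f.stalkMap x).hom Ideal.le_comap_map) := by
  constructor
  · intro hmono x
    haveI : IsOpenImmersion (pullback.diagonal f) :=
      haveI := (pullback.isIso_diagonal_iff f).mpr hmono
      inferInstance
    haveI : FormallyUnramified f := inferInstance
    refine ⟨fun x' h => f.injective h, ?_⟩
    letI := (f.stalkMap x).hom.toAlgebra
    let R := Y.presheaf.stalk (f x); let S := X.presheaf.stalk x
    haveI : IsLocalHom (algebraMap R S) := inferInstanceAs (IsLocalHom (f.stalkMap x).hom)
    haveI : Algebra.EssFiniteType R S := RingHom.essFiniteType_algebraMap.1 (LocallyOfFiniteType.stalkMap f x)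
    haveI : Algebra.FormallyUnramified R S :=
      RingHom.formallyUnramified_algebraMap.1 (FormallyUnramified.stalkMap f x)
    have hm := Algebra.FormallyUnramified.map_maximalIdeal (R := R) (S := S)
    have hpi := (((tfae_universallyInjective f).out 0 2 rfl rfl).1 (inferInstance : UniversallyInjective f)).2 x
    haveI : IsPurelyInseparable (ResidueField R) (ResidueField S) := by
      have h0 : (algebraMap (ResidueField R) (ResidueField S)).IsPurelyInseparable := by
        rw [show algebraMap (ResidueField R) (ResidueField S) = (f.residueFieldMap x).hom from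
          RingHom.ext fun r => by
            obtain ⟨r, rfl⟩ := IsLocalRing.residue_surjective r
            rfl]
        exact hpi
      rw [RingHom.IsPurelyInseparable] at h0
      convert h0
      all_goals first | rfl | exact Algebra.algebra_ext _ _ fun r => rfl
    letI : Algebra (ResidueField R) (S ⧸ (maximalIdeal R).map (algebraMap R S)) := quotAlgebra R S
    have h := IsPurelyInseparable.bijective_algebraMap_of_isSeparable (ResidueField R) (ResidueField S)
    have h2 : Function.Bijective (algebraMap (ResidueField R) (S ⧸ (maximalIdeal R).map (algebraMap R S))) := by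
      have h3 := (quotEquiv R S hm).symm.bijective.comp h
      rwa [show ((quotEquiv R S hm).symm : _ → _) ∘ algebraMap (ResidueField R) (ResidueField S) =
        algebraMap (ResidueField R) (S ⧸ (maximalIdeal R).map (algebraMap R S)) from
        funext fun r => (quotEquiv R S hm).symm.commutes r] at h3
    exact h2
  · intro h
    haveI : FormallyUnramified f := by
      rw [formallyUnramified_iff]
      intro x
      rw [stalk_formallyUnramified_iff_quotient]
      letI := (f.stalkMap x).hom.toAlgebra
      haveI : IsLocalHom (algebraMap (Y.presheaf.stalk (f x)) (X.presheaf.stalk x)) :=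
        inferInstanceAs (IsLocalHom (f.stalkMap x).hom)
      exact quotient_conditions_of_bijective (Y.presheaf.stalk (f x)) (X.presheaf.stalk x) (h x).2
    haveI : UniversallyInjective f := by
      refine ((tfae_universallyInjective f).out 2 0 rfl rfl).1 ⟨fun a b e => (h b).1 a e, fun x => ?_⟩
      algebraize [(f.residueFieldMap x).hom]
      refine isPurelyInseparable_iff.2 fun z => ?_
      suffices hz : z ∈ (algebraMap (Y.residueField (f x)) (X.residueField x)).range from
        ⟨by obtain ⟨r, rfl⟩ := hz; exact isIntegral_algebraMap, fun _ => hz⟩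
      obtain ⟨s, rfl⟩ := IsLocalRing.residue_surjective z
      obtain ⟨r, hr⟩ := (h x).2.2 (Ideal.Quotient.mk _ s)
      obtain ⟨r, rfl⟩ := Ideal.Quotient.mk_surjective r
      rw [Ideal.quotientMap_mk] at hr
      refine ⟨IsLocalRing.residue _ r, ?_⟩
      exact (Ideal.Quotient.eq.2 (IsLocalRing.map_maximalIdeal_le (f.stalkMap x).hom (Ideal.Quotient.eq.1 hr)))
    haveI : IsOpenImmersion (pullback.diagonal f) := inferInstance
    haveI : Surjective (pullback.diagonal f) := (UniversallyInjective.iff_diagonal f).1 inferInstance
    haveI : IsIso (pullback.diagonal f) := (isIso_iff_isOpenImmersion_and_surjective _).2 ⟨inferInstance, inferInstance⟩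
    exact (pullback.isIso_diagonal_iff f).mp inferInstance

end Groth.Agent.EtAlgEasy.UnramStalk
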