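import Groth.Agent.EtAlgEasy.PrinPartSym
import Groth.Agent.EtAlgEasy.PrinPartStalkMod
import Groth.Agent.HilbObsLib.Ideal
import Groth.Agent.ConormalLib.Chart
import Mathlib

/-!
The canonical maps of the graded pieces of a closed immersion under base change: surjective, bijective when flat.
-/

set_option autoImplicit false
set_option backward.isDefEq.respectTransparency false

universe u

open CategoryTheory CategoryTheory.Limits AlgebraicGeometry TopologicalSpace Opposite
open scoped TensorProduct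
open Groth.Agent.PullbackMod Groth.Agent.ParaFLib

namespace Groth.Agent.EtAlgEasy.GrMapStalk

/-- The ideal module inside the structure sheaf, on stalks, as functions. -/
theorem exists_toFn {X : Scheme.{u}} (K : X.IdealSheafData) (x : X) :
    ∃ j : (ClSub.idealMod K).presheaf.stalk x →ₗ[X.presheaf.stalk x] X.presheaf.stalk x,
      Function.Injective j ∧ LinearMap.range j = IntMult.stalkIdeal K x ∧
      ∀ (U : X.Opens) (hx : x ∈ U) (m : Γ(ClSub.idealMod K, U)),
        j ((ClSub.idealMod K).presheaf.germ U x hx m) = X.presheaf.germ U x hx (OmegaSh.idealSect K U m) := by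
  let e : X.presheaf.stalk x ≃ₗ[X.presheaf.stalk x] (Coh.structureModule X).presheaf.stalk x :=
    LinearEquiv.ofBijective
      { toFun := fun r => r • oneG x
        map_add' := fun a b => add_smul a b _
        map_smul' := fun a r => mul_smul a r _ } (bijective_oneG x)
  let j := e.symm.toLinearMap ∘ₗ stalkLin (ClSub.idealModι K) x
  haveI : Mono (ClSub.idealModι K) := inferInstanceAs (Mono (kernel.ι _))
  refine ⟨j, e.symm.injective.comp ((mono_iff_stalk _).1 inferInstance x), ?_, fun U hx m => ?_⟩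
  · ext r
    rw [LinearMap.mem_range, ← HilbObsLib.mem_range_idealModι K x r]
    exact exists_congr fun n => e.symm_apply_eq
  · show e.symm (stalkLin (ClSub.idealModι K) x _) = _
    rw [stalkLin_germ, LinearEquiv.symm_apply_eq]
    show _ = X.presheaf.germ U x hx (OmegaSh.idealSect K U m) • oneG x
    have h1 : oneG x = (Coh.structureModule X).presheaf.germ U x hx (1 : Γ(X, U)) := by
      refine Eq.trans ?_ (congrArg _ (X.presheaf.map (homOfLE (le_top : U ≤ ⊤)).op).hom.map_one)
      exact (TopCat.Presheaf.germ_res_apply (Coh.structureModule X).presheaf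
        (homOfLE (le_top : U ≤ ⊤)) x hx (1 : Γ(X, ⊤))).symm
    rw [h1]
    refine Eq.trans ?_ (PresheafOfModules.germ_smul (R := X.presheaf) (Coh.structureModule X).val x U hx _ _)
    refine congrArg _ ?_
    exact (mul_one (OmegaSh.idealSect K U m : Γ(X, U))).symm

variable {Y X Y' X' : Scheme.{u}} (f : Y ⟶ X) [IsClosedImmersion f]
    (v : X' ⟶ X) (u : Y' ⟶ Y) (f' : Y' ⟶ X') (hsq : IsPullback u f' f v) (n : ℕ)

include hsq in
theorem comap_ker_pow : (f.ker ^ n).comap v = f'.ker ^ n := by
  haveI : IsClosedImmersion f' := MorphismProperty.of_isPullback (P := @IsClosedImmersion) hsq inferInstance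
  have hker : f'.ker = f.ker.comap v := by
    rw [← hsq.flip.isoPullback_hom_fst, Scheme.Hom.ker_comp_of_isIso, Scheme.IdealSheafData.ker_fst_of_isClosedImmersion]
  cases n with
  | zero =>
    have h1 : ∀ {Z : Scheme.{u}} (K : Z.IdealSheafData), K ^ 0 = ⊤ := fun K => by
      refine Scheme.IdealSheafData.ext (funext fun U => ?_)
      rw [Scheme.IdealSheafData.ideal_pow, Scheme.IdealSheafData.ideal_top]
      simp
    rw [h1, h1, Scheme.IdealSheafData.comap_top]
  | succ k => rw [PrinPartSym.comap_pow, hker]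

/-- A section of an ideal pulls back to a section of the extended ideal. -/
theorem exists_pull_sect {W Z : Scheme.{u}} (g : W ⟶ Z) (K : Z.IdealSheafData) (K' : W.IdealSheafData)
    (h : K.comap g ≤ K') (U : Z.Opens) (m : Γ(ClSub.idealMod K, U)) :
    ∃ s : Γ(ClSub.idealMod K', g ⁻¹ᵁ U), OmegaSh.idealSect K' (g ⁻¹ᵁ U) s = g.app U (OmegaSh.idealSect K U m) := by
  have H : K.subschemeι.ker ≤ (K'.subschemeι ≫ g).ker := by
    rw [Scheme.Hom.ker_comp, Scheme.IdealSheafData.ker_subschemeι, Scheme.IdealSheafData.ker_subschemeι,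
      Scheme.IdealSheafData.le_map_iff_comap_le]
    exact h
  let gZ := IsClosedImmersion.lift K.subschemeι (K'.subschemeι ≫ g) H
  have hgZ : gZ ≫ K.subschemeι = K'.subschemeι ≫ g := IsClosedImmersion.lift_fac _ _ H
  have h0 : K.subschemeι.app U (OmegaSh.idealSect K U m) = 0 :=
    congr(($(kernel.condition (ClSub.toSubscheme K))).app U m)
  have h1 : K'.subschemeι.app (g ⁻¹ᵁ U) (g.app U (OmegaSh.idealSect K U m)) = 0 := by
    show ((K'.subschemeι ≫ g).app U) _ = 0
    rw [Scheme.Hom.congr_app hgZ.symm U, Scheme.Hom.comp_app, CommRingCat.comp_apply, CommRingCat.comp_apply, h0,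
      map_zero, map_zero]
  exact ⟨OmegaSh.kerLift (ClSub.toSubscheme K') (g ⁻¹ᵁ U) (OmegaSh.strSect W _ (g.app U (OmegaSh.idealSect K U m)))
    ((OmegaSh.toSubscheme_app_strSect _ K' _).trans h1), OmegaSh.ι_kerLift _ _ _ _⟩

variable (φ : (Scheme.Modules.pullback u).obj (PrinPart.grMod f n) ⟶ PrinPart.grMod f' n)

theorem stalk_square {A B C D : Scheme.{u}} {p : A ⟶ B} {q : B ⟶ D} {r : A ⟶ C} {s : C ⟶ D} (w : p ≫ q = r ≫ s)
    (a : A) (h : q (p a) = s (r a)) (c : D.presheaf.stalk (s (r a))) :
    p.stalkMap a ((D.presheaf.stalkSpecializes (specializes_of_eq h) ≫ q.stalkMap (p a)) c) =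
      r.stalkMap a (s.stalkMap (r a) c) := by
  obtain ⟨U, hU, c, rfl⟩ := TopCat.Presheaf.exists_germ_eq D.presheaf c
  rw [CommRingCat.comp_apply, TopCat.Presheaf.germ_stalkSpecializes_apply, Scheme.Hom.germ_stalkMap_apply,
    Scheme.Hom.germ_stalkMap_apply, Scheme.Hom.germ_stalkMap_apply, Scheme.Hom.germ_stalkMap_apply]
  have key : ∀ (g g' : A ⟶ D) (_ : g = g') (hg : a ∈ g ⁻¹ᵁ U) (hg' : a ∈ g' ⁻¹ᵁ U),
      A.presheaf.germ (g ⁻¹ᵁ U) a hg (g.app U c) = A.presheaf.germ (g' ⁻¹ᵁ U) a hg' (g'.app U c) := by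
    intro g g' e hg hg'; subst e; rfl
  exact key (p ≫ q) (r ≫ s) w _ _

/-- The comparison of the stalks of the ideals. -/
theorem exists_θ (K : X.IdealSheafData) (K' : X'.IdealSheafData) (hK : K.comap v = K') (x' : X') :
    letI : Algebra (X.presheaf.stalk (v x')) (X'.presheaf.stalk x') := (v.stalkMap x').hom.toAlgebra
    letI := Module.compHom ((ClSub.idealMod K').presheaf.stalk x') (v.stalkMap x').hom
    haveI : IsScalarTower (X.presheaf.stalk (v x')) (X'.presheaf.stalk x') ((ClSub.idealMod K').presheaf.stalk x') :=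
      .of_algebraMap_smul fun _ _ => rfl
    ∃ θ : (ClSub.idealMod K).presheaf.stalk (v x') →ₗ[X.presheaf.stalk (v x')] (ClSub.idealMod K').presheaf.stalk x',
      (∀ w, w ∈ Submodule.span (X'.presheaf.stalk x') (Set.range θ)) ∧
      ((v.stalkMap x').hom.Flat → IsBaseChange (X'.presheaf.stalk x') θ) ∧
      ∀ (U : X.Opens) (hx : v x' ∈ U) (m : Γ(ClSub.idealMod K, U)) (s : Γ(ClSub.idealMod K', v ⁻¹ᵁ U)),
        OmegaSh.idealSect K' (v ⁻¹ᵁ U) s = v.app U (OmegaSh.idealSect K U m) →
        θ ((ClSub.idealMod K).presheaf.germ U (v x') hx m) = (ClSub.idealMod K').presheaf.germ (v ⁻¹ᵁ U) x' hx s := by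
  letI : Algebra (X.presheaf.stalk (v x')) (X'.presheaf.stalk x') := (v.stalkMap x').hom.toAlgebra
  letI := Module.compHom ((ClSub.idealMod K').presheaf.stalk x') (v.stalkMap x').hom
  haveI : IsScalarTower (X.presheaf.stalk (v x')) (X'.presheaf.stalk x') ((ClSub.idealMod K').presheaf.stalk x') :=
    .of_algebraMap_smul fun _ _ => rfl
  obtain ⟨j, hj, hjr, hjg⟩ := exists_toFn K (v x')
  obtain ⟨j', hj', hjr', hjg'⟩ := exists_toFn K' x'
  have hmap : IntMult.stalkIdeal K' x' = (IntMult.stalkIdeal K (v x')).map (v.stalkMap x').hom := by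
    rw [← hK, IdealStalkLib.stalkIdeal_comap]
  have hmem : ∀ a, v.stalkMap x' (j a) ∈ LinearMap.range j' := fun a => by
    rw [hjr', hmap]
    exact Ideal.mem_map_of_mem _ (hjr ▸ LinearMap.mem_range_self j a)
  choose θ hθ using hmem
  let θl : (ClSub.idealMod K).presheaf.stalk (v x') →ₗ[X.presheaf.stalk (v x')] (ClSub.idealMod K').presheaf.stalk x' :=
    { toFun := θ
      map_add' := fun a b => hj' (by rw [map_add, hθ, hθ, hθ, map_add, map_add])
      map_smul' := fun r a => hj' (by
        rw [hθ, map_smul, smul_eq_mul, map_mul]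
        show _ = j' (v.stalkMap x' r • θ a)
        rw [map_smul, hθ, smul_eq_mul]) }
  have hspan : ∀ w, w ∈ Submodule.span (X'.presheaf.stalk x') (Set.range θl) := by
    intro w
    have h1 : j' w ∈ Submodule.map j' (Submodule.span (X'.presheaf.stalk x') (Set.range θl)) := by
      have h2 : j' w ∈ (IntMult.stalkIdeal K (v x')).map (v.stalkMap x').hom := by
        rw [← hmap, ← hjr']; exact LinearMap.mem_range_self j' w
      refine (show (IntMult.stalkIdeal K (v x')).map (v.stalkMap x').hom ≤ _ from ?_) h2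
      rw [Ideal.map, Ideal.span, Submodule.span_le]
      rintro _ ⟨r, hr, rfl⟩
      rw [← hjr] at hr
      obtain ⟨a, rfl⟩ := hr
      exact ⟨θl a, Submodule.subset_span ⟨a, rfl⟩, hθ a⟩
    obtain ⟨w', hw', he⟩ := h1
    exact hj' he ▸ hw'
  refine ⟨θl, hspan, fun hflat => ?_, fun U hx m s hs => hj' ?_⟩
  · haveI : Module.Flat (X.presheaf.stalk (v x')) (X'.presheaf.stalk x') := hflat
    let L := LinearMap.liftBaseChange (X'.presheaf.stalk x') θl
    have hbij : Function.Bijective L := by
      constructor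
      · have hinj := Module.Flat.lTensor_preserves_injective_linearMap (M := X'.presheaf.stalk x') j hj
        have key : ∀ t, j' (L t) =
            TensorProduct.rid (X.presheaf.stalk (v x')) (X'.presheaf.stalk x') (j.lTensor (X'.presheaf.stalk x') t) := by
          intro t
          induction t using TensorProduct.induction_on with
          | zero => rw [map_zero, map_zero, map_zero, map_zero]
          | tmul s a =>
            rw [LinearMap.lTensor_tmul, TensorProduct.rid_tmul, LinearMap.liftBaseChange_tmul, map_smul]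
            show s * j' (θ a) = v.stalkMap x' (j a) * s
            rw [hθ, mul_comm]
          | add p q hp hq => rw [map_add, map_add, map_add, map_add, hp, hq]
        intro p q h
        exact hinj ((TensorProduct.rid _ _).injective ((key p).symm.trans ((congrArg j' h).trans (key q))))
      · intro w
        have hw := hspan w
        induction hw using Submodule.span_induction with
        | mem y hy =>
          obtain ⟨a, rfl⟩ := hy
          exact ⟨1 ⊗ₜ a, by rw [LinearMap.liftBaseChange_tmul, one_smul]⟩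
        | zero => exact ⟨0, map_zero _⟩
        | add p q _ _ hp hq =>
          obtain ⟨p', rfl⟩ := hp; obtain ⟨q', rfl⟩ := hq; exact ⟨p' + q', map_add _ _ _⟩
        | smul r p _ hp => obtain ⟨p', rfl⟩ := hp; exact ⟨r • p', map_smul _ _ _⟩
    exact IsBaseChange.of_equiv (LinearEquiv.ofBijective L hbij) fun a => by
      show L (1 ⊗ₜ a) = θl a
      rw [LinearMap.liftBaseChange_tmul, one_smul]
  · show j' (θ _) = _
    rw [hθ, hjg, hjg', hs, Scheme.Hom.germ_stalkMap_apply]

include hsq in
theorem stalk_grMap (hφ : PrinPart.IsGrMap f' f v u n φ) (y' : Y') :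
    Function.Surjective (stalkLin φ y') ∧ ((v.stalkMap (f' y')).hom.Flat → Function.Bijective (stalkLin φ y')) := by
  have hK := comap_ker_pow f v u f' hsq n
  let x' := f' y'
  let y := u y'
  let x := v x'
  have hxy : f y = x := by
    show f (u y') = v (f' y')
    rw [← Scheme.Hom.comp_apply, hsq.w, Scheme.Hom.comp_apply]
  let M := ClSub.idealMod (f.ker ^ n)
  let M' := ClSub.idealMod (f'.ker ^ n)
  let G := PrinPart.grMod f n
  letI : Algebra (X.presheaf.stalk x) (Y.presheaf.stalk y) :=
    (X.presheaf.stalkSpecializes (specializes_of_eq hxy) ≫ f.stalkMap y).hom.toAlgebra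
  letI : Module (X.presheaf.stalk x) (((Scheme.Modules.pullback f).obj M).presheaf.stalk y) :=
    Module.compHom (((Scheme.Modules.pullback f).obj M).presheaf.stalk y) (X.presheaf.stalkSpecializes (specializes_of_eq hxy) ≫ f.stalkMap y).hom
  haveI : IsScalarTower (X.presheaf.stalk x) (Y.presheaf.stalk y) (((Scheme.Modules.pullback f).obj M).presheaf.stalk y) :=
    .of_algebraMap_smul fun _ _ => rfl
  obtain ⟨lf, hbf, hlf⟩ := PrinPartStalkMod.isBaseChange_of_eq f M y hxy
  letI : Algebra (Y.presheaf.stalk y) (Y'.presheaf.stalk y') := (u.stalkMap y').hom.toAlgebra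
  letI := Module.compHom (((Scheme.Modules.pullback u).obj G).presheaf.stalk y') (u.stalkMap y').hom
  haveI : IsScalarTower (Y.presheaf.stalk y) (Y'.presheaf.stalk y') (((Scheme.Modules.pullback u).obj G).presheaf.stalk y') :=
    .of_algebraMap_smul fun _ _ => rfl
  let lu : ((Scheme.Modules.pullback f).obj M).presheaf.stalk y →ₗ[Y.presheaf.stalk y] ((Scheme.Modules.pullback u).obj G).presheaf.stalk y' := pullStalkL u G y'
  have hbu : IsBaseChange (Y'.presheaf.stalk y') lu := isBaseChange_pullStalkL' u G y'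
  letI : Algebra (X'.presheaf.stalk x') (Y'.presheaf.stalk y') := (f'.stalkMap y').hom.toAlgebra
  letI : Module (X'.presheaf.stalk x') (((Scheme.Modules.pullback f').obj M').presheaf.stalk y') :=
    Module.compHom (((Scheme.Modules.pullback f').obj M').presheaf.stalk y') (f'.stalkMap y').hom
  haveI : IsScalarTower (X'.presheaf.stalk x') (Y'.presheaf.stalk y') (((Scheme.Modules.pullback f').obj M').presheaf.stalk y') :=
    .of_algebraMap_smul fun _ _ => rfl
  let lf' := pullStalkL f' M' y'
  have hbf' : IsBaseChange (Y'.presheaf.stalk y') lf' := isBaseChange_pullStalkL' f' M' y'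
  letI : Algebra (X.presheaf.stalk x) (X'.presheaf.stalk x') := (v.stalkMap x').hom.toAlgebra
  letI := Module.compHom (M'.presheaf.stalk x') (v.stalkMap x').hom
  haveI : IsScalarTower (X.presheaf.stalk x) (X'.presheaf.stalk x') (M'.presheaf.stalk x') :=
    .of_algebraMap_smul fun _ _ => rfl
  obtain ⟨θ, hspan, hflat, hθ⟩ := exists_θ v (f.ker ^ n) (f'.ker ^ n) hK x'
  have key : ∀ a, stalkLin φ y' (lu (lf a)) = lf' (θ a) := by
    intro a
    obtain ⟨U, hU, m, rfl⟩ := TopCat.Presheaf.exists_germ_eq M.presheaf a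
    obtain ⟨s, hs⟩ := exists_pull_sect v (f.ker ^ n) (f'.ker ^ n) hK.le U m
    rw [hθ U hU m s hs, hlf U hU m]
    have h1 : y' ∈ u ⁻¹ᵁ (f ⁻¹ᵁ U) := show f y ∈ U from hxy ▸ hU
    have h2 : y' ∈ f' ⁻¹ᵁ (v ⁻¹ᵁ U) := hU
    show stalkLin φ y' (pullStalk u G y' (G.presheaf.germ (f ⁻¹ᵁ U) y h1 _)) =
      pullStalk f' M' y' (M'.presheaf.germ (v ⁻¹ᵁ U) x' h2 s)
    rw [pullStalk_germ, pullStalk_germ, stalkLin_germ]
    have hle : y' ∈ u ⁻¹ᵁ (f ⁻¹ᵁ U) ⊓ f' ⁻¹ᵁ (v ⁻¹ᵁ U) := ⟨h1, h2⟩
    rw [← (PrinPart.grMod f' n).presheaf.germ_res_apply (homOfLE (inf_le_left : u ⁻¹ᵁ (f ⁻¹ᵁ U) ⊓ f' ⁻¹ᵁ (v ⁻¹ᵁ U) ≤ _)) y' hle]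
    erw [hφ.2 U m s hs _ inf_le_left inf_le_right]
    exact (PrinPart.grMod f' n).presheaf.germ_res_apply
      (homOfLE (inf_le_right : u ⁻¹ᵁ (f ⁻¹ᵁ U) ⊓ f' ⁻¹ᵁ (v ⁻¹ᵁ U) ≤ f' ⁻¹ᵁ (v ⁻¹ᵁ U))) y' hle _
  constructor
  · intro w
    induction w using hbf'.inductionOn with
    | zero => exact ⟨0, map_zero _⟩
    | tmul b =>
      have hb := hspan b
      induction hb using Submodule.span_induction with
      | mem c hc => obtain ⟨a, rfl⟩ := hc; exact ⟨lu (lf a), key a⟩
      | zero => exact ⟨0, by rw [map_zero, map_zero]⟩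
      | add p q _ _ hp hq =>
        obtain ⟨p', hp'⟩ := hp; obtain ⟨q', hq'⟩ := hq
        exact ⟨p' + q', by rw [map_add, map_add, hp', hq']⟩
      | smul r p _ hp =>
        obtain ⟨p', hp'⟩ := hp
        exact ⟨f'.stalkMap y' r • p', by rw [map_smul, hp', map_smul]; rfl⟩
    | smul r w hw => obtain ⟨w', rfl⟩ := hw; exact ⟨r • w', map_smul _ _ _⟩
    | add p q hp hq => obtain ⟨p', rfl⟩ := hp; obtain ⟨q', rfl⟩ := hq; exact ⟨p' + q', map_add _ _ _⟩
  · intro hv
    have hbθ := hflat hv
    let S := ((Scheme.Modules.pullback u).obj G).presheaf.stalk y'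
    letI : Module (X'.presheaf.stalk x') S := Module.compHom S (f'.stalkMap y').hom
    letI : Module (X.presheaf.stalk x) S := Module.compHom S ((f'.stalkMap y').hom.comp (v.stalkMap x').hom)
    haveI : IsScalarTower (X.presheaf.stalk x) (X'.presheaf.stalk x') S := .of_algebraMap_smul fun _ _ => rfl
    haveI : IsScalarTower (X'.presheaf.stalk x') (Y'.presheaf.stalk y') S := .of_algebraMap_smul fun _ _ => rfl
    let g0 : M.presheaf.stalk x →ₗ[X.presheaf.stalk x] S :=
      { toFun := fun a => lu (lf a)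
        map_add' := fun a b => by rw [map_add, map_add]
        map_smul' := fun r a => by
          rw [map_smul]
          refine (pullStalk_smul u G y' _ (lf a)).trans ?_
          exact congrArg (· • lu (lf a)) (stalk_square hsq.w y' hxy r) }
    let ψ := hbf'.lift (hbθ.lift g0)
    have hψ : ∀ w, ψ (stalkLin φ y' w) = w := by
      intro w
      induction w using hbu.inductionOn with
      | zero => rw [map_zero, map_zero]
      | tmul b =>
        suffices h : ∀ r : Y'.presheaf.stalk y', ψ (stalkLin φ y' (r • lu b)) = r • lu b by simpa using h 1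
        induction b using hbf.inductionOn with
        | zero => intro r; rw [map_zero, smul_zero, map_zero, map_zero]
        | tmul a =>
          intro r
          rw [map_smul, map_smul, key, hbf'.lift_eq, hbθ.lift_eq]
          rfl
        | smul c b hb =>
          intro r
          rw [show lu (c • b) = u.stalkMap y' c • lu b from pullStalk_smul u G y' c b, smul_smul]
          exact hb _
        | add p q hp hq => intro r; rw [map_add, smul_add, map_add, map_add, hp, hq]
      | smul r w hw => rw [map_smul, map_smul, hw]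
      | add p q hp hq => rw [map_add, map_add, hp, hq]
    refine ⟨Function.LeftInverse.injective hψ, ?_⟩
    intro w
    induction w using hbf'.inductionOn with
    | zero => exact ⟨0, map_zero _⟩
    | tmul b =>
      have hb := hspan b
      induction hb using Submodule.span_induction with
      | mem c hc => obtain ⟨a, rfl⟩ := hc; exact ⟨lu (lf a), key a⟩
      | zero => exact ⟨0, by rw [map_zero, map_zero]⟩
      | add p q _ _ hp hq =>
        obtain ⟨p', hp'⟩ := hp; obtain ⟨q', hq'⟩ := hq
        exact ⟨p' + q', by rw [map_add, map_add, hp', hq']⟩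
      | smul r p _ hp =>
        obtain ⟨p', hp'⟩ := hp
        exact ⟨f'.stalkMap y' r • p', by rw [map_smul, hp', map_smul]; rfl⟩
    | smul r w hw => obtain ⟨w', rfl⟩ := hw; exact ⟨r • w', map_smul _ _ _⟩
    | add p q hp hq => obtain ⟨p', rfl⟩ := hp; obtain ⟨q', rfl⟩ := hq; exact ⟨p' + q', map_add _ _ _⟩

include hsq in
theorem epi_grMap (hφ : PrinPart.IsGrMap f' f v u n φ) : Epi φ :=
  (epi_iff_stalk φ).2 fun y' => (stalk_grMap f v u f' hsq n φ hφ y').1

include hsq in
theorem isIso_grMap [Flat v] (hφ : PrinPart.IsGrMap f' f v u n φ) : IsIso φ := by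
  have hb : ∀ y', Function.Bijective (stalkLin φ y') := fun y' =>
    (stalk_grMap f v u f' hsq n φ hφ y').2 (Flat.stalkMap v _)
  haveI : ∀ U : (TopologicalSpace.Opens Y')ᵒᵖ, IsIso (φ.mapPresheaf.app U) := by
    intro U
    haveI : ∀ x : Y', IsIso ((TopCat.Presheaf.stalkFunctor AddCommGrpCat.{u} x).map φ.mapPresheaf) := fun x =>
      (ConcreteCategory.isIso_iff_bijective _).mpr (hb x)
    exact TopCat.Presheaf.app_isIso_of_stalkFunctor_map_iso
      (F := ⟨_, ((Scheme.Modules.pullback u).obj (PrinPart.grMod f n)).isSheaf⟩)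
      (G := ⟨_, (PrinPart.grMod f' n).isSheaf⟩) ⟨φ.mapPresheaf⟩ U.unop
  exact Scheme.Modules.Hom.isIso_iff_isIso_app.mpr fun U => this (Opposite.op U)

end Groth.Agent.EtAlgEasy.GrMapStalk
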