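import Groth.Agent.RelDivLib.QuasiFlat
import Groth.Agent.RegKindLib.Basic
import Mathlib

/-!
Quasi-regular immersions into locally Noetherian schemes are regular.
-/

set_option autoImplicit false
set_option backward.isDefEq.respectTransparency false

universe u

open CategoryTheory AlgebraicGeometry RingTheory.Sequence IsLocalRing

namespace Groth.Agent.EtAlgEasy.QuasiRegNoeth

theorem regular_of_quasi {X Y : Scheme.{u}} [IsLocallyNoetherian X] (j : Y ⟶ X)
    (h : RegImm.IsRegularImmersion RegImm.Kind.quasi j) : RegImm.IsRegularImmersion RegImm.Kind.regular j := by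
  refine ⟨h.1, fun z => ?_⟩
  obtain ⟨⟨U, hU⟩, hzU, hc, rs, hrs, hK⟩ := h.2 z
  haveI := h.1
  haveI : IsNoetherianRing Γ(X, U) := IsLocallyNoetherian.component_noetherian ⟨U, hU⟩
  letI : Algebra Γ(X, U) (X.presheaf.stalk (j z)) := TopCat.Presheaf.algebra_section_stalk X.presheaf ⟨j z, hzU⟩
  haveI := hU.isLocalization_stalk ⟨j z, hzU⟩
  haveI : IsNoetherianRing (X.presheaf.stalk (j z)) :=
    IsLocalization.isNoetherianRing (hU.primeIdealOf ⟨j z, hzU⟩).asIdeal.primeCompl _ inferInstance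
  let g : Fin rs.length → X.presheaf.stalk (j z) := fun k => algebraMap Γ(X, U) _ (rs.get k)
  have hg : CAlgX.IsQuasiRegular g :=
    RelDivLib.isQuasiRegular_map (hU.primeIdealOf ⟨j z, hzU⟩).asIdeal.primeCompl hrs
  have hspan : RingHom.ker (j.stalkMap z).hom = Ideal.span (Set.range g) := by
    rw [RegIdealLib.ker_stalkMap j hU hc z hzU]
    show (RingHom.ker (j.app U).hom).map _ = _
    rw [hK, show Ideal.ofList rs = Ideal.span (Set.range rs.get) from by rw [← RegIdealLib.ofList_ofFn, List.ofFn_get],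
      Ideal.map_span, ← Set.range_comp]
    rfl
  have hle : Ideal.span (Set.range g) ≤ maximalIdeal (X.presheaf.stalk (j z)) := by
    rw [← hspan]
    exact le_maximalIdeal (RingHom.ker_ne_top _)
  have hwr := QRegLib.isWeaklyRegular_of_isQuasiRegular g
    (by rw [IsLocalRing.jacobson_eq_maximalIdeal ⊥ bot_ne_top]; exact hle) hg
  have hreg : CInt.IsRegularIdeal (RingHom.ker (j.stalkMap z).hom) := by
    refine ⟨List.ofFn g, ⟨hwr, ?_⟩, ?_⟩
    · intro heq
      rw [Submodule.ext_iff] at heq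
      have h1 := (heq 1).1 trivial
      rw [Ideal.smul_eq_mul, Ideal.mul_top, RegIdealLib.ofList_ofFn] at h1
      exact (maximalIdeal.isMaximal _).ne_top ((Ideal.eq_top_iff_one _).2 (hle h1))
    · rw [RegIdealLib.ofList_ofFn, hspan]
  obtain ⟨V, -, hzV, hcV, rs', hrs', hK'⟩ := RegIdealLib.exists_regular_nhd j hU hc z hzU hreg
  exact ⟨V, hzV, hcV, rs', hrs', hK'⟩

theorem quasi_of_regular {X Y : Scheme.{u}} (j : Y ⟶ X)
    (h : RegImm.IsRegularImmersion RegImm.Kind.regular j) : RegImm.IsRegularImmersion RegImm.Kind.quasi j := by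
  refine ⟨h.1, fun z => ?_⟩
  obtain ⟨U, hU, hc, rs, hrs, hker⟩ := h.2 z
  exact ⟨U, hU, hc, rs, RelDivLib.isQuasiRegular_of_isH1Regular
    (RegKindLib.isH1Regular_of_isKoszulRegularSeq (RegKindLib.isKoszulRegularSeq_of_isRegular hrs)), hker⟩

theorem regularIdeal_of_quasi {X : Scheme.{u}} [IsLocallyNoetherian X] (I : X.IdealSheafData)
    (h : RegImm.IsRegularIdeal RegImm.Kind.quasi I) : RegImm.IsRegularIdeal RegImm.Kind.regular I := by
  have hi : RegImm.IsRegularImmersion RegImm.Kind.quasi I.subschemeι := by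
    refine ⟨inferInstance, fun z => ?_⟩
    obtain ⟨U, hU, rs, hrs, hI⟩ := h (I.subschemeι z) (by
      rw [← SetLike.mem_coe, ← Scheme.IdealSheafData.range_subschemeι]; exact ⟨z, rfl⟩)
    exact ⟨U, hU, IsZariskiLocalAtTarget.restrict (P := @IsClosedImmersion) inferInstance _, rs, hrs,
      by rw [I.ker_subschemeι_app U, hI]⟩
  intro x hx
  obtain ⟨z, rfl⟩ : x ∈ Set.range I.subschemeι := by rw [Scheme.IdealSheafData.range_subschemeι]; exact hx
  obtain ⟨U, hU, -, rs, hrs, hK⟩ := (regular_of_quasi I.subschemeι hi).2 z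
  exact ⟨U, hU, rs, hrs, by rw [← I.ker_subschemeι_app U, hK]⟩

end Groth.Agent.EtAlgEasy.QuasiRegNoeth
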