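import Mathlib

/-!
# Extensions of discrete valuation rings: `e f ≤ n`, purely inseparable case
-/

set_option autoImplicit false

open IsLocalRing

universe u

namespace EtAlgEasy

variable {A B : Type u} [CommRing A] [IsDomain A] [IsDiscreteValuationRing A] [CommRing B]
  [IsDomain B] [IsDiscreteValuationRing B] [Algebra A B] [IsLocalHom (algebraMap A B)]

/-- The image of a uniformizer is a unit times the `e`-th power of a uniformizer. -/
theorem exists_unit_ramificationIdx (hinj : Function.Injective (algebraMap A B)) {π : A}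
    (hπ : Irreducible π) {ϖ : B} (hϖ : Irreducible ϖ) :
    ∃ u : Bˣ, algebraMap A B π = u * ϖ ^ Ideal.ramificationIdx' (maximalIdeal A) (maximalIdeal B) := by
  obtain ⟨e, u, hu⟩ := IsDiscreteValuationRing.eq_unit_mul_pow_irreducible
    (fun h => hπ.ne_zero (hinj (h.trans (map_zero (algebraMap A B)).symm))) hϖ
  have he : Ideal.ramificationIdx' (maximalIdeal A) (maximalIdeal B) = e := by
    refine Ideal.ramificationIdx'_spec ?_ ?_ <;>
      rw [hπ.maximalIdeal_eq, hϖ.maximalIdeal_eq, Ideal.map_span, Set.image_singleton,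
        Ideal.span_singleton_pow, Ideal.span_singleton_le_span_singleton, hu, Units.dvd_mul_left]
    exact fun h => Nat.not_succ_le_self e ((pow_dvd_pow_iff hϖ.ne_zero hϖ.not_isUnit).1 h)
  exact ⟨u, by rw [he]; exact hu⟩

variable {K L : Type u} [Field K] [Field L] [Algebra A K] [IsFractionRing A K] [Algebra B L]
  [IsFractionRing B L] [Algebra K L] [Algebra A L] [IsScalarTower A K L] [IsScalarTower A B L]

theorem ramificationIdx_eq_prime_pow (hinj : Function.Injective (algebraMap A B)) {p : ℕ}
    (hp : p.Prime) [CharP K p] [IsPurelyInseparable K L] :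
    ∃ k : ℕ, Ideal.ramificationIdx' (maximalIdeal A) (maximalIdeal B) = p ^ k := by
  obtain ⟨π, hπ⟩ := IsDiscreteValuationRing.exists_irreducible A
  obtain ⟨ϖ, hϖ⟩ := IsDiscreteValuationRing.exists_irreducible B
  obtain ⟨u, hu⟩ := exists_unit_ramificationIdx hinj hπ hϖ
  set e := Ideal.ramificationIdx' (maximalIdeal A) (maximalIdeal B)
  haveI := Fact.mk hp
  haveI : ExpChar K p := ExpChar.prime hp
  obtain ⟨n, x, hx⟩ := IsPurelyInseparable.pow_mem K p (algebraMap B L ϖ)
  obtain ⟨a, b, hb, rfl⟩ := IsFractionRing.div_surjective A x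
  have hb0 : b ≠ 0 := nonZeroDivisors.ne_zero hb
  have hbK : algebraMap A K b ≠ 0 := fun h =>
    hb0 (IsFractionRing.injective A K (h.trans (map_zero (algebraMap A K)).symm))
  rw [map_div₀, div_eq_iff (by simpa using hbK), ← IsScalarTower.algebraMap_apply A K L,
    ← IsScalarTower.algebraMap_apply A K L, IsScalarTower.algebraMap_apply A B L a,
    IsScalarTower.algebraMap_apply A B L b, ← map_pow, ← map_mul] at hx
  have hB : algebraMap A B a = ϖ ^ p ^ n * algebraMap A B b := IsFractionRing.injective B L hx
  have ha0 : a ≠ 0 := fun h => by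
    rw [h, map_zero] at hB
    exact mul_ne_zero (pow_ne_zero _ hϖ.ne_zero)
      (fun h' => hb0 (hinj (h'.trans (map_zero (algebraMap A B)).symm))) hB.symm
  obtain ⟨i, v, rfl⟩ := IsDiscreteValuationRing.eq_unit_mul_pow_irreducible ha0 hπ
  obtain ⟨j, w, rfl⟩ := IsDiscreteValuationRing.eq_unit_mul_pow_irreducible hb0 hπ
  simp only [map_mul, map_pow, hu] at hB
  let v' : Bˣ := Units.map (algebraMap A B).toMonoidHom v * u ^ i
  let w' : Bˣ := Units.map (algebraMap A B).toMonoidHom w * u ^ j
  have key : (v' : B) * ϖ ^ (e * i) = (w' : B) * ϖ ^ (p ^ n + e * j) := by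
    simp only [v', w', Units.val_mul, Units.val_pow_eq_pow_val, Units.coe_map,
      RingHom.toMonoidHom_eq_coe, MonoidHom.coe_coe]
    rw [pow_mul, pow_add, pow_mul]
    linear_combination hB
  have h1 : e * i = p ^ n + e * j := IsDiscreteValuationRing.unit_mul_pow_congr_pow hϖ hϖ v' w' _ _ key
  have hdvd : e ∣ p ^ n := (Nat.dvd_add_left (dvd_mul_right e j)).1 (h1 ▸ dvd_mul_right e i)
  obtain ⟨k, -, hk⟩ := (Nat.dvd_prime_pow hp).1 hdvd
  exact ⟨k, hk⟩

theorem finite_residueField_and_mul_le [FiniteDimensional K L]
    (hinj : Function.Injective (algebraMap A B)) :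
    Module.Finite (ResidueField A) (ResidueField B) ∧
      Ideal.ramificationIdx' (maximalIdeal A) (maximalIdeal B) *
          Module.finrank (ResidueField A) (ResidueField B) ≤ Module.finrank K L := by
  classical
  obtain ⟨π, hπ⟩ := IsDiscreteValuationRing.exists_irreducible A
  obtain ⟨ϖ, hϖ⟩ := IsDiscreteValuationRing.exists_irreducible B
  obtain ⟨u, hu⟩ := exists_unit_ramificationIdx hinj hπ hϖ
  set e := Ideal.ramificationIdx' (maximalIdeal A) (maximalIdeal B)
  have he : 0 < e := by
    rcases Nat.eq_zero_or_pos e with h | h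
    · rw [h, pow_zero, mul_one] at hu
      exact absurd (isUnit_of_map_unit (algebraMap A B) π (hu ▸ u.isUnit)) hπ.not_isUnit
    · exact h
  have key : ∀ {ι : Type u} [Fintype ι] (v : ι → ResidueField B),
      LinearIndependent (ResidueField A) v → e * Fintype.card ι ≤ Module.finrank K L := by
    intro ι _ v hv
    choose x hx using fun i => IsLocalRing.residue_surjective (v i)
    -- integral independence modulo `ϖ ^ e`
    have hmod : ∀ a : Fin e → ι → A,
        (ϖ ^ e ∣ ∑ j, (∑ i, algebraMap A B (a j i) * x i) * ϖ ^ (j : ℕ)) →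
          ∀ j i, a j i ∈ maximalIdeal A := by
      intro a ha
      suffices ∀ n : ℕ, ∀ hn : n < e, ∀ i, a ⟨n, hn⟩ i ∈ maximalIdeal A from
        fun j i => this j j.2 i
      intro n
      induction n using Nat.strong_induction_on with
      | _ n ih =>
        intro hn
        let c : Fin e → B := fun j => ∑ i, algebraMap A B (a j i) * x i
        have hrest : ϖ ^ (n + 1) ∣ c ⟨n, hn⟩ * ϖ ^ n := by
          have htot : ϖ ^ (n + 1) ∣ ∑ j, c j * ϖ ^ (j : ℕ) := (pow_dvd_pow ϖ hn).trans ha
          rw [← Finset.add_sum_erase _ _ (Finset.mem_univ (⟨n, hn⟩ : Fin e))] at htot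
          refine (dvd_add_left (Finset.dvd_sum fun j hj => ?_)).1 htot
          rcases lt_or_gt_of_ne (fun h : (j : ℕ) = n => Finset.ne_of_mem_erase hj (Fin.ext h)) with h | h
          · refine (pow_dvd_pow ϖ hn).trans (Dvd.dvd.mul_right (Finset.dvd_sum fun i _ => ?_) _)
            obtain ⟨y, hy⟩ := Ideal.mem_span_singleton'.1
              (hπ.maximalIdeal_eq ▸ ih j h j.2 i : a j i ∈ Ideal.span {π})
            rw [← hy, map_mul, hu]
            exact Dvd.dvd.mul_right (Dvd.dvd.mul_left (Dvd.dvd.mul_left dvd_rfl _) _) _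
          · exact (pow_dvd_pow ϖ h).trans (dvd_mul_left _ _)
        rw [pow_succ', mul_dvd_mul_iff_right (pow_ne_zero _ hϖ.ne_zero), ← Ideal.mem_span_singleton,
          ← hϖ.maximalIdeal_eq, ← IsLocalRing.residue_eq_zero_iff] at hrest
        simp only [c, map_sum, map_mul, hx] at hrest
        intro i
        rw [← IsLocalRing.residue_eq_zero_iff]
        refine (Fintype.linearIndependent_iff.1 hv) (fun i => residue A (a ⟨n, hn⟩ i)) ?_ i
        rw [← hrest]
        exact Finset.sum_congr rfl fun i _ => by rw [Algebra.smul_def]; rfl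
    let w : Fin e × ι → L := fun q => algebraMap B L (x q.2 * ϖ ^ (q.1 : ℕ))
    have hw : LinearIndependent K w := by
      rw [Fintype.linearIndependent_iff]
      intro g hg
      obtain ⟨⟨d, hd⟩, hd'⟩ := IsLocalization.exist_integer_multiples_of_finite (nonZeroDivisors A) g
      choose a ha using hd'
      have hsum : ∑ q, algebraMap A B (a q) * (x q.2 * ϖ ^ (q.1 : ℕ)) = 0 := by
        refine IsFractionRing.injective B L ?_
        rw [map_sum, map_zero]
        have := congrArg (fun z => algebraMap A L d * z) hg
        rw [mul_zero, Finset.mul_sum] at this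
        rw [← this]
        refine Finset.sum_congr rfl fun q _ => ?_
        rw [map_mul, ← IsScalarTower.algebraMap_apply A B L, IsScalarTower.algebraMap_apply A K L (a q),
          ha, Algebra.smul_def (g q), IsScalarTower.algebraMap_apply A K L d, Algebra.smul_def, map_mul]
        exact mul_assoc _ _ _
      have hdiv : ∀ N : ℕ, ∀ q, π ^ N ∣ a q := by
        intro N
        induction N with
        | zero => simp
        | succ N ih =>
          choose b hb using ih
          have h0 : ∑ q, algebraMap A B (b q) * (x q.2 * ϖ ^ (q.1 : ℕ)) = 0 := by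
            have hne : algebraMap A B (π ^ N) ≠ 0 := fun h =>
              pow_ne_zero N hπ.ne_zero (hinj (h.trans (map_zero (algebraMap A B)).symm))
            refine (mul_eq_zero.1 (?_ : algebraMap A B (π ^ N) * _ = 0)).resolve_left hne
            rw [Finset.mul_sum, ← hsum]
            exact Finset.sum_congr rfl fun q _ => by rw [hb q, map_mul, mul_assoc]
          have hm := hmod (fun j i => b (j, i)) (by
            convert dvd_zero (ϖ ^ e) using 1
            rw [← h0, Fintype.sum_prod_type]
            refine Finset.sum_congr rfl fun j _ => ?_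
            rw [Finset.sum_mul]
            exact Finset.sum_congr rfl fun i _ => mul_assoc _ _ _)
          intro q
          obtain ⟨y, hy⟩ := Ideal.mem_span_singleton'.1 (hπ.maximalIdeal_eq ▸ hm q.1 q.2 : b q ∈ Ideal.span {π})
          exact ⟨y, by rw [hb q, ← hy, pow_succ]; ring⟩
      intro q
      have haq : a q = 0 := by
        by_contra h
        obtain ⟨m, v, hv⟩ := IsDiscreteValuationRing.eq_unit_mul_pow_irreducible h hπ
        have := hdiv (m + 1) q
        rw [hv, Units.dvd_mul_left] at this
        exact Nat.not_succ_le_self m ((pow_dvd_pow_iff hπ.ne_zero hπ.not_isUnit).1 this)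
      have := ha q
      rw [haq, map_zero, Algebra.smul_def] at this
      exact (mul_eq_zero.1 this.symm).resolve_left fun h => nonZeroDivisors.ne_zero hd
        (IsFractionRing.injective A K (h.trans (map_zero (algebraMap A K)).symm))
    simpa [Fintype.card_prod, Fintype.card_fin] using hw.fintype_card_le_finrank
  have hr : Module.rank (ResidueField A) (ResidueField B) ≤ Module.finrank K L :=
    rank_le fun s hs => le_trans (Nat.le_mul_of_pos_left _ he)
      (by simpa using key (fun i : s => (i : ResidueField B)) hs)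
  haveI hfin : Module.Finite (ResidueField A) (ResidueField B) :=
    Module.rank_lt_aleph0_iff.1 (lt_of_le_of_lt hr Cardinal.natCast_lt_aleph0)
  refine ⟨hfin, ?_⟩
  let bs := Module.Free.chooseBasis (ResidueField A) (ResidueField B)
  rw [Module.finrank_eq_card_chooseBasisIndex]
  exact key bs bs.linearIndependent

end EtAlgEasy
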