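import Groth.Agent.OmegaUnivLib.Aff
import Groth.Agent.OmegaUnivLib.HomAff
import Mathlib

/-!
Derivations into the sheaf of a module on an affine scheme.
-/

set_option autoImplicit false
set_option backward.isDefEq.respectTransparency false

universe u

open CategoryTheory CategoryTheory.Limits AlgebraicGeometry TopologicalSpace Opposite
open Groth.Agent.OmegaUnivLib

namespace Groth.Agent.EtAlgEasy.DerTilde

theorem app_pow {X Y : Scheme.{u}} {f : X ⟶ Y} {F : X.Modules} (D : OmegaSh.Der f F) (U : X.Opens)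
    (a : Γ(X, U)) : ∀ n, D.app U (a ^ n) = (n • a ^ (n - 1) : Γ(X, U)) • D.app U a
  | 0 => by rw [pow_zero, app_one, zero_smul, zero_smul]
  | n + 1 => by
    rw [pow_succ, app_mul, app_pow D U a n, ← mul_smul, ← add_smul]
    congr 1
    cases n with
    | zero => simp
    | succ k => simp only [Nat.add_sub_cancel, nsmul_eq_mul]; push_cast; ring

/-- Derivations on an affine scheme are determined by global functions. -/
theorem der_ext_top {X Y : Scheme.{u}} [IsAffine X] {f : X ⟶ Y} {F : X.Modules} (D D' : OmegaSh.Der f F)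
    (h : ∀ s, D.app ⊤ s = D'.app ⊤ s) : D = D' := by
  have hbasic : ∀ (a : Γ(X, ⊤)) (x : Γ(X, X.basicOpen a)), D.app _ x = D'.app _ x := by
    intro a x
    haveI : IsLocalization.Away a Γ(X, X.basicOpen a) := (isAffineOpen_top X).isLocalization_basicOpen a
    obtain ⟨n, b, hb⟩ := IsLocalization.Away.surj a x
    let ρ := algebraMap Γ(X, ⊤) Γ(X, X.basicOpen a)
    have hres : ∀ t, D.app _ (ρ t) = D'.app _ (ρ t) := fun t => by
      show D.app _ (X.presheaf.map (homOfLE (X.basicOpen_le a)).op t) = D'.app _ (X.presheaf.map (homOfLE (X.basicOpen_le a)).op t)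
      rw [app_res, app_res, h]
    have hu : IsUnit (ρ a ^ n) := (IsLocalization.Away.algebraMap_isUnit a).pow n
    have e := congrArg (D.app _) hb
    have e' := congrArg (D'.app _) hb
    rw [app_mul, app_pow D] at e
    rw [app_mul, app_pow D', ← hres b, ← hres a] at e'
    exact (hu.smul_left_cancel.1 (add_left_cancel (e.trans e'.symm)))
  refine der_ext fun U s => ?_
  let G : TopCat.Sheaf Ab.{u} X.carrier := ⟨F.presheaf, F.isSheaf⟩
  refine G.eq_of_locally_eq' (fun i : {a : Γ(X, ⊤) // X.basicOpen a ≤ U} => X.basicOpen i.1) U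
    (fun i => homOfLE i.2) (fun x hx => ?_) _ _ fun i => ?_
  · obtain ⟨_, ⟨a, rfl⟩, hxa, haU⟩ := Opens.isBasis_iff_nbhd.mp (isBasis_basicOpen X) hx
    exact Opens.mem_iSup.mpr ⟨⟨a, haU⟩, hxa⟩
  show F.presheaf.map (homOfLE i.2).op (D.app U s) = F.presheaf.map (homOfLE i.2).op (D'.app U s)
  rw [← app_res, ← app_res]
  exact hbasic _ _

variable (A B : Type u) [CommRing A] [CommRing B] [Algebra A B]
    (L : Type u) [AddCommGroup L] [Module B L] [Module A L] [IsScalarTower A B L]

local notation "base" => Spec.map (CommRingCat.ofHom (algebraMap A B))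
local notation "N" => tilde (R := CommRingCat.of B) (ModuleCat.of B L)

theorem isoTop_smul (b : B) (m : L) :
    ((tilde.isoTop (R := CommRingCat.of B) (ModuleCat.of B L)).hom (b • m) : Γ(N, ⊤)) =
      @HSMul.hSMul Γ(Spec (CommRingCat.of B), ⊤) Γ(N, ⊤) Γ(N, ⊤) _ ((Scheme.ΓSpecIso (CommRingCat.of B)).inv b)
        ((tilde.isoTop (R := CommRingCat.of B) (ModuleCat.of B L)).hom m) := by
  refine ((tilde.isoTop (R := CommRingCat.of B) (ModuleCat.of B L)).hom.hom.map_smul b m).trans ?_
  exact congrArg (fun z => @HSMul.hSMul Γ(Spec (CommRingCat.of B), ⊤) Γ(N, ⊤) Γ(N, ⊤) _ z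
    ((tilde.isoTop (R := CommRingCat.of B) (ModuleCat.of B L)).hom m))
    (congr($((Spec (CommRingCat.of B)).presheaf.map_id _) _))

theorem algebraMap_eq (a : A) :
    (Scheme.ΓSpecIso (CommRingCat.of B)).inv (algebraMap A B a) =
      (base).app ⊤ ((Scheme.ΓSpecIso (CommRingCat.of A)).inv a) :=
  congr($(Scheme.ΓSpecIso_inv_naturality (CommRingCat.ofHom (algebraMap A B))) a)

theorem main :
    (∀ D : OmegaSh.Der base N,
      ∃ δ : Derivation A B L, ∀ t : B, D.app ⊤ ((Scheme.ΓSpecIso (CommRingCat.of B)).inv t) =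
        (tilde.isoTop (ModuleCat.of (CommRingCat.of B) L)).hom (δ t)) ∧
    ∀ δ : Derivation A B L,
      ∃! D : OmegaSh.Der base N,
        ∀ t : B, D.app ⊤ ((Scheme.ΓSpecIso (CommRingCat.of B)).inv t) =
          (tilde.isoTop (ModuleCat.of (CommRingCat.of B) L)).hom (δ t) := by
  let ι : L → Γ(N, ⊤) := fun m => (tilde.isoTop (R := CommRingCat.of B) (ModuleCat.of B L)).hom m
  have hι : Function.Bijective ι :=
    ConcreteCategory.bijective_of_isIso (tilde.isoTop (R := CommRingCat.of B) (ModuleCat.of B L)).hom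
  have hι0 : ∀ m m', ι (m + m') = ι m + ι m' := fun m m' => map_add _ m m'
  let γ := (Scheme.ΓSpecIso (CommRingCat.of B)).inv
  refine ⟨fun D => ?_, fun δ => ?_⟩
  · choose d hd using fun t : B => hι.2 (D.app ⊤ (γ t))
    have hadd : ∀ s t, d (s + t) = d s + d t := fun s t => hι.1 (by
      rw [hι0, hd, hd, hd, map_add, map_add])
    have hmul : ∀ s t, d (s * t) = s • d t + t • d s := fun s t => hι.1 (by
      rw [hι0, hd, map_mul, app_mul]
      refine congrArg₂ (· + ·) ?_ ?_
      · exact (congrArg _ (hd t).symm).trans (isoTop_smul B L s (d t)).symm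
      · exact (congrArg _ (hd s).symm).trans (isoTop_smul B L t (d s)).symm)
    have hA : ∀ a, d (algebraMap A B a) = 0 := fun a => hι.1 (by
      rw [hd]
      show D.app ⊤ ((Scheme.ΓSpecIso (CommRingCat.of B)).inv (algebraMap A B a)) = _
      rw [algebraMap_eq]
      exact (D.d_app (X := op ⊤) _).trans (map_zero _).symm)
    refine ⟨Derivation.mk' { toFun := d, map_add' := hadd, map_smul' := fun a t => ?_ } hmul, fun t => (hd t).symm⟩
    show d (a • t) = a • d t
    rw [Algebra.smul_def, hmul, hA, smul_zero, add_zero, algebraMap_smul]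
  · let X := Spec (CommRingCat.of B)
    let S := Spec (CommRingCat.of A)
    let f : X ⟶ S := base
    have e : (⊤ : X.Opens) ≤ f ⁻¹ᵁ ⊤ := le_top
    letI : Algebra Γ(S, ⊤) Γ(X, ⊤) := (f.appLE ⊤ ⊤ e).hom.toAlgebra
    letI : Module Γ(S, ⊤) Γ(N, ⊤) := Module.compHom _ (f.appLE ⊤ ⊤ e).hom
    haveI : IsScalarTower Γ(S, ⊤) Γ(X, ⊤) Γ(N, ⊤) := .of_algebraMap_smul fun _ _ => rfl
    let γ' := (Scheme.ΓSpecIso (CommRingCat.of B)).hom
    have hγ : ∀ t : Γ(X, ⊤), γ (γ' t) = t := fun t => congr($((Scheme.ΓSpecIso (CommRingCat.of B)).hom_inv_id) t)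
    let δ' : Derivation Γ(S, ⊤) Γ(X, ⊤) Γ(N, ⊤) := Derivation.mk'
      { toFun := fun t => ι (δ (γ' t))
        map_add' := fun s t => by rw [map_add, map_add, hι0]
        map_smul' := fun r t => by
          show ι (δ (γ' (f.appLE ⊤ ⊤ e r * t))) = f.appLE ⊤ ⊤ e r • ι (δ (γ' t))
          have h1 : γ' (f.appLE ⊤ ⊤ e r) = algebraMap A B ((Scheme.ΓSpecIso (CommRingCat.of A)).hom r) := by
            rw [show f.appLE ⊤ ⊤ e = f.app ⊤ from (Scheme.Hom.app_eq_appLE f).symm]
            exact congr($(Scheme.ΓSpecIso_naturality (CommRingCat.ofHom (algebraMap A B))) r)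
          rw [map_mul, Derivation.leibniz]
          have h2 : δ (γ' (f.appLE ⊤ ⊤ e r)) = 0 := by rw [h1]; exact δ.map_algebraMap _
          rw [h2, smul_zero, add_zero]
          exact (isoTop_smul B L _ _).trans
            (congrArg (fun z => @HSMul.hSMul Γ(X, ⊤) Γ(N, ⊤) Γ(N, ⊤) _ z (ι (δ (γ' t)))) (hγ _)) }
      fun s t => by
        show ι (δ (γ' (s * t))) = s • ι (δ (γ' t)) + t • ι (δ (γ' s))
        rw [map_mul, Derivation.leibniz, hι0]
        refine congrArg₂ (· + ·) ?_ ?_
        · exact (isoTop_smul B L _ _).trans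
            (congrArg (fun z => @HSMul.hSMul Γ(X, ⊤) Γ(N, ⊤) Γ(N, ⊤) _ z (ι (δ (γ' t)))) (hγ s))
        · exact (isoTop_smul B L _ _).trans
            (congrArg (fun z => @HSMul.hSMul Γ(X, ⊤) Γ(N, ⊤) Γ(N, ⊤) _ z (ι (δ (γ' s)))) (hγ t))
    haveI : IsAffine X := inferInstanceAs (IsAffine (Spec _))
    haveI : IsAffine S := inferInstanceAs (IsAffine (Spec _))
    haveI : QuasiSeparated f := inferInstance
    have hu := isUniversal_dOmega f
    haveI := isQCoh_of_universal hu
    obtain ⟨T, hT⟩ := exists_lin_of_der (OmegaSh.dOmega f) e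
    have hTb := bijective_of_universal (isAffineOpen_top S) (isAffineOpen_top X) e hu T hT
    let T' := LinearEquiv.ofBijective T hTb
    obtain ⟨α, hα⟩ := exists_hom_of_lin (Omega.sheaf f) N (δ'.liftKaehlerDifferential ∘ₗ T'.symm.toLinearMap)
    refine ⟨OmegaUnivLib.comp (OmegaSh.dOmega f) α, fun t => ?_, fun D hD => ?_⟩
    · show α.app ⊤ ((OmegaSh.dOmega f).app ⊤ (γ t)) = _
      rw [hα, LinearMap.comp_apply, ← hT]
      show δ'.liftKaehlerDifferential (T'.symm (T' _)) = _
      rw [LinearEquiv.symm_apply_apply, Derivation.liftKaehlerDifferential_comp_D]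
      show ι (δ (γ' (γ t))) = _
      rw [show γ' (γ t) = t from congr($((Scheme.ΓSpecIso (CommRingCat.of B)).inv_hom_id) t)]
    · refine der_ext_top _ _ fun s => ?_
      obtain ⟨t, rfl⟩ : ∃ t, γ t = s := ⟨γ' s, hγ s⟩
      rw [hD]
      symm
      show α.app ⊤ ((OmegaSh.dOmega f).app ⊤ (γ t)) = _
      rw [hα, LinearMap.comp_apply, ← hT]
      show δ'.liftKaehlerDifferential (T'.symm (T' _)) = _
      rw [LinearEquiv.symm_apply_apply, Derivation.liftKaehlerDifferential_comp_D]
      show ι (δ (γ' (γ t))) = _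
      rw [show γ' (γ t) = t from congr($((Scheme.ΓSpecIso (CommRingCat.of B)).inv_hom_id) t)]

end Groth.Agent.EtAlgEasy.DerTilde
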