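import Groth.Agent.EtAlgEasy.RelClosureSch
import Groth.Agent.FibEmbLib.Components
import Mathlib

/-!
The points at which the fibre is equidimensional.
-/

set_option autoImplicit false
set_option backward.isDefEq.respectTransparency false
set_option linter.style.haveILetI false

universe u

open CategoryTheory AlgebraicGeometry Topology
open Groth.Agent.FibreDepth Groth.Agent.FibEmbLib

noncomputable section

namespace Groth.Agent.EtAlgEasy.EquidimLocus

theorem stalkDim_zero_iff {U : Scheme.{u}} (a : U) :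
    ringKrullDim ↥(U.presheaf.stalk a) = 0 ↔ ∀ v : U, v ⤳ a → v = a := by
  rw [ringKrullDim_stalk_eq_coheight]
  constructor
  · intro h v hv
    have : IsMax a := Order.coheight_eq_zero.1 (by exact_mod_cast h)
    exact (hv.antisymm (this (show a ≤ v from hv))).eq
  · intro h
    have : Order.coheight a = 0 := Order.coheight_eq_zero.2 fun v hv => (h v hv).le
    exact_mod_cast this

variable {X S : Scheme.{u}} (f : X ⟶ S)

/-- The depth of the local ring of the fibre. -/
abbrev dep (x : X) : ℕ∞ :=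
  LocCoh.depth ((f.fiber (f.base x)).presheaf.stalk (f.asFiber x)) ((f.fiber (f.base x)).presheaf.stalk (f.asFiber x))

/-- The dimension of the local ring of the fibre. -/
abbrev supp (x : X) : WithBot ℕ∞ := ringKrullDim ((f.fiber (f.base x)).presheaf.stalk (f.asFiber x))

/-- The points on a component of dimension `n` of their fibre. -/
def onComp (n : ℕ) : Set X := RelClosureSch.relCl f (cmSet f (dep f) (supp f) (fun k => k = n))

theorem isLocallyConstructible_onComp [LocallyOfFinitePresentation f] (n : ℕ) :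
    IsLocallyConstructible (onComp f n) :=
  RelClosureSch.isLocallyConstructible_relCl f (isLocallyConstructible_of_embeddings _ fun x => by
    obtain ⟨𝔐, hx⟩ := exists_model_self f x
    exact ⟨𝔐.B, 𝔐.commB, 𝔐.emb, 𝔐.isOpenEmbedding, hx, isConstructible_cmSet 𝔐 _⟩)

theorem supp_ne_bot (x : X) : supp f x ≠ ⊥ :=
  ne_bot_of_le_ne_bot WithBot.zero_ne_bot ringKrullDim_nonneg_of_nontrivial

theorem mem_onComp_iff [LocallyOfFinitePresentation f] (x : X) (n : ℕ) :
    x ∈ onComp f n ↔ ∃ Z ∈ irreducibleComponents (↥(f.fiber (f.base x)) : Type u), f.asFiber x ∈ Z ∧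
      topologicalKrullDim (↥Z : Type u) = n := by
  have hx : f.fiberι (f.base x) (f.asFiber x) = x := f.fiberι_asFiber x
  constructor
  · rintro ⟨w, hwx, hfw, hne, hle, k, rfl, hk⟩
    obtain ⟨𝔐, q, rfl⟩ := exists_model_self f w
    obtain ⟨z, hzq, hb, h0⟩ := 𝔐.exists_min_le q (supp_ne_bot f _)
    have hz := clDim_of_cm 𝔐 q z k hne hle hk hzq hb h0
    have hzy : f.base (𝔐.emb z) = f.base x := hb.trans hfw
    obtain ⟨ζ, hζ⟩ : 𝔐.emb z ∈ Set.range (f.fiberι (f.base x)) := by rw [f.range_fiberι]; exact hzy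
    rw [← hζ] at hz h0
    have hmin : ∀ v, v ⤳ ζ → v = ζ :=
      (stalkDim_zero_iff ζ).1 ((fib_transfer f (f.base x) ζ fun y w => ringKrullDim ((f.fiber y).presheaf.stalk w) = 0).2.1 h0)
    refine ⟨closure {ζ}, ⟨isIrreducible_singleton.closure, fun Z hZ hle => ?_⟩, ?_,
      (fib_transfer f (f.base x) ζ fun y w => topologicalKrullDim ↥(closure ({w} : Set ↥(f.fiber y))) = (k : WithBot ℕ∞)).2.1 hz⟩
    · obtain ⟨η, hη⟩ := QuasiSober.sober hZ.closure isClosed_closure
      intro w hw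
      rw [← hmin η (hη.specializes (subset_closure (hle (subset_closure rfl))))]
      exact hη.def.symm ▸ subset_closure hw
    · refine specializes_iff_mem_closure.1 ((f.fiberι (f.base x)).isEmbedding.isInducing.specializes_iff.1 ?_)
      rw [hζ, hx]
      exact hzq.trans hwx
  · rintro ⟨Z, hZ, hxZ, hd⟩
    obtain ⟨η, hη⟩ := QuasiSober.sober hZ.1 (isClosed_of_mem_irreducibleComponents Z hZ)
    have hmin : ∀ v, v ⤳ η → v = η := fun v hv => by
      have h1 : Z ≤ closure {v} := hη.def ▸ hv.closure_subset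
      have h2 := hZ.2 isIrreducible_singleton.closure h1
      exact (hv.antisymm (specializes_iff_mem_closure.2 (hη.def.symm ▸ h2 (subset_closure rfl)))).eq
    have hy : f.base (f.fiberι (f.base x) η) = f.base x :=
      (fib_transfer f (f.base x) η fun _ _ => True).1
    have h0 : supp f (f.fiberι (f.base x) η) = 0 :=
      (fib_transfer f (f.base x) η fun y w => ringKrullDim ((f.fiber y).presheaf.stalk w) = 0).2.2
        ((stalkDim_zero_iff η).2 hmin)
    have hcl : clDim f (f.fiberι (f.base x) η) = (n : WithBot ℕ∞) :=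
      (fib_transfer f (f.base x) η fun y w => topologicalKrullDim ↥(closure ({w} : Set ↥(f.fiber y))) = (n : WithBot ℕ∞)).2.2
        (by rw [hη.def]; exact hd)
    refine ⟨f.fiberι (f.base x) η, ?_, hy, supp_ne_bot f _, ?_, n, rfl, ?_⟩
    · have h1 := (hη.specializes hxZ).map (f.fiberι (f.base x)).continuous
      rwa [hx] at h1
    · rw [h0]; exact WithBot.coe_le_coe.2 bot_le
    · obtain ⟨𝔐, q, hq⟩ := exists_model_self f (f.fiberι (f.base x) η)
      obtain ⟨s, D, hs, hD, hDs⟩ := 𝔐.exists_data q (supp_ne_bot f _)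
      rw [hq] at hs hD
      have hs' : supp f (f.fiberι (f.base x) η) = (s : WithBot ℕ∞) := hs
      rw [h0] at hs'
      have hs0 : s = 0 := by exact_mod_cast hs'.symm
      have hD' : ((dep f (f.fiberι (f.base x) η) : ℕ∞) : WithBot ℕ∞) = _ := congrArg WithBot.some hD
      rw [hcl, hD', show D = 0 by omega]
      exact zero_add _

theorem isLocallyConstructible_equidim [LocallyOfFinitePresentation f] :
    IsLocallyConstructible {x : X | ∃ e : ℕ,
      ∀ Z ∈ irreducibleComponents (↥(f.fiber (f.base x)) : Type u), f.asFiber x ∈ Z →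
        topologicalKrullDim (↥Z : Type u) = e} := by
  refine isLocallyConstructible_of_embeddings _ fun x => ?_
  obtain ⟨𝔐, hx⟩ := exists_model_self f x
  refine ⟨𝔐.B, 𝔐.commB, 𝔐.emb, 𝔐.isOpenEmbedding, hx, ?_⟩
  have hdim : ∀ q n, 𝔐.emb q ∈ onComp f n → n ≤ 𝔐.m := by
    rintro q n ⟨w, hwq, hfw, hne, hle, k, rfl, hk⟩
    obtain ⟨q', rfl⟩ := hwq.mem_open 𝔐.isOpenEmbedding.isOpen_range ⟨q, rfl⟩
    obtain ⟨z, hzq, hb, h0⟩ := 𝔐.exists_min_le q' (supp_ne_bot f _)
    have hz := clDim_of_cm 𝔐 q' z k hne hle hk hzq hb h0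
    obtain ⟨d, t, -, ht, hm⟩ := 𝔐.exists_dims z
    rw [ht] at hz
    have : t = k := by exact_mod_cast hz
    omega
  have hset : 𝔐.emb ⁻¹' {x : X | ∃ e : ℕ,
      ∀ Z ∈ irreducibleComponents (↥(f.fiber (f.base x)) : Type u), f.asFiber x ∈ Z →
        topologicalKrullDim (↥Z : Type u) = e} =
      (⋃ p ∈ {p : ℕ × ℕ | p.1 ≤ 𝔐.m ∧ p.2 ≤ 𝔐.m ∧ p.1 ≠ p.2},
        𝔐.emb ⁻¹' (onComp f p.1 ∩ onComp f p.2))ᶜ := by
    ext q
    simp only [Set.mem_compl_iff, Set.mem_iUnion₂, not_exists, Set.mem_preimage, Set.mem_ofPred_eq, Set.mem_inter_iff]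
    constructor
    · rintro ⟨e, he⟩ ⟨a, b⟩ ⟨-, -, hne⟩ ⟨ha, hb⟩
      obtain ⟨Za, hZa, hxa, hda⟩ := (mem_onComp_iff f _ a).1 ha
      obtain ⟨Zb, hZb, hxb, hdb⟩ := (mem_onComp_iff f _ b).1 hb
      rw [he Za hZa hxa] at hda
      rw [he Zb hZb hxb] at hdb
      exact hne (by exact_mod_cast (hda.symm.trans hdb : (a : WithBot ℕ∞) = (b : WithBot ℕ∞)))
    · intro h
      have hfin : ∀ Z ∈ irreducibleComponents (↥(f.fiber (f.base (𝔐.emb q))) : Type u), f.asFiber (𝔐.emb q) ∈ Z →
          ∃ n : ℕ, topologicalKrullDim (↥Z : Type u) = n := fun Z hZ _ => by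
        obtain ⟨η, hη⟩ := QuasiSober.sober hZ.1 (isClosed_of_mem_irreducibleComponents Z hZ)
        obtain ⟨𝔑, r, hr⟩ := exists_model_self f (f.fiberι (f.base (𝔐.emb q)) η)
        obtain ⟨d, t, -, ht, -⟩ := 𝔑.exists_dims r
        rw [hr] at ht
        refine ⟨t, ?_⟩
        have := (fib_transfer f (f.base (𝔐.emb q)) η fun y w =>
          topologicalKrullDim ↥(closure ({w} : Set ↥(f.fiber y))) = (t : WithBot ℕ∞)).2.1 ht
        rwa [hη.def] at this
      by_cases hex : ∃ Z ∈ irreducibleComponents (↥(f.fiber (f.base (𝔐.emb q))) : Type u), f.asFiber (𝔐.emb q) ∈ Z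
      · obtain ⟨Z₀, hZ₀, hx₀⟩ := hex
        obtain ⟨n, hn⟩ := hfin Z₀ hZ₀ hx₀
        refine ⟨n, fun Z hZ hxZ => ?_⟩
        obtain ⟨k, hk⟩ := hfin Z hZ hxZ
        have hkn : k = n := by_contra fun hne => h (k, n)
          ⟨hdim q k ((mem_onComp_iff f _ k).2 ⟨Z, hZ, hxZ, hk⟩), hdim q n ((mem_onComp_iff f _ n).2 ⟨Z₀, hZ₀, hx₀, hn⟩), hne⟩
          ⟨(mem_onComp_iff f _ k).2 ⟨Z, hZ, hxZ, hk⟩, (mem_onComp_iff f _ n).2 ⟨Z₀, hZ₀, hx₀, hn⟩⟩
        rw [hk, hkn]
      · exact ⟨0, fun Z hZ hxZ => absurd ⟨Z, hZ, hxZ⟩ hex⟩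
  rw [hset]
  refine (IsConstructible.biUnion (((Set.finite_le_nat 𝔐.m).prod (Set.finite_le_nat 𝔐.m)).subset
    fun p hp => ⟨hp.1, hp.2.1⟩) fun p _ => ?_).compl
  exact (((isLocallyConstructible_onComp f p.1).inter (isLocallyConstructible_onComp f p.2)).preimage_of_isOpenEmbedding
    𝔐.isOpenEmbedding).isConstructible

end Groth.Agent.EtAlgEasy.EquidimLocus
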