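import Mathlib
import Groth.Prelude.Def_EssEt
import Groth.Agent.Hensel.Lift

/-!
# Homomorphisms out of essentially étale local algebras; finite étale local lifts
-/

set_option autoImplicit false

open IsLocalRing

universe u

namespace EtAlgEasy

variable {A B C : Type u} [CommRing A] [IsLocalRing A] [CommRing B] [IsLocalRing B] [Algebra A B]
  [CommRing C] [IsLocalRing C] [Algebra A C] [IsLocalHom (algebraMap A C)]

theorem isLocalHom_of_essEtale (hB : EGA4loc.IsEssentiallyEtale A B) (φ : B →ₐ[A] C) :
    IsLocalHom φ.toRingHom := by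
  obtain ⟨C0, _, _, q, _, _, hq, ⟨e⟩⟩ := hB
  let ψ : Localization.AtPrime q →ₐ[A] C := φ.comp e.symm.toAlgHom
  let P := (maximalIdeal C).comap (ψ.toRingHom.comp (algebraMap C0 (Localization.AtPrime q)))
  have hPq : P ≤ q := fun x hx => by
    by_contra hxq
    exact (mem_maximalIdeal _).1 hx
      ((IsLocalization.map_units (Localization.AtPrime q) (⟨x, hxq⟩ : q.primeCompl)).map ψ)
  have hPA : P.comap (algebraMap A C0) = q.comap (algebraMap A C0) := by
    rw [hq]
    refine Ideal.ext fun a => ?_
    show ψ (algebraMap C0 (Localization.AtPrime q) (algebraMap A C0 a)) ∈ maximalIdeal C ↔ _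
    rw [← IsScalarTower.algebraMap_apply A C0 (Localization.AtPrime q), ψ.commutes, mem_maximalIdeal,
      mem_maximalIdeal, mem_nonunits_iff, mem_nonunits_iff]
    exact not_congr ⟨fun h => isUnit_of_map_unit _ _ h, fun h => h.map _⟩
  have hP : P = q := Algebra.QuasiFinite.eq_of_le_of_under_eq (R := A) P q hPq hPA
  refine ⟨fun b hb => ?_⟩
  have hb' : IsUnit (ψ (e b)) := by simpa [ψ] using hb
  suffices IsUnit (e b) by simpa using this.map e.symm
  obtain ⟨x, s, hs⟩ := IsLocalization.exists_mk'_eq q.primeCompl (e b)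
  rw [← hs] at hb' ⊢
  refine IsLocalization.mk'_eq_mul_mk'_one (M := q.primeCompl) (S := Localization.AtPrime q) x s ▸
    IsUnit.mul ((IsLocalization.AtPrime.isUnit_to_map_iff _ q x).2 ?_) ?_
  · intro hx
    have hxP : x ∈ P := hP.symm ▸ hx
    refine (mem_maximalIdeal _).1 hxP ?_
    show IsUnit (ψ (algebraMap C0 (Localization.AtPrime q) x))
    rw [← IsLocalization.mk'_spec (Localization.AtPrime q) x s, map_mul]
    exact hb'.mul ((IsLocalization.map_units (Localization.AtPrime q) s).map ψ)
  · exact isUnit_iff_exists_inv.2 ⟨algebraMap C0 _ (s : C0), by rw [IsLocalization.mk'_spec, map_one]⟩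

theorem hom_ext_of_essEtale (hB : EGA4loc.IsEssentiallyEtale A B) {u v : B →ₐ[A] C}
    (h : (residue C).comp u.toRingHom = (residue C).comp v.toRingHom) : u = v := by
  obtain ⟨C0, _, _, q, _, hC0, -, ⟨e⟩⟩ := hB
  have h0 : (u.comp e.symm.toAlgHom).comp (IsScalarTower.toAlgHom A C0 (Localization.AtPrime q)) =
      (v.comp e.symm.toAlgHom).comp (IsScalarTower.toAlgHom A C0 (Localization.AtPrime q)) := by
    refine Groth.Agent.Hensel.algHom_unique (A := C) (I := maximalIdeal C)
      (le_sInf fun M hM => (eq_maximalIdeal hM.2).ge) fun x => ?_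
    rw [← residue_eq_zero_iff, map_sub, sub_eq_zero]
    exact RingHom.congr_fun h (e.symm (algebraMap C0 (Localization.AtPrime q) x))
  have h1 : u.comp e.symm.toAlgHom = v.comp e.symm.toAlgHom := by
    refine AlgHom.coe_ringHom_injective (IsLocalization.ringHom_ext q.primeCompl (RingHom.ext fun x => ?_))
    exact AlgHom.congr_fun h0 x
  refine AlgHom.ext fun b => ?_
  simpa using AlgHom.congr_fun h1 (e b)

theorem subsingleton_hom_of_strict {A₁ A₂ : Type u} [CommRing A₁] [IsLocalRing A₁] [Algebra A A₁]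
    [IsLocalHom (algebraMap A A₁)] [CommRing A₂] [IsLocalRing A₂] [Algebra A A₂]
    [IsLocalHom (algebraMap A A₂)] (h₁ : EGA4loc.IsStrictlyEssentiallyEtale A A₁) :
    Subsingleton (A₁ →ₐ[A] A₂) := by
  refine ⟨fun u v => hom_ext_of_essEtale h₁.1 (RingHom.ext fun x => ?_)⟩
  obtain ⟨a, ha⟩ := h₁.2.2 (residue A₁ x)
  obtain ⟨a, rfl⟩ := residue_surjective a
  rw [ResidueField.map_residue, ← sub_eq_zero, ← map_sub, residue_eq_zero_iff, mem_maximalIdeal,
    mem_nonunits_iff] at ha
  have key : ∀ w : A₁ →ₐ[A] A₂, residue A₂ (w x) = residue A₂ (algebraMap A A₂ a) := fun w => by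
    haveI := isLocalHom_of_essEtale h₁.1 w
    rw [← w.commutes a, eq_comm, ← sub_eq_zero, ← map_sub, ← map_sub, residue_eq_zero_iff,
      mem_maximalIdeal, mem_nonunits_iff]
    exact fun hu => ha (isUnit_of_map_unit w.toRingHom _ hu)
  exact (key u).trans (key v).symm

/-- Finite separable residue extensions lift to finite étale local algebras. -/
theorem exists_finite_etale_local (A : Type u) [CommRing A] [IsLocalRing A] (l : Type u) [Field l]
    [Algebra (ResidueField A) l] [FiniteDimensional (ResidueField A) l]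
    [Algebra.IsSeparable (ResidueField A) l] :
    ∃ (E : Type u) (_ : CommRing E) (_ : IsLocalRing E) (_ : Algebra A E)
      (_ : IsLocalHom (algebraMap A E)),
      Module.Finite A E ∧ Algebra.Etale A E ∧
        Nonempty (ResidueField E ≃ₐ[ResidueField A] l) := by
  classical
  obtain ⟨θ, hθ⟩ := Field.exists_primitive_element (ResidueField A) l
  have hint := IsIntegral.of_finite (ResidueField A) θ
  obtain ⟨f, hf, hfd, hfm⟩ := Polynomial.lifts_and_natDegree_eq_and_monic
    (show minpoly (ResidueField A) θ ∈ Polynomial.lifts (residue A) from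
      (Polynomial.lifts_iff_coeff_lifts _).2 fun _ => residue_surjective _) (minpoly.monic hint)
  let E := AdjoinRoot f
  haveI : Module.Finite A E := hfm.finite_adjoinRoot
  let α := algebraMap (ResidueField A) l
  let π : E →+* l := AdjoinRoot.lift (α.comp (residue A)) θ (by
    rw [← Polynomial.eval₂_map, hf]
    exact minpoly.aeval _ _)
  have hπX : ∀ g : Polynomial A, π (AdjoinRoot.mk f g) = Polynomial.aeval θ (g.map (residue A)) := fun g => by
    rw [Polynomial.aeval_def, Polynomial.eval₂_map]
    exact AdjoinRoot.lift_mk _ g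
  have hπs : Function.Surjective π := by
    intro z
    have hz : z ∈ (IntermediateField.adjoin (ResidueField A) {θ}).toSubalgebra := by
      rw [hθ]; trivial
    rw [IntermediateField.adjoin_simple_toSubalgebra_of_isAlgebraic hint.isAlgebraic, Algebra.adjoin_singleton_eq_range_aeval] at hz
    obtain ⟨g, rfl⟩ := hz
    obtain ⟨g, rfl⟩ := Polynomial.map_surjective _ residue_surjective g
    exact ⟨AdjoinRoot.mk f g, hπX g⟩
  have hπk : RingHom.ker π = (maximalIdeal A).map (algebraMap A E) := by
    refine le_antisymm (fun z hz => ?_) (Ideal.map_le_iff_le_comap.2 fun a ha => ?_)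
    · obtain ⟨g, rfl⟩ := AdjoinRoot.mk_surjective z
      rw [RingHom.mem_ker, hπX] at hz
      obtain ⟨c, hc⟩ := minpoly.dvd (ResidueField A) θ hz
      obtain ⟨c, rfl⟩ := Polynomial.map_surjective _ residue_surjective c
      rw [← hf, ← Polynomial.map_mul, ← sub_eq_zero, ← Polynomial.map_sub] at hc
      have hmem : g - f * c ∈ (maximalIdeal A).map Polynomial.C := by
        rw [Ideal.mem_map_C_iff]
        intro i
        rw [← residue_eq_zero_iff, ← Polynomial.coeff_map, hc, Polynomial.coeff_zero]
      have h2 := Ideal.mem_map_of_mem (AdjoinRoot.mk f) hmem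
      rw [Ideal.map_map, map_sub, map_mul, AdjoinRoot.mk_self, zero_mul, sub_zero] at h2
      exact h2
    · rw [Ideal.mem_comap, RingHom.mem_ker]
      show π (AdjoinRoot.of f a) = 0
      rw [AdjoinRoot.lift_of, RingHom.comp_apply, (residue_eq_zero_iff a).2 ha, map_zero]
  haveI hkmax : (RingHom.ker π).IsMaximal := RingHom.ker_isMaximal_of_surjective π hπs
  haveI : IsLocalRing E := IsLocalRing.of_unique_max_ideal ⟨RingHom.ker π, hkmax, fun M hM => by
    refine (hkmax.eq_of_le hM.ne_top ?_).symm
    rw [hπk, Ideal.map_le_iff_le_comap]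
    haveI := hM
    exact (eq_maximalIdeal (Ideal.isMaximal_comap_of_isIntegral_of_isMaximal (R := A) M)).ge⟩
  have hmax : maximalIdeal E = RingHom.ker π := (eq_maximalIdeal hkmax).symm
  haveI hloc : IsLocalHom (algebraMap A E) := ⟨fun a ha => by
    by_contra hn
    have : algebraMap A E a ∈ maximalIdeal E := by
      rw [hmax, hπk]
      exact Ideal.mem_map_of_mem _ ((mem_maximalIdeal _).2 hn)
    exact (mem_maximalIdeal _).1 this ha⟩
  have hf' : IsUnit (AdjoinRoot.mk f f.derivative) := by
    by_contra hn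
    have hsep : (minpoly (ResidueField A) θ).Separable := Algebra.IsSeparable.isSeparable _ θ
    have h0 : AdjoinRoot.mk f f.derivative ∈ maximalIdeal E := (mem_maximalIdeal _).2 hn
    rw [hmax, RingHom.mem_ker, hπX, ← Polynomial.derivative_map, hf] at h0
    exact hsep.aeval_derivative_ne_zero (minpoly.aeval _ _) h0
  obtain ⟨w, hw⟩ := isUnit_iff_exists_inv.1 hf'
  obtain ⟨p₁, rfl⟩ := AdjoinRoot.mk_surjective w
  rw [← map_mul, ← map_one (AdjoinRoot.mk f), AdjoinRoot.mk_eq_mk] at hw
  obtain ⟨p₂, hp₂⟩ := hw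
  let P : StandardEtalePair A := ⟨f, hfm, 1, p₁, -p₂, 0, by rw [pow_zero]; linear_combination hp₂⟩
  let eP : P.Ring ≃ₐ[A] E := (P.equivAwayAdjoinRoot).trans
    ((IsLocalization.atUnits E (Submonoid.powers (AdjoinRoot.mk f 1))
      (by rintro _ ⟨n, rfl⟩; simp)).symm.restrictScalars A)
  refine ⟨E, inferInstance, inferInstance, inferInstance, hloc, inferInstance,
    Algebra.Etale.of_equiv eP, ⟨?_⟩⟩
  let e0 : ResidueField E ≃+* l :=
    (Ideal.quotEquivOfEq hmax).trans (RingHom.quotientKerEquivOfSurjective hπs)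
  refine AlgEquiv.ofRingEquiv (f := e0) fun r => ?_
  obtain ⟨a, rfl⟩ := residue_surjective r
  show π (algebraMap A E a) = _
  exact AdjoinRoot.lift_of _

end EtAlgEasy
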