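import Mathlib
import Groth.Agent.Unibranch.Normal

/-!
# Étale algebras over Dedekind domains
-/

set_option autoImplicit false

universe u

namespace EtAlgEasy

variable (A : Type u) {B : Type u} [CommRing A] [IsDedekindDomain A] [CommRing B] [Algebra A B]
  [Algebra.Etale A B]

include A

/-- A prime which strictly contains another prime is maximal. -/
theorem isMaximal_of_lt {Q q : Ideal B} [Q.IsPrime] [q.IsPrime] (h : Q < q) : q.IsMaximal := by
  have hp : q.under A ≠ ⊥ := by
    intro hbot
    refine h.ne (Algebra.QuasiFinite.eq_of_le_of_under_eq (R := A) Q q h.le ?_)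
    rw [hbot, eq_bot_iff, ← hbot]
    exact Ideal.comap_mono h.le
  have hpmax : (q.under A).IsMaximal := Ring.DimensionLEOne.maximalOfPrime hp inferInstance
  obtain ⟨m, hm, hqm⟩ := Ideal.exists_le_maximal q ‹q.IsPrime›.ne_top
  have heq : q.under A = m.under A :=
    hpmax.eq_of_le (Ideal.IsPrime.under A m).ne_top (Ideal.comap_mono hqm)
  rwa [Algebra.QuasiFinite.eq_of_le_of_under_eq (R := A) q m hqm heq]

/-- The localizations are Noetherian integrally closed domains of dimension at most one. -/
theorem isDedekindDomain_localization (q : Ideal B) [q.IsPrime] :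
    IsDedekindDomain (Localization.AtPrime q) := by
  haveI : IsNoetherianRing B := Algebra.FiniteType.isNoetherianRing A B
  obtain ⟨hd, hn⟩ := Groth.Agent.Unibranch.isDomain_isIntegrallyClosed_of_etale (A := A) q
  haveI : IsNoetherianRing (Localization.AtPrime q) :=
    IsLocalization.isNoetherianRing q.primeCompl _ inferInstance
  have h23 : IsDedekindDomain (Localization.AtPrime q) ↔ IsIntegrallyClosed (Localization.AtPrime q) ∧
      ∀ P : Ideal (Localization.AtPrime q), P ≠ ⊥ → P.IsPrime →
        P = IsLocalRing.maximalIdeal (Localization.AtPrime q) :=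
    (tfae_of_isNoetherianRing_of_isLocalRing_of_isDomain (Localization.AtPrime q)).out 2 3
  refine h23.2 ⟨hn, fun P hP hPp => ?_⟩
  refine IsLocalRing.eq_maximalIdeal ?_
  have hlt : (⊥ : Ideal (Localization.AtPrime q)).under B < P.under B :=
    lt_of_le_of_ne (Ideal.comap_mono bot_le) fun he => hP (by
      rw [← IsLocalization.map_under q.primeCompl (Localization.AtPrime q) P, ← he,
        IsLocalization.map_under q.primeCompl (Localization.AtPrime q)])
  haveI : (⊥ : Ideal (Localization.AtPrime q)).IsPrime := Ideal.isPrime_bot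
  haveI := hPp
  have hmax : (P.under B).IsMaximal := isMaximal_of_lt A hlt
  have hle : P.under B ≤ q := by
    intro x hx
    by_contra hxq
    exact hPp.ne_top (Ideal.eq_top_of_isUnit_mem _ hx
      (IsLocalization.map_units (Localization.AtPrime q) (⟨x, hxq⟩ : q.primeCompl)))
  have hPm : P.under B = q := hmax.eq_of_le ‹q.IsPrime›.ne_top hle
  have : P = IsLocalRing.maximalIdeal (Localization.AtPrime q) := by
    rw [← IsLocalization.map_under q.primeCompl (Localization.AtPrime q) P, hPm,
      ← Localization.AtPrime.map_eq_maximalIdeal]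
  rw [this]
  infer_instance

theorem exists_product_dedekind : ∃ (n : ℕ) (D : Fin n → Type u) (_ : ∀ i, CommRing (D i))
    (_ : ∀ i, IsDedekindDomain (D i)), Nonempty (B ≃+* ∀ i, D i) := by
  classical
  haveI : IsNoetherianRing B := Algebra.FiniteType.isNoetherianRing A B
  haveI : IsReduced B := isReduced_ofLocalizationMaximal B fun J hJ => by
    haveI := isDedekindDomain_localization A J
    infer_instance
  have hfin : (minimalPrimes B).Finite := minimalPrimes.finite_of_isNoetherianRing B
  haveI := hfin.fintype
  let n := Fintype.card (minimalPrimes B)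
  let p : Fin n → Ideal B := fun i => ((Fintype.equivFin (minimalPrimes B)).symm i).1
  have hp : ∀ i, p i ∈ minimalPrimes B := fun i => ((Fintype.equivFin (minimalPrimes B)).symm i).2
  haveI hpp : ∀ i, (p i).IsPrime := fun i => (hp i).1.1
  -- the kernel of `B → B_m` is the minimal prime inside `m`
  have hker : ∀ (m : Ideal B) [m.IsPrime], ∀ P ∈ minimalPrimes B, P ≤ m →
      P = RingHom.ker (algebraMap B (Localization.AtPrime m)) := by
    intro m _ P hP hPm
    haveI := isDedekindDomain_localization A m
    haveI : (RingHom.ker (algebraMap B (Localization.AtPrime m))).IsPrime := RingHom.ker_isPrime _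
    haveI := hP.1.1
    have hle : RingHom.ker (algebraMap B (Localization.AtPrime m)) ≤ P := fun x hx => by
      obtain ⟨⟨s, hs⟩, hsx⟩ := (IsLocalization.map_eq_zero_iff m.primeCompl
        (Localization.AtPrime m) x).1 hx
      exact (hP.1.1.mem_or_mem (show s * x ∈ P from hsx ▸ P.zero_mem)).resolve_left
        fun hsP => hs (hPm hsP)
    exact le_antisymm (hP.2 ⟨inferInstance, bot_le⟩ hle) hle
  have hcop : Pairwise fun i j => IsCoprime (p i) (p j) := by
    intro i j hij
    rw [Ideal.isCoprime_iff_sup_eq]
    by_contra hne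
    obtain ⟨m, hm, hle⟩ := Ideal.exists_le_maximal _ hne
    refine hij ((Fintype.equivFin (minimalPrimes B)).symm.injective (Subtype.ext ?_))
    exact (hker m _ (hp i) (le_sup_left.trans hle)).trans
      (hker m _ (hp j) (le_sup_right.trans hle)).symm
  have hinf : ⨅ i, p i = ⊥ := by
    rw [← nilradical_eq_bot_iff.2 (inferInstance : IsReduced B), nilradical,
      ← Ideal.sInf_minimalPrimes]
    refine le_antisymm (le_sInf fun P hP => ?_) (le_iInf fun i => sInf_le (hp i))
    exact (iInf_le p (Fintype.equivFin (minimalPrimes B) ⟨P, hP⟩)).trans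
      (le_of_eq (by simp [p]))
  refine ⟨n, fun i => B ⧸ p i, inferInstance, fun i => ?_, ⟨?_⟩⟩
  · haveI : Ring.DimensionLEOne (B ⧸ p i) := ⟨fun {Q} hQ hQp => by
      haveI := hQp
      haveI : (Q.comap (Ideal.Quotient.mk (p i))).IsMaximal := by
        refine isMaximal_of_lt A (Q := p i) (lt_of_le_of_ne ?_ fun he => hQ ?_)
        · intro x hx
          rw [Ideal.mem_comap, Ideal.Quotient.eq_zero_iff_mem.2 hx]
          exact Q.zero_mem
        · rw [← Ideal.map_comap_of_surjective _ Ideal.Quotient.mk_surjective Q, ← he,
            Ideal.map_quotient_self]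
      rw [← Ideal.map_comap_of_surjective _ (Ideal.Quotient.mk_surjective (I := p i)) Q]
      refine (Ideal.map_eq_top_or_isMaximal_of_surjective _ Ideal.Quotient.mk_surjective
        ‹_›).resolve_left fun ht => hQp.ne_top ?_
      rwa [Ideal.map_comap_of_surjective _ Ideal.Quotient.mk_surjective] at ht⟩
    haveI : IsIntegrallyClosed (B ⧸ p i) := IsIntegrallyClosed.of_localization_maximal fun m _ _ => by
      let M := m.comap (Ideal.Quotient.mk (p i))
      haveI := isDedekindDomain_localization A M
      let g : Localization.AtPrime M →+* Localization.AtPrime m :=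
        Localization.localRingHom M m (Ideal.Quotient.mk (p i)) rfl
      have hgs : Function.Surjective g := fun z => by
        obtain ⟨x, ⟨s, hs⟩, rfl⟩ := IsLocalization.exists_mk'_eq m.primeCompl z
        obtain ⟨x, rfl⟩ := Ideal.Quotient.mk_surjective x
        obtain ⟨s, rfl⟩ := Ideal.Quotient.mk_surjective s
        exact ⟨IsLocalization.mk' _ x (⟨s, hs⟩ : M.primeCompl),
          Localization.localRingHom_mk' _ _ _ _ _ _⟩
      have hgi : Function.Injective g := by
        rw [injective_iff_map_eq_zero]
        intro z hz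
        obtain ⟨x, ⟨s, hs⟩, rfl⟩ := IsLocalization.exists_mk'_eq M.primeCompl z
        rw [Localization.localRingHom_mk', IsLocalization.mk'_eq_zero_iff] at hz
        obtain ⟨⟨c, hc⟩, hcx⟩ := hz
        obtain ⟨c, rfl⟩ := Ideal.Quotient.mk_surjective c
        rw [← map_mul, Ideal.Quotient.eq_zero_iff_mem,
          hker M _ (hp i) (fun y hy => by
            rw [Ideal.mem_comap, Ideal.Quotient.eq_zero_iff_mem.2 hy]; exact m.zero_mem),
          RingHom.mem_ker, map_mul] at hcx
        rw [IsLocalization.mk'_eq_mul_mk'_one]
        rw [(IsLocalization.map_units (Localization.AtPrime M)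
          (⟨c, hc⟩ : M.primeCompl)).mul_right_eq_zero.1 hcx, zero_mul]
      exact IsIntegrallyClosed.of_equiv (RingEquiv.ofBijective g ⟨hgi, hgs⟩)
    exact { }
  · exact (RingEquiv.quotientBot B).symm.trans
      ((Ideal.quotEquivOfEq hinf.symm).trans (Ideal.quotientInfRingEquivPiQuotient p hcop))

end EtAlgEasy
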