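import Mathlib
import Groth.Agent.Hensel.Lift

/-!
# Étale neighbourhoods with trivial residue extension
-/

set_option autoImplicit false

open TensorProduct

universe u

namespace EtAlgEasy

variable {R : Type u} [CommRing R] {p : Ideal R} [p.IsPrime]

/-- The point of an algebra given by a prime with trivial residue extension. -/
theorem exists_point {S : Type u} [CommRing S] [Algebra R S] (q : Ideal S) [q.IsPrime]
    (hq : p = q.comap (algebraMap R S))
    (hκ : Function.Bijective (Ideal.ResidueField.map p q (algebraMap R S) hq)) :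
    ∃ π : S →ₐ[R] p.ResidueField, RingHom.ker π.toRingHom = q := by
  let e := RingEquiv.ofBijective _ hκ
  refine ⟨{ toRingHom := e.symm.toRingHom.comp (algebraMap S q.ResidueField), commutes' := fun r => ?_ }, ?_⟩
  · show e.symm (algebraMap S q.ResidueField (algebraMap R S r)) = _
    rw [RingEquiv.symm_apply_eq]
    exact (Ideal.ResidueField.map_algebraMap p q _ hq r).symm
  · ext x
    show e.symm (algebraMap S q.ResidueField x) = 0 ↔ _
    rw [RingEquiv.map_eq_zero_iff, Ideal.algebraMap_residueField_eq_zero]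

/-- The kernel of a point has trivial residue extension. -/
theorem bijective_of_point {S : Type u} [CommRing S] [Algebra R S] (π : S →ₐ[R] p.ResidueField)
    (q : Ideal S) [q.IsPrime] (hq : RingHom.ker π.toRingHom = q) :
    ∃ h : p = q.comap (algebraMap R S),
      Function.Bijective (Ideal.ResidueField.map p q (algebraMap R S) h) := by
  subst hq
  have h : p = (RingHom.ker π.toRingHom).comap (algebraMap R S) := by
    ext r
    show r ∈ p ↔ π (algebraMap R S r) = 0
    rw [π.commutes, Ideal.algebraMap_residueField_eq_zero]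
  refine ⟨h, (Ideal.ResidueField.map p _ (algebraMap R S) h).injective, ?_⟩
  let l : (RingHom.ker π.toRingHom).ResidueField →+* p.ResidueField :=
    Ideal.ResidueField.lift _ π.toRingHom le_rfl fun x hx =>
      isUnit_iff_ne_zero.2 fun h0 => hx h0
  have hl : l.comp (Ideal.ResidueField.map p _ (algebraMap R S) h) = RingHom.id _ := by
    refine Ideal.ResidueField.ringHom_ext (RingHom.ext fun r => ?_)
    show l (Ideal.ResidueField.map p _ (algebraMap R S) h (algebraMap R _ r)) = algebraMap R _ r
    rw [Ideal.ResidueField.map_algebraMap, Ideal.ResidueField.lift_algebraMap]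
    exact π.commutes r
  intro z
  exact ⟨l z, l.injective (RingHom.congr_fun hl (l z))⟩

theorem exists_common {S₁ S₂ : Type u} [CommRing S₁] [Algebra R S₁] [Algebra.Etale R S₁]
    [CommRing S₂] [Algebra R S₂] [Algebra.Etale R S₂]
    (π₁ : S₁ →ₐ[R] p.ResidueField) (π₂ : S₂ →ₐ[R] p.ResidueField) :
    ∃ (S₃ : Type u) (_ : CommRing S₃) (_ : Algebra R S₃) (_ : Algebra.Etale R S₃)
      (π₃ : S₃ →ₐ[R] p.ResidueField) (φ₁ : S₁ →ₐ[R] S₃) (φ₂ : S₂ →ₐ[R] S₃),
      π₃.comp φ₁ = π₁ ∧ π₃.comp φ₂ = π₂ := by
  let π : S₁ ⊗[R] S₂ →ₐ[R] p.ResidueField :=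
    Algebra.TensorProduct.lift π₁ π₂ fun _ _ => Commute.all _ _
  haveI : Algebra.Etale R (S₁ ⊗[R] S₂) := Algebra.Etale.comp R S₁ (S₁ ⊗[R] S₂)
  exact ⟨S₁ ⊗[R] S₂, inferInstance, inferInstance, inferInstance, π,
    Algebra.TensorProduct.includeLeft, Algebra.TensorProduct.includeRight,
    AlgHom.ext fun x => by simp [π], AlgHom.ext fun x => by simp [π]⟩

theorem exists_equalizer {S₁ S₂ : Type u} [CommRing S₁] [Algebra R S₁] [Algebra.FormallyUnramified R S₁]
    [Algebra.FiniteType R S₁] [CommRing S₂] [Algebra R S₂] [Algebra.Etale R S₂]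
    (π : S₂ →ₐ[R] p.ResidueField) (φ ψ : S₁ →ₐ[R] S₂) (h : π.comp φ = π.comp ψ) :
    ∃ (S₃ : Type u) (_ : CommRing S₃) (_ : Algebra R S₃) (_ : Algebra.Etale R S₃)
      (π₃ : S₃ →ₐ[R] p.ResidueField) (χ : S₂ →ₐ[R] S₃),
      π₃.comp χ = π ∧ χ.comp φ = χ.comp ψ := by
  classical
  let P := RingHom.ker π.toRingHom
  haveI : P.IsPrime := RingHom.ker_isPrime _
  let L := Localization.AtPrime P
  have hu : (IsScalarTower.toAlgHom R S₂ L).comp φ = (IsScalarTower.toAlgHom R S₂ L).comp ψ := by
    refine Groth.Agent.Hensel.algHom_unique (A := L) (I := IsLocalRing.maximalIdeal L)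
      (le_sInf fun M hM => (IsLocalRing.eq_maximalIdeal hM.2).ge) fun x => ?_
    rw [← Localization.AtPrime.map_eq_maximalIdeal]
    show algebraMap S₂ L (φ x) - algebraMap S₂ L (ψ x) ∈ _
    rw [← map_sub]
    refine Ideal.mem_map_of_mem _ ?_
    show π (φ x - ψ x) = 0
    rw [map_sub, sub_eq_zero]
    exact AlgHom.congr_fun h x
  obtain ⟨s, hs⟩ := (inferInstance : Algebra.FiniteType R S₁).out
  have hk : ∀ b, ∃ t : S₂, π t ≠ 0 ∧ t * (φ b - ψ b) = 0 := fun b => by
    have h0 : algebraMap S₂ L (φ b - ψ b) = 0 := by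
      rw [map_sub, sub_eq_zero]
      exact AlgHom.congr_fun hu b
    obtain ⟨⟨t, ht⟩, htx⟩ := (IsLocalization.map_eq_zero_iff P.primeCompl L _).1 h0
    exact ⟨t, ht, htx⟩
  choose t ht htz using hk
  let f := ∏ b ∈ s, t b
  have hf : IsUnit (π f) := by
    rw [isUnit_iff_ne_zero, map_prod]
    exact Finset.prod_ne_zero_iff.2 fun b _ => ht b
  let π₃ : Localization.Away f →ₐ[R] p.ResidueField :=
    IsLocalization.liftAlgHom (f := π) (M := Submonoid.powers f) (S := Localization.Away f) (by
      rintro ⟨_, n, rfl⟩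
      rw [map_pow]
      exact hf.pow n)
  refine ⟨Localization.Away f, inferInstance, inferInstance, inferInstance, π₃,
    IsScalarTower.toAlgHom R S₂ _, AlgHom.ext fun x => IsLocalization.lift_eq _ _,
    AlgHom.ext_of_adjoin_eq_top hs fun b hb => ?_⟩
  show algebraMap S₂ (Localization.Away f) (φ b) = algebraMap S₂ _ (ψ b)
  rw [← sub_eq_zero, ← map_sub, IsLocalization.map_eq_zero_iff (Submonoid.powers f)]
  refine ⟨⟨f, Submonoid.mem_powers f⟩, ?_⟩
  show f * (φ b - ψ b) = 0
  simp only [f]
  rw [← Finset.mul_prod_erase s t hb, mul_comm (t b), mul_assoc, htz, mul_zero]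

/-- Two points with the same kernel are equal when that kernel has trivial residue extension. -/
theorem point_unique {S : Type u} [CommRing S] [Algebra R S] (q : Ideal S) [q.IsPrime]
    (hq : p = q.comap (algebraMap R S))
    (hκ : Function.Bijective (Ideal.ResidueField.map p q (algebraMap R S) hq))
    (π π' : S →ₐ[R] p.ResidueField) (h : RingHom.ker π.toRingHom = q)
    (h' : RingHom.ker π'.toRingHom = q) : π = π' := by
  let l : (f : S →ₐ[R] p.ResidueField) → RingHom.ker f.toRingHom = q → (q.ResidueField →+* p.ResidueField) :=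
    fun f hf => Ideal.ResidueField.lift q f.toRingHom hf.ge fun x hx =>
      isUnit_iff_ne_zero.2 fun h0 => hx (hf ▸ h0)
  have hl : ∀ f hf, (l f hf).comp (Ideal.ResidueField.map p q (algebraMap R S) hq) = RingHom.id _ :=
    fun f hf => Ideal.ResidueField.ringHom_ext (RingHom.ext fun r => by
      show l f hf (Ideal.ResidueField.map p q (algebraMap R S) hq (algebraMap R _ r)) = algebraMap R _ r
      rw [Ideal.ResidueField.map_algebraMap, Ideal.ResidueField.lift_algebraMap]
      exact f.commutes r)
  have he : l π h = l π' h' := RingHom.ext fun z => by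
    obtain ⟨w, rfl⟩ := hκ.2 z
    exact (RingHom.congr_fun (hl π h) w).trans (RingHom.congr_fun (hl π' h') w).symm
  refine AlgHom.ext fun x => ?_
  have := RingHom.congr_fun he (algebraMap S _ x)
  simpa [l, Ideal.ResidueField.lift_algebraMap] using this

end EtAlgEasy
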