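import Groth.Agent.EtAlgEasy.FibFlatPt
import Groth.Agent.FlatLocus.Main
import Groth.Agent.FlatLocus.Fibrewise
import Groth.Agent.GenFree.Algebra
import Groth.Agent.GenFree.Modules
import Groth.Agent.CMFlatLib.Constructible

/-!
The points at which a finitely presented module is flat along the fibres of a morphism over a base form a
constructible set.
-/

set_option autoImplicit false
set_option linter.style.haveILetI false
set_option backward.isDefEq.respectTransparency false

universe u

open MvPolynomial TensorProduct Topology Groth.Agent.GenFree Groth.Agent.FlatLocus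

namespace Groth.Agent.EtAlgEasy.FibFlat

/-- Localizing along a surjection of rings. -/
noncomputable def localizedEquiv {P B M : Type u} [CommRing P] [CommRing B] [Algebra P B] [AddCommGroup M] [Module B M]
    [Module P M] [IsScalarTower P B M] (h : Function.Surjective (algebraMap P B)) (q : Ideal B) [q.IsPrime] :
    LocalizedModule (q.comap (algebraMap P B)).primeCompl M ≃ₗ[P] LocalizedModule q.primeCompl M :=
  haveI : IsLocalizedModule (q.comap (algebraMap P B)).primeCompl
      ((LocalizedModule.mkLinearMap q.primeCompl M).restrictScalars P) := by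
    have hP : Algebra.algebraMapSubmonoid B (q.comap (algebraMap P B)).primeCompl = q.primeCompl := by
      ext x
      constructor
      · rintro ⟨y, hy, rfl⟩; exact hy
      · intro hx
        obtain ⟨y, rfl⟩ := h x
        exact ⟨y, hx, rfl⟩
    haveI : IsLocalizedModule (Algebra.algebraMapSubmonoid B (q.comap (algebraMap P B)).primeCompl)
        (LocalizedModule.mkLinearMap q.primeCompl M) := by
      rw [hP]; infer_instance
    exact IsLocalizedModule.restrictScalars _ _
  IsLocalizedModule.iso _ ((LocalizedModule.mkLinearMap q.primeCompl M).restrictScalars P)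

theorem isPushout_quot {A O : Type u} [CommRing A] [CommRing O] [Algebra A O] (m : Ideal A) :
    Algebra.IsPushout A (A ⧸ m) O (O ⧸ m.map (algebraMap A O)) where
  out := IsBaseChange.of_equiv (Algebra.TensorProduct.quotIdealMapEquivQuotTensor O m).symm.toLinearEquiv fun x => by
    show (Algebra.TensorProduct.quotIdealMapEquivQuotTensor O m).symm ((1 : A ⧸ m) ⊗ₜ[A] x) = Ideal.Quotient.mk _ x
    rw [AlgEquiv.symm_apply_eq]
    rfl

theorem flat_baseChange_localized_iff {T T₁ B B₁ M M₁ : Type u} [CommRing T] [CommRing T₁] [CommRing B] [CommRing B₁]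
    [Algebra T T₁] [Algebra T B] [Algebra T₁ B₁] [Algebra B B₁] [Algebra T B₁] [IsScalarTower T T₁ B₁]
    [IsScalarTower T B B₁] [Algebra.IsPushout T T₁ B B₁] (hsurj : Function.Surjective (algebraMap B B₁))
    [AddCommGroup M] [Module B M] [Module T M] [IsScalarTower T B M] [AddCommGroup M₁] [Module B₁ M₁] [Module T₁ M₁]
    [IsScalarTower T₁ B₁ M₁] (η : B₁ ⊗[B] M ≃ₗ[B₁] M₁) (q₁ : Ideal B₁) [q₁.IsPrime] :
    Module.Flat T₁ (T₁ ⊗[T] LocalizedModule (q₁.comap (algebraMap B B₁)).primeCompl M) ↔
      Module.Flat T₁ (LocalizedModule q₁.primeCompl M₁) := by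
  let q := q₁.comap (algebraMap B B₁)
  let L := Localization.AtPrime q
  letI : Module B M₁ := Module.compHom M₁ (algebraMap B B₁)
  haveI : IsScalarTower B B₁ M₁ := .of_algebraMap_smul fun _ _ => rfl
  let e₀ : B₁ ⊗[B] LocalizedModule q.primeCompl M ≃ₗ[B] LocalizedModule q₁.primeCompl M₁ :=
    TensorProduct.congr (LinearEquiv.refl B B₁)
        ((IsLocalizedModule.isBaseChange q.primeCompl L (LocalizedModule.mkLinearMap q.primeCompl M)).equiv.symm.restrictScalars B) ≪≫ₗ
      TensorProduct.leftComm B B₁ L M ≪≫ₗ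
      TensorProduct.congr (LinearEquiv.refl B L) (η.restrictScalars B) ≪≫ₗ
      (IsLocalizedModule.isBaseChange q.primeCompl L (LocalizedModule.mkLinearMap q.primeCompl M₁)).equiv.restrictScalars B ≪≫ₗ
      localizedEquiv hsurj q₁
  let e : B₁ ⊗[B] LocalizedModule q.primeCompl M ≃ₗ[B₁] LocalizedModule q₁.primeCompl M₁ :=
    e₀.extendScalarsOfSurjective hsurj
  let E : T₁ ⊗[T] LocalizedModule q.primeCompl M ≃ₗ[T₁] LocalizedModule q₁.primeCompl M₁ :=
    (Algebra.IsPushout.cancelBaseChange T T₁ B B₁ (LocalizedModule q.primeCompl M)).symm ≪≫ₗ e.restrictScalars T₁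
  exact ⟨fun _ => Module.Flat.of_linearEquiv E.symm, fun _ => Module.Flat.of_linearEquiv E⟩

theorem flat_residueField_of_eq_bot {R : Type u} [CommRing R] [IsDomain R] (p : Ideal R) [p.IsPrime] (h : p = ⊥) :
    Module.Flat R p.ResidueField := by
  subst h
  exact IsLocalization.flat _ (nonZeroDivisors R)

attribute [local instance] MvPolynomial.algebraMvPolynomial

variable {A T : Type u} [CommRing A] [CommRing T] [Algebra A T] {a m : ℕ}
  (N : Submodule (MvPolynomial (Fin m) T) (FreeMod T a m))

theorem flat_quot_iff (I : Ideal T) (q₁ : PrimeSpectrum (MvPolynomial (Fin m) (T ⧸ I))) :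
    Module.Flat (T ⧸ I) ((T ⧸ I) ⊗[T] LocalizedModule
        (PrimeSpectrum.comap (MvPolynomial.map (algebraMap T (T ⧸ I))) q₁).asIdeal.primeCompl (FreeMod T a m ⧸ N)) ↔
      q₁ ∈ flatSet (locN (T ⧸ I) N) := by
  obtain ⟨η⟩ := FibreDepth.nonempty_baseChange_quot (A₁ := T) (A := T ⧸ I) N
  exact flat_baseChange_localized_iff (T := T) (T₁ := T ⧸ I)
    (MvPolynomial.map_surjective _ Ideal.Quotient.mk_surjective) η q₁.asIdeal

attribute [local instance] Algebra.TensorProduct.rightAlgebra

theorem fib_of_mem_flatSet (q : PrimeSpectrum (MvPolynomial (Fin m) T)) (h : q ∈ flatSet N) : Fib A N q := by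
  intro k Tk _ _ _ _ _ _ _ _ _ q' hq'
  exact mem_flatSet_locN N q' (hq' ▸ h)

theorem fib_iff_of_flat (q : PrimeSpectrum (MvPolynomial (Fin m) T)) (p : Ideal A) [p.IsPrime]
    [Module.Flat A p.ResidueField]
    (hp : q.asIdeal.comap ((C : T →+* MvPolynomial (Fin m) T).comp (algebraMap A T)) = p) :
    Fib A N q ↔ q ∈ flatSet N := by
  refine ⟨fun h => ?_, fib_of_mem_flatSet N q⟩
  obtain ⟨q', hq'⟩ := exists_point A q p hp
  haveI : Module.Flat T (p.ResidueField ⊗[A] T) :=
    Module.Flat.of_linearEquiv ((Algebra.IsPushout.symm inferInstance :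
      Algebra.IsPushout A T p.ResidueField (p.ResidueField ⊗[A] T)).equiv.toLinearEquiv).symm
  exact hq' ▸ mem_flatSet_of_locN N q' ((fib_iff N q p hp q' hq').1 h)

theorem mem_range_quot {J : Ideal T} (q : PrimeSpectrum (MvPolynomial (Fin m) T))
    (h : ∀ x ∈ J, (C x : MvPolynomial (Fin m) T) ∈ q.asIdeal) :
    ∃ q₁ : PrimeSpectrum (MvPolynomial (Fin m) (T ⧸ J)),
      PrimeSpectrum.comap (MvPolynomial.map (algebraMap T (T ⧸ J))) q₁ = q := by
  obtain ⟨q', hq'⟩ := FibreDepth.mem_range_comap_map (A' := T ⧸ J) q (algebraMap _ q.asIdeal.ResidueField)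
    (Ideal.ker_algebraMap_residueField _)
    (Ideal.Quotient.lift J ((algebraMap (MvPolynomial (Fin m) T) q.asIdeal.ResidueField).comp C)
      fun x hx => Ideal.algebraMap_residueField_eq_zero.2 (h x hx))
    fun x => rfl
  exact ⟨q', hq'⟩

/-- Flatness along the fibres, checked on the quotient by the prime of the base. -/
theorem fib_iff_flat_quot (q : PrimeSpectrum (MvPolynomial (Fin m) T)) :
    Fib A N q ↔ Module.Flat
      (T ⧸ (q.asIdeal.comap ((C : T →+* MvPolynomial (Fin m) T).comp (algebraMap A T))).map (algebraMap A T))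
      ((T ⧸ (q.asIdeal.comap ((C : T →+* MvPolynomial (Fin m) T).comp (algebraMap A T))).map (algebraMap A T)) ⊗[T]
        LocalizedModule q.asIdeal.primeCompl (FreeMod T a m ⧸ N)) := by
  let p := q.asIdeal.comap ((C : T →+* MvPolynomial (Fin m) T).comp (algebraMap A T))
  let I := p.map (algebraMap A T)
  show _ ↔ Module.Flat (T ⧸ I) ((T ⧸ I) ⊗[T] LocalizedModule q.asIdeal.primeCompl (FreeMod T a m ⧸ N))
  obtain ⟨q₁, hq₁⟩ := mem_range_quot (J := I) q fun x hx =>
    (Ideal.map_le_iff_le_comap.2 (fun y hy => hy) : I ≤ q.asIdeal.comap C) hx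
  haveI := isPushout_quot (O := T) p
  have h1 : Fib A N q ↔ Fib (A ⧸ p) (locN (T ⧸ I) N) q₁ := by
    rw [fib_baseChange (A := A) (A' := A ⧸ p) N q₁, hq₁]
  let p₁ := q₁.asIdeal.comap ((C : T ⧸ I →+* MvPolynomial (Fin m) (T ⧸ I)).comp (algebraMap (A ⧸ p) (T ⧸ I)))
  have hp₁ : p₁ = ⊥ := by
    refine eq_bot_iff.2 fun x hx => ?_
    obtain ⟨x, rfl⟩ := Ideal.Quotient.mk_surjective x
    refine (Submodule.mem_bot _).2 (Ideal.Quotient.eq_zero_iff_mem.2 ?_)
    show C (algebraMap A T x) ∈ q.asIdeal
    rw [← hq₁]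
    show MvPolynomial.map (algebraMap T (T ⧸ I)) (C (algebraMap A T x)) ∈ q₁.asIdeal
    rw [map_C]
    exact hx
  haveI : IsDomain (A ⧸ p) := Ideal.Quotient.isDomain p
  haveI : Module.Flat (A ⧸ p) p₁.ResidueField := flat_residueField_of_eq_bot p₁ hp₁
  rw [h1, fib_iff_of_flat _ q₁ p₁ rfl, ← flat_quot_iff N I q₁, hq₁]

/-- The property is constructible over a Noetherian base on an open part of an irreducible closed set. -/
theorem exists_stratum [IsNoetherianRing A] [Algebra.FiniteType A T] (p : Ideal A) [p.IsPrime] :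
    ∃ f ∉ p, IsConstructible ({q | Fib A N q} ∩ {q : PrimeSpectrum (MvPolynomial (Fin m) T) |
      p ≤ q.asIdeal.comap ((C : T →+* MvPolynomial (Fin m) T).comp (algebraMap A T)) ∧
        f ∉ q.asIdeal.comap ((C : T →+* MvPolynomial (Fin m) T).comp (algebraMap A T))}) := by
  let I := p.map (algebraMap A T)
  let R := A ⧸ p
  let T₁ := T ⧸ I
  let B₁ := MvPolynomial (Fin m) T₁
  let N₁ := locN T₁ N
  haveI : IsDomain R := Ideal.Quotient.isDomain p
  haveI := isPushout_quot (O := T) p
  haveI : IsNoetherianRing T := Algebra.FiniteType.isNoetherianRing A T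
  haveI : Algebra.FiniteType A T₁ := Algebra.FiniteType.trans (S := T) inferInstance inferInstance
  haveI : Algebra.FiniteType R T₁ := Algebra.FiniteType.of_restrictScalars_finiteType A R T₁
  haveI : Algebra.FiniteType R B₁ := Algebra.FiniteType.trans (S := T₁) inferInstance inferInstance
  obtain ⟨g, -, hg0, hfree, -⟩ :=
    GenFree.exists_module (R := R) (S := B₁) (M := FreeMod T₁ a m ⧸ N₁) one_ne_zero
  obtain ⟨f, rfl⟩ := Ideal.Quotient.mk_surjective g
  refine ⟨f, fun hf => hg0 (Ideal.Quotient.eq_zero_iff_mem.2 hf), ?_⟩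
  let g : R := Ideal.Quotient.mk p f
  let Φ : MvPolynomial (Fin m) T →+* B₁ := MvPolynomial.map (algebraMap T T₁)
  have hsurj : Function.Surjective Φ := MvPolynomial.map_surjective _ Ideal.Quotient.mk_surjective
  let U : Set (PrimeSpectrum B₁) := {q | C (algebraMap R T₁ g) ∉ q.asIdeal}
  have key : ∀ q ∈ U, (Fib R N₁ q ↔ q ∈ flatSet N₁) := by
    intro q hq
    refine ⟨fun h => ?_, fib_of_mem_flatSet N₁ q⟩
    haveI : Module.FinitePresentation B₁ (FreeMod T₁ a m ⧸ N₁) := Module.finitePresentation_of_finite _ _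
    haveI : Algebra.FinitePresentation T₁ B₁ := inferInstance
    haveI : Module.Flat R (LocalizedModule q.asIdeal.primeCompl (FreeMod T₁ a m ⧸ N₁)) :=
      flat_localized_of_freeAt g hfree q.asIdeal.primeCompl hq (LocalizedModule.mkLinearMap _ _)
    refine flat_fibrewise_fp (R := R) (A := T₁)
      (q.asIdeal.comap ((C : T₁ →+* B₁).comp (algebraMap R T₁))) q.asIdeal ?_ ((fib_iff_flat_quot N₁ q).1 h)
    exact Ideal.map_le_iff_le_comap.2 fun x hx => hx
  haveI : IsNoetherianRing T₁ := inferInstance
  have hopen : IsOpen ({q | q ∈ flatSet N₁} ∩ U) :=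
    (isOpen_flatSet_noeth N₁).inter (PrimeSpectrum.basicOpen (C (algebraMap R T₁ g))).2
  have hc : IsConstructible ({q | q ∈ flatSet N₁} ∩ U) :=
    (IsCompact.isRetrocompact (TopologicalSpace.NoetherianSpace.isCompact _) hopen).isConstructible hopen
  have hfp : Φ.FinitePresentation :=
    RingHom.FinitePresentation.of_surjective Φ hsurj (IsNoetherian.noetherian _)
  convert PrimeSpectrum.isConstructible_comap_image hfp hc using 1
  ext q
  constructor
  · rintro ⟨hE, hpq, hfq⟩
    obtain ⟨Q, hQ⟩ := mem_range_quot (J := I) q fun x hx =>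
      (Ideal.map_le_iff_le_comap.2 (fun y hy => hpq hy) : I ≤ q.asIdeal.comap C) hx
    have hU : Q ∈ U := fun h => hfq (by
      show C (algebraMap A T f) ∈ q.asIdeal
      rw [← hQ]
      show Φ (C (algebraMap A T f)) ∈ Q.asIdeal
      rw [show Φ (C (algebraMap A T f)) = C (algebraMap R T₁ g) from map_C _ _]
      exact h)
    refine ⟨Q, ⟨(key Q hU).1 ((fib_baseChange (A := A) (A' := R) N Q).2 ?_), hU⟩, hQ⟩
    rw [hQ]
    exact hE
  · rintro ⟨Q, ⟨hQ, hU⟩, rfl⟩
    refine ⟨(fib_baseChange (A := A) (A' := R) N Q).1 ((key Q hU).2 hQ), fun x hx => ?_, fun h => hU ?_⟩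
    · show Φ (C (algebraMap A T x)) ∈ Q.asIdeal
      rw [show Φ (C (algebraMap A T x)) = C (algebraMap T T₁ (algebraMap A T x)) from map_C _ _,
        show algebraMap T T₁ (algebraMap A T x) = 0 from
          Ideal.Quotient.eq_zero_iff_mem.2 (Ideal.mem_map_of_mem _ hx), map_zero]
      exact zero_mem _
    · have h' : Φ (C (algebraMap A T f)) ∈ Q.asIdeal := h
      rwa [show Φ (C (algebraMap A T f)) = C (algebraMap R T₁ g) from map_C _ _] at h'

theorem isConstructible_noetherian [IsNoetherianRing A] [Algebra.FiniteType A T] :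
    IsConstructible {q | Fib A N q} := by
  let π : PrimeSpectrum (MvPolynomial (Fin m) T) → Ideal A := fun q =>
    q.asIdeal.comap ((C : T →+* MvPolynomial (Fin m) T).comp (algebraMap A T))
  suffices h : ∀ I : Ideal A, IsConstructible ({q | Fib A N q} ∩ {q | I ≤ π q}) by
    simpa [Set.inter_univ] using h ⊥
  intro I
  induction I using WellFoundedGT.induction with
  | _ I ih =>
    by_cases hI : I.IsPrime
    · haveI := hI
      obtain ⟨f, hf, hc⟩ := exists_stratum N I
      have hlt : I < I ⊔ Ideal.span {f} := lt_of_le_of_ne le_sup_left fun h =>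
        hf (h ▸ Ideal.mem_sup_right (Ideal.mem_span_singleton_self f))
      convert hc.union (ih _ hlt) using 1
      ext q
      simp only [π, Set.mem_inter_iff, Set.mem_union, Set.mem_ofPred_eq, sup_le_iff, Ideal.span_singleton_le_iff_mem]
      tauto
    · have hset : {q | Fib A N q} ∩ {q | I ≤ π q} =
          ⋃ p ∈ I.minimalPrimes, {q | Fib A N q} ∩ {q | p ≤ π q} := by
        ext q
        haveI : (π q).IsPrime := Ideal.comap_isPrime _ _
        simp only [Set.mem_iUnion, Set.mem_inter_iff, Set.mem_ofPred_eq, exists_prop]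
        constructor
        · rintro ⟨hq, hIq⟩
          obtain ⟨p, hp, hpq⟩ := Ideal.exists_minimalPrimes_le hIq
          exact ⟨p, hp, hq, hpq⟩
        · rintro ⟨p, hp, hq, hpq⟩
          exact ⟨hq, hp.1.2.trans hpq⟩
      rw [hset]
      exact IsConstructible.biUnion (Ideal.finite_minimalPrimes_of_isNoetherianRing A I) fun p hp =>
        ih p (lt_of_le_of_ne hp.1.2 fun h => hI (h ▸ hp.1.1))

theorem exists_enlarge {C A T₀ T : Type u} [CommRing C] [IsNoetherianRing C] [CommRing A] [CommRing T₀] [CommRing T]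
    [Algebra C A] [Algebra C T₀] [Algebra.FiniteType C T₀] [Algebra A T] [Algebra C T] [IsScalarTower C A T]
    (e : A ⊗[C] T₀ ≃ₐ[A] T) (s : Finset T) :
    ∃ (A₁ T₁ : Type u) (_ : CommRing A₁) (_ : CommRing T₁) (_ : Algebra A₁ A) (_ : Algebra A₁ T₁)
      (_ : Algebra A₁ T) (_ : Algebra T₁ T) (_ : IsScalarTower A₁ A T) (_ : IsScalarTower A₁ T₁ T),
      IsNoetherianRing A₁ ∧ Algebra.FiniteType A₁ T₁ ∧ Algebra.IsPushout A₁ A T₁ T ∧
        ∀ x ∈ s, x ∈ Set.range (algebraMap T₁ T) := by
  classical
  let ι : T₀ →ₐ[C] T :=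
    (e.toAlgHom.restrictScalars C).comp (Algebra.TensorProduct.includeRight : T₀ →ₐ[C] A ⊗[C] T₀)
  letI : Algebra T₀ T := ι.toRingHom.toAlgebra
  haveI : IsScalarTower C T₀ T := .of_algebraMap_eq fun x => (ι.commutes x).symm
  haveI hpo : Algebra.IsPushout C A T₀ T :=
    Algebra.IsPushout.of_equiv (R := C) (R' := A) (S := T₀) (S' := A ⊗[C] T₀) e rfl
  have hx : ∀ x : T, ∃ c : Finset A, ∀ S : Subalgebra C A, ↑c ⊆ (S : Set A) →
      x ∈ Set.range (Algebra.TensorProduct.productMap ((IsScalarTower.toAlgHom C A T).comp S.val) ι) := by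
    intro x
    obtain ⟨z, rfl⟩ := e.surjective x
    induction z using TensorProduct.induction_on with
    | zero => exact ⟨∅, fun S _ => ⟨0, by simp⟩⟩
    | tmul b t =>
      refine ⟨{b}, fun S hS => ⟨(⟨b, hS (Finset.mem_singleton_self b)⟩ : S) ⊗ₜ t, ?_⟩⟩
      rw [Algebra.TensorProduct.productMap_apply_tmul]
      show algebraMap A T b * e ((1 : A) ⊗ₜ t) = e (b ⊗ₜ t)
      rw [← e.commutes, ← map_mul, Algebra.TensorProduct.algebraMap_apply, Algebra.TensorProduct.tmul_mul_tmul,
        mul_one, one_mul]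
      rfl
    | add z w hz hw =>
      obtain ⟨c, hc⟩ := hz
      obtain ⟨d, hd⟩ := hw
      refine ⟨c ∪ d, fun S hS => ?_⟩
      obtain ⟨u, hu⟩ := hc S (fun y hy => hS (Finset.mem_union_left _ hy))
      obtain ⟨v, hv⟩ := hd S (fun y hy => hS (Finset.mem_union_right _ hy))
      exact ⟨u + v, by rw [map_add, hu, hv, map_add]⟩
  choose c hc using hx
  let S : Subalgebra C A := Algebra.adjoin C ((s.biUnion c : Finset A) : Set A)
  haveI : Algebra.FiniteType C S := (Subalgebra.fg_iff_finiteType S).1 (Subalgebra.fg_adjoin_finset _)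
  haveI : IsNoetherianRing S := Algebra.FiniteType.isNoetherianRing C S
  let T₁ := S ⊗[C] T₀
  let ψ : T₁ →ₐ[C] T := Algebra.TensorProduct.productMap ((IsScalarTower.toAlgHom C A T).comp S.val) ι
  letI : Algebra T₁ T := ψ.toRingHom.toAlgebra
  haveI : IsScalarTower S T₁ T := IsScalarTower.of_algebraMap_eq (R := S) (S := T₁) (A := T) fun x => by
    show algebraMap A T (x : A) = ψ (x ⊗ₜ 1)
    exact (mul_one _).symm.trans ((congrArg _ (map_one ι).symm).trans
      (Algebra.TensorProduct.productMap_apply_tmul ((IsScalarTower.toAlgHom C A T).comp S.val) ι x 1).symm)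
  haveI : IsScalarTower T₀ T₁ T := .of_algebraMap_eq fun x => by
    show ι x = ψ (1 ⊗ₜ x)
    refine Eq.trans ?_ (Algebra.TensorProduct.productMap_apply_tmul _ ι (1 : S) x).symm
    rw [map_one, one_mul]
  refine ⟨S, T₁, inferInstance, inferInstance, inferInstance, inferInstance, inferInstance, inferInstance,
    inferInstance, inferInstance, inferInstance, inferInstance, ?_, fun x hxs => ?_⟩
  · exact (Algebra.IsPushout.comp_iff (R := C) (R' := T₀) (S := S) (S' := T₁) (T := A) (T' := T)).1 hpo
  · exact hc x S (Finset.coe_subset.2 (Finset.subset_biUnion_of_mem c hxs) |>.trans Algebra.subset_adjoin)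

/-- Descent of an algebra and of finitely many elements to a Noetherian base. -/
theorem exists_model (A T : Type u) [CommRing A] [CommRing T] [Algebra A T] [Algebra.FinitePresentation A T]
    (s : Finset T) :
    ∃ (A₁ T₁ : Type u) (_ : CommRing A₁) (_ : CommRing T₁) (_ : Algebra A₁ A) (_ : Algebra A₁ T₁)
      (_ : Algebra A₁ T) (_ : Algebra T₁ T) (_ : IsScalarTower A₁ A T) (_ : IsScalarTower A₁ T₁ T),
      IsNoetherianRing A₁ ∧ Algebra.FiniteType A₁ T₁ ∧ Algebra.IsPushout A₁ A T₁ T ∧
        ∀ x ∈ s, x ∈ Set.range (algebraMap T₁ T) := by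
  let P := Algebra.Presentation.ofFinitePresentation A T
  haveI : IsNoetherianRing P.Core := Algebra.FiniteType.isNoetherianRing ℤ P.Core
  exact exists_enlarge (P.tensorModelOfHasCoeffsEquiv P.Core) s

/-- Constructibility over an arbitrary base. -/
theorem isConstructible_fib [Algebra.FinitePresentation A T] (hN : N.FG) : IsConstructible {q | Fib A N q} := by
  classical
  obtain ⟨G, hG⟩ := hN
  let s : Finset T := G.biUnion fun g => (finite_support g).toFinset.image fun i => co i g
  obtain ⟨A₀, T₀, _, _, _, _, _, _, _, _, hN₀, hft, hpo, hs⟩ := exists_model A T s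
  obtain ⟨N₀, rfl⟩ := exists_locN_eq (R := T) T₀ N G hG fun g hg i => by
    by_cases hi : co i g = 0
    · exact ⟨0, by rw [map_zero, hi]⟩
    · exact hs _ (Finset.mem_biUnion.2 ⟨g, hg, Finset.mem_image_of_mem _ ((finite_support g).mem_toFinset.2 hi)⟩)
  rw [show {q | Fib A (locN T N₀) q} =
      PrimeSpectrum.comap (MvPolynomial.map (algebraMap T₀ T)) ⁻¹' {q | Fib A₀ N₀ q} from
    Set.ext fun q => fib_baseChange N₀ q]
  exact CMFlatLib.isConstructible_comap _ (isConstructible_noetherian N₀)

/-- Flatness of a module over the fibres of `A → T` at a point. -/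
def FlatAt (A T : Type u) [CommRing A] [CommRing T] [Algebra A T] {B : Type u} [CommRing B] [Algebra T B]
    (M : Type u) [AddCommGroup M] [Module B M] [Module T M] [IsScalarTower T B M] (q : PrimeSpectrum B) : Prop :=
  Module.Flat (T ⧸ (q.asIdeal.comap ((algebraMap T B).comp (algebraMap A T))).map (algebraMap A T))
    ((T ⧸ (q.asIdeal.comap ((algebraMap T B).comp (algebraMap A T))).map (algebraMap A T)) ⊗[T]
      LocalizedModule q.asIdeal.primeCompl M)

/-- The points at which a finitely presented module is flat along the fibres form a constructible set. -/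
theorem isConstructible_flatAt (A T : Type u) [CommRing A] [CommRing T] [Algebra A T]
    [Algebra.FinitePresentation A T] {B : Type u} [CommRing B] [Algebra T B] [Algebra.FinitePresentation T B]
    (M : Type u) [AddCommGroup M] [Module B M] [Module T M] [IsScalarTower T B M] [Module.FinitePresentation B M] :
    IsConstructible {q : PrimeSpectrum B | FlatAt A T M q} := by
  obtain ⟨m, π, hπ, hker⟩ := Algebra.FinitePresentation.out (R := T) (A := B)
  let P := MvPolynomial (Fin m) T
  letI : Algebra P B := π.toRingHom.toAlgebra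
  haveI : IsScalarTower T P B := .of_algebraMap_eq fun r => (π.commutes r).symm
  letI : Module P M := Module.compHom M π.toRingHom
  haveI : IsScalarTower P B M := .of_algebraMap_smul fun _ _ => rfl
  haveI : IsScalarTower T P M := .of_algebraMap_smul fun r m => by
    show π (algebraMap T P r) • m = r • m
    rw [π.commutes, algebraMap_smul]
  haveI : Module.FinitePresentation P B :=
    Module.finitePresentation_of_surjective (Algebra.linearMap P B) hπ hker
  haveI : Module.FinitePresentation P M := Module.FinitePresentation.trans (R := P) (S := B) (M := M)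
  obtain ⟨a, K, e, hK⟩ := Module.FinitePresentation.exists_fin P M
  convert CMFlatLib.isConstructible_comap π.toRingHom (isConstructible_fib (A := A) K hK) using 1
  ext q
  let Q := PrimeSpectrum.comap π.toRingHom q
  show FlatAt A T M q ↔ Fib A K Q
  rw [fib_iff_flat_quot K Q]
  have hp : Q.asIdeal.comap ((C : T →+* P).comp (algebraMap A T)) =
      q.asIdeal.comap ((algebraMap T B).comp (algebraMap A T)) := by
    ext r
    show π (C (algebraMap A T r)) ∈ q.asIdeal ↔ algebraMap T B (algebraMap A T r) ∈ q.asIdeal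
    rw [← π.commutes]
    rfl
  let E : LocalizedModule Q.asIdeal.primeCompl (FreeMod T a m ⧸ K) ≃ₗ[T]
      LocalizedModule q.asIdeal.primeCompl M :=
    (IsLocalizedModule.linearEquiv Q.asIdeal.primeCompl (LocalizedModule.mkLinearMap _ _)
      (LocalizedModule.mkLinearMap Q.asIdeal.primeCompl M ∘ₗ e.symm.toLinearMap)).restrictScalars T ≪≫ₗ
      (localizedEquiv hπ q.asIdeal).restrictScalars T
  rw [hp, FlatAt]
  exact ⟨fun _ => Module.Flat.of_linearEquiv (E.baseChange T _ _ _),
    fun _ => Module.Flat.of_linearEquiv (E.symm.baseChange T _ _ _)⟩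

end Groth.Agent.EtAlgEasy.FibFlat
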