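import Groth.Agent.FlatLocus.Descent
import Groth.Agent.FibreDepth.Descent
import Groth.Agent.FibreDepth.Stratify
import Mathlib

/-!
Flatness of presented modules at the points of the fibres over a base: independence of the field and
invariance under change of base.
-/

set_option autoImplicit false
set_option linter.style.haveILetI false
set_option backward.isDefEq.respectTransparency false

universe u

open MvPolynomial TensorProduct Groth.Agent.GenFree Groth.Agent.FlatLocus

namespace Groth.Agent.EtAlgEasy.FibFlat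

attribute [local instance] MvPolynomial.algebraMvPolynomial

theorem flat_of_tensor_faithfullyFlat (R A B M : Type u) [CommRing R] [CommRing A] [CommRing B] [Algebra R A]
    [Algebra A B] [Algebra R B] [IsScalarTower R A B] [AddCommGroup M] [Module A M] [Module R M]
    [IsScalarTower R A M] [Module.FaithfullyFlat A B] [Module.Flat R (B ⊗[A] M)] : Module.Flat R M := by
  rw [Module.Flat.iff_lTensor_injective']
  intro I
  refine (Module.FaithfullyFlat.lTensor_injective_iff_injective A B
    (AlgebraTensorModule.lTensor A M I.subtype)).mp ?_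
  let e : ∀ (P : Type u) [AddCommGroup P] [Module R P], B ⊗[A] M ⊗[R] P ≃ₗ[A] B ⊗[A] (M ⊗[R] P) :=
    fun P _ _ => AlgebraTensorModule.assoc R A A B M P
  have h : (AlgebraTensorModule.lTensor A B (AlgebraTensorModule.lTensor A M I.subtype)) ∘ₗ (e I).toLinearMap =
      (e R).toLinearMap ∘ₗ AlgebraTensorModule.lTensor A (B ⊗[A] M) I.subtype := by
    ext b m i
    simp [e]
  have hi : Function.Injective ((e R).toLinearMap ∘ₗ AlgebraTensorModule.lTensor A (B ⊗[A] M) I.subtype) :=
    (e R).injective.comp (Module.Flat.lTensor_preserves_injective_linearMap _ I.subtype_injective)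
  rw [← h, LinearMap.coe_comp] at hi
  intro x y hxy
  obtain ⟨x', rfl⟩ := (e I).surjective x
  obtain ⟨y', rfl⟩ := (e I).surjective y
  exact congrArg _ (hi hxy)

variable {T T' : Type u} [CommRing T] [CommRing T'] [Algebra T T'] {a m : ℕ}

theorem mem_flatSet_locN (N : Submodule (MvPolynomial (Fin m) T) (FreeMod T a m))
    (q : PrimeSpectrum (MvPolynomial (Fin m) T'))
    (hq : PrimeSpectrum.comap (MvPolynomial.map (algebraMap T T')) q ∈ flatSet N) :
    q ∈ flatSet (locN T' N) :=
  mem_flatSet_of_comap T N q hq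

/-- Flatness of a localization descends along flat base change. -/
theorem flat_localized_descent {T T' B B' : Type u} [CommRing T] [CommRing T'] [CommRing B] [CommRing B']
    [Algebra T T'] [Algebra B B'] [Algebra T B] [Algebra T' B'] [Algebra T B'] [IsScalarTower T T' B']
    [IsScalarTower T B B'] [Module.Flat T T'] [Module.Flat B B'] (M : Type u) [AddCommGroup M] [Module B M]
    [Module T M] [IsScalarTower T B M] (M' : Type u) [AddCommGroup M'] [Module B' M'] [Module T' M']
    [IsScalarTower T' B' M'] (η : B' ⊗[B] M ≃ₗ[B'] M') (q : Ideal B') [q.IsPrime]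
    (h : Module.Flat T' (LocalizedModule q.primeCompl M')) :
    Module.Flat T (LocalizedModule (q.comap (algebraMap B B')).primeCompl M) := by
  let q₀ : Ideal B := q.comap (algebraMap B B')
  let L₀ := Localization.AtPrime q₀
  let L := Localization.AtPrime q
  letI : Algebra L₀ L := (Localization.localRingHom q₀ q (algebraMap B B') rfl).toAlgebra
  haveI : IsScalarTower B L₀ L := .of_algebraMap_eq fun r => by
    rw [RingHom.algebraMap_toAlgebra, Localization.localRingHom_to_map]
    rfl
  haveI : IsLocalHom (algebraMap L₀ L) := by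
    rw [RingHom.algebraMap_toAlgebra]; infer_instance
  haveI : Module.Flat L₀ L := RingHom.Flat.localRingHom
    (RingHom.flat_algebraMap_iff.2 ‹Module.Flat B B'›) q q₀ rfl
  haveI : Module.FaithfullyFlat L₀ L := Module.FaithfullyFlat.of_flat_of_isLocalHom
  haveI : IsScalarTower T L₀ L := .of_algebraMap_eq fun t => by
    rw [IsScalarTower.algebraMap_apply T B L₀, ← IsScalarTower.algebraMap_apply B L₀ L,
      ← IsScalarTower.algebraMap_apply T B L]
  letI : Module T (LocalizedModule q.primeCompl M') := Module.compHom _ (algebraMap T T')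
  haveI : IsScalarTower T T' (LocalizedModule q.primeCompl M') := .of_algebraMap_smul fun _ _ => rfl
  haveI : IsScalarTower T L (LocalizedModule q.primeCompl M') := .of_algebraMap_smul fun t x => by
    show algebraMap T L t • x = algebraMap T T' t • x
    rw [IsScalarTower.algebraMap_apply T T' L, algebraMap_smul]
  let e : LocalizedModule q.primeCompl M' ≃ₗ[L] L ⊗[L₀] LocalizedModule q₀.primeCompl M :=
    (IsLocalizedModule.isBaseChange q.primeCompl L (LocalizedModule.mkLinearMap q.primeCompl M')).equiv.symm ≪≫ₗ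
      AlgebraTensorModule.congr (LinearEquiv.refl L L) η.symm ≪≫ₗ
        AlgebraTensorModule.cancelBaseChange B B' L L M ≪≫ₗ
          (AlgebraTensorModule.cancelBaseChange B L₀ L L M).symm ≪≫ₗ
            AlgebraTensorModule.congr (LinearEquiv.refl L L)
              (IsLocalizedModule.isBaseChange q₀.primeCompl L₀ (LocalizedModule.mkLinearMap q₀.primeCompl M)).equiv
  haveI := h
  haveI : Module.Flat T (LocalizedModule q.primeCompl M') := Module.Flat.trans T T' _
  haveI : Module.Flat T (L ⊗[L₀] LocalizedModule q₀.primeCompl M) :=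
    Module.Flat.of_linearEquiv (e.symm.restrictScalars T)
  exact flat_of_tensor_faithfullyFlat T L₀ L (LocalizedModule q₀.primeCompl M)

theorem flat_mvPolynomial [Module.Flat T T'] :
    Module.Flat (MvPolynomial (Fin m) T) (MvPolynomial (Fin m) T') :=
  Module.Flat.of_linearEquiv
    ((Algebra.IsPushout.symm inferInstance :
      Algebra.IsPushout T (MvPolynomial (Fin m) T) T' (MvPolynomial (Fin m) T')).equiv.toLinearEquiv).symm

/-- Flatness at a point descends along a flat change of coefficients. -/
theorem mem_flatSet_of_locN [Module.Flat T T'] (N : Submodule (MvPolynomial (Fin m) T) (FreeMod T a m))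
    (q : PrimeSpectrum (MvPolynomial (Fin m) T')) (hq : q ∈ flatSet (locN T' N)) :
    PrimeSpectrum.comap (MvPolynomial.map (algebraMap T T')) q ∈ flatSet N := by
  obtain ⟨η⟩ := FibreDepth.nonempty_baseChange_quot (A₁ := T) (A := T') N
  haveI := flat_mvPolynomial (T := T) (T' := T') (m := m)
  exact flat_localized_descent (T := T) (T' := T') (FreeMod T a m ⧸ N) (FreeMod T' a m ⧸ locN T' N) η q.asIdeal hq

/-- Flatness of a presented module at the points of the fibres over `A`. -/
def Fib (A : Type u) [CommRing A] [Algebra A T] (N : Submodule (MvPolynomial (Fin m) T) (FreeMod T a m))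
    (q : PrimeSpectrum (MvPolynomial (Fin m) T)) : Prop :=
  ∀ (k Tk : Type u) [Field k] [CommRing Tk] [Algebra A k] [Algebra A Tk] [Algebra k Tk] [Algebra T Tk]
    [IsScalarTower A k Tk] [IsScalarTower A T Tk] [Algebra.IsPushout A k T Tk]
    (q' : PrimeSpectrum (MvPolynomial (Fin m) Tk)),
    PrimeSpectrum.comap (MvPolynomial.map (algebraMap T Tk)) q' = q → q' ∈ flatSet (locN Tk N)

attribute [local instance] Algebra.TensorProduct.rightAlgebra

/-- The point of the fibre above a given point. -/
theorem exists_point (A : Type u) [CommRing A] [Algebra A T] (q : PrimeSpectrum (MvPolynomial (Fin m) T))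
    (p : Ideal A) [p.IsPrime] (hp : q.asIdeal.comap ((C : T →+* MvPolynomial (Fin m) T).comp (algebraMap A T)) = p) :
    ∃ q' : PrimeSpectrum (MvPolynomial (Fin m) (p.ResidueField ⊗[A] T)),
      PrimeSpectrum.comap (MvPolynomial.map (algebraMap T (p.ResidueField ⊗[A] T))) q' = q := by
  let L := q.asIdeal.ResidueField
  let χ : MvPolynomial (Fin m) T →+* L := algebraMap _ _
  let θ : p.ResidueField →ₐ[A] L :=
    Ideal.ResidueField.mapₐ p q.asIdeal (Algebra.ofId A (MvPolynomial (Fin m) T)) hp.symm
  let Φ : p.ResidueField ⊗[A] T →ₐ[A] L :=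
    Algebra.TensorProduct.productMap θ (IsScalarTower.toAlgHom A T L)
  obtain ⟨q', hq'⟩ := FibreDepth.mem_range_comap_map (A' := p.ResidueField ⊗[A] T) q χ
    (Ideal.ker_algebraMap_residueField _) Φ.toRingHom fun x => by
      show Φ ((1 : p.ResidueField) ⊗ₜ x) = χ (C x)
      rw [Algebra.TensorProduct.productMap_apply_tmul, map_one, one_mul]
      exact IsScalarTower.algebraMap_apply T (MvPolynomial (Fin m) T) L x
  exact ⟨q', hq'⟩

theorem comap_base {A : Type u} [CommRing A] [Algebra A T] {k Tk : Type u} [Field k] [CommRing Tk] [Algebra A k]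
    [Algebra A Tk] [Algebra k Tk] [Algebra T Tk] [IsScalarTower A k Tk] [IsScalarTower A T Tk]
    (q' : PrimeSpectrum (MvPolynomial (Fin m) Tk)) (q : PrimeSpectrum (MvPolynomial (Fin m) T))
    (hq : PrimeSpectrum.comap (MvPolynomial.map (algebraMap T Tk)) q' = q) (x : A) :
    algebraMap A k x = 0 ↔ x ∈ q.asIdeal.comap ((C : T →+* MvPolynomial (Fin m) T).comp (algebraMap A T)) := by
  subst hq
  show _ ↔ MvPolynomial.map (algebraMap T Tk) (C (algebraMap A T x)) ∈ q'.asIdeal
  rw [map_C, ← IsScalarTower.algebraMap_apply, IsScalarTower.algebraMap_apply A k Tk]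
  refine ⟨fun h => by rw [h, map_zero, map_zero]; exact zero_mem _, fun h => ?_⟩
  by_contra h'
  exact q'.isPrime.ne_top (Ideal.eq_top_of_isUnit_mem _ h (((Ne.isUnit h').map (algebraMap k Tk)).map C))

variable {A : Type u} [CommRing A] [Algebra A T]

/-- Any two points above the same point are related by flat changes of coefficients. -/
theorem exists_flat_hom {k Tk : Type u} [Field k] [CommRing Tk] [Algebra A k]
    [Algebra A Tk] [Algebra k Tk] [Algebra T Tk] [IsScalarTower A k Tk] [IsScalarTower A T Tk]
    [Algebra.IsPushout A k T Tk] (q' : PrimeSpectrum (MvPolynomial (Fin m) Tk))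
    (q : PrimeSpectrum (MvPolynomial (Fin m) T))
    (hq : PrimeSpectrum.comap (MvPolynomial.map (algebraMap T Tk)) q' = q)
    (p : Ideal A) [p.IsPrime] (hp : q.asIdeal.comap ((C : T →+* MvPolynomial (Fin m) T).comp (algebraMap A T)) = p) :
    ∃ (_ : Algebra (p.ResidueField ⊗[A] T) Tk) (_ : IsScalarTower T (p.ResidueField ⊗[A] T) Tk),
      Module.Flat (p.ResidueField ⊗[A] T) Tk := by
  have h0 : ∀ x, algebraMap A k x = 0 ↔ x ∈ p := fun x => hp ▸ comap_base q' q hq x
  let ι : p.ResidueField →ₐ[A] k := Ideal.ResidueField.liftₐ p (Algebra.ofId A k) (fun x hx => (h0 x).2 hx)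
    fun x hx => Ne.isUnit fun h => hx ((h0 x).1 h)
  letI : Algebra p.ResidueField k := ι.toRingHom.toAlgebra
  haveI : IsScalarTower A p.ResidueField k := .of_algebraMap_eq fun x => (ι.commutes x).symm
  letI : Algebra p.ResidueField Tk := ((algebraMap k Tk).comp ι.toRingHom).toAlgebra
  haveI : IsScalarTower p.ResidueField k Tk := .of_algebraMap_eq fun _ => rfl
  haveI : IsScalarTower A p.ResidueField Tk := .of_algebraMap_eq fun x => by
    rw [IsScalarTower.algebraMap_apply p.ResidueField k Tk, ← IsScalarTower.algebraMap_apply A p.ResidueField k,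
      ← IsScalarTower.algebraMap_apply]
  let Φ : p.ResidueField ⊗[A] T →ₐ[A] Tk :=
    Algebra.TensorProduct.productMap (IsScalarTower.toAlgHom A p.ResidueField Tk) (IsScalarTower.toAlgHom A T Tk)
  letI : Algebra (p.ResidueField ⊗[A] T) Tk := Φ.toRingHom.toAlgebra
  haveI h1 : IsScalarTower T (p.ResidueField ⊗[A] T) Tk := .of_algebraMap_eq fun x => by
    show _ = Φ ((1 : p.ResidueField) ⊗ₜ x)
    simp [Φ]
  haveI : IsScalarTower p.ResidueField (p.ResidueField ⊗[A] T) Tk := .of_algebraMap_eq fun x => by
    show _ = Φ (x ⊗ₜ (1 : T))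
    simp [Φ]
  haveI : Algebra.IsPushout p.ResidueField k (p.ResidueField ⊗[A] T) Tk :=
    (Algebra.IsPushout.comp_iff (R := A) (R' := T) (S := p.ResidueField) (S' := p.ResidueField ⊗[A] T)
      (T := k) (T' := Tk)).1 ‹Algebra.IsPushout A k T Tk›
  refine ⟨inferInstance, h1, ?_⟩
  haveI : Algebra.IsPushout p.ResidueField (p.ResidueField ⊗[A] T) k Tk := .symm inferInstance
  exact Module.Flat.of_linearEquiv
    (Algebra.IsPushout.equiv p.ResidueField (p.ResidueField ⊗[A] T) k Tk).toLinearEquiv.symm

theorem map_comp {T'' : Type u} [CommRing T''] [Algebra T T''] [Algebra T' T''] [IsScalarTower T T' T'']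
    (q : PrimeSpectrum (MvPolynomial (Fin m) T'')) :
    PrimeSpectrum.comap (MvPolynomial.map (algebraMap T T'))
        (PrimeSpectrum.comap (MvPolynomial.map (algebraMap T' T'')) q) =
      PrimeSpectrum.comap (MvPolynomial.map (algebraMap T T'')) q := by
  refine PrimeSpectrum.ext (Ideal.ext fun x => ?_)
  show MvPolynomial.map (algebraMap T' T'') (MvPolynomial.map (algebraMap T T') x) ∈ q.asIdeal ↔ _
  rw [MvPolynomial.map_map, ← IsScalarTower.algebraMap_eq]
  rfl

theorem comap_map_injective (p : Ideal A) [p.IsPrime] :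
    Function.Injective (PrimeSpectrum.comap (MvPolynomial.map (algebraMap T (p.ResidueField ⊗[A] T)) :
      MvPolynomial (Fin m) T →+* _)) := by
  let φ : MvPolynomial (Fin m) T →+* MvPolynomial (Fin m) (p.ResidueField ⊗[A] T) :=
    MvPolynomial.map (algebraMap T (p.ResidueField ⊗[A] T))
  let u : A →+* MvPolynomial (Fin m) (p.ResidueField ⊗[A] T) := φ.comp (C.comp (algebraMap A T))
  have hu : ∀ s ∉ p, IsUnit (u s) := fun s hs => by
    show IsUnit (φ (C (algebraMap A T s)))
    rw [map_C, ← IsScalarTower.algebraMap_apply A T, IsScalarTower.algebraMap_apply A p.ResidueField]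
    exact ((Ne.isUnit fun h => hs (Ideal.algebraMap_residueField_eq_zero.1 h)).map _).map C
  have key : ∀ y, ∃ s ∉ p, ∃ b, φ b = u s * y := by
    intro y
    induction y using MvPolynomial.induction_on with
    | C c =>
      induction c using TensorProduct.induction_on with
      | zero => exact ⟨1, p.one_notMem, 0, by simp⟩
      | tmul x t =>
        obtain ⟨r, s, hs, rfl⟩ := IsFractionRing.div_surjective (A ⧸ p) x
        obtain ⟨r, rfl⟩ := Ideal.Quotient.mk_surjective r
        obtain ⟨s, rfl⟩ := Ideal.Quotient.mk_surjective s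
        have hs' : s ∉ p := fun h => nonZeroDivisors.ne_zero hs (Ideal.Quotient.eq_zero_iff_mem.2 h)
        refine ⟨s, hs', C (algebraMap A T r * t), ?_⟩
        show φ _ = φ (C (algebraMap A T s)) * _
        rw [map_C, map_C, ← C_mul, map_mul, ← IsScalarTower.algebraMap_apply A T,
          ← IsScalarTower.algebraMap_apply A T]
        congr 1
        show ((algebraMap A p.ResidueField r) ⊗ₜ[A] (1 : T)) * ((1 : p.ResidueField) ⊗ₜ t) =
          ((algebraMap A p.ResidueField s) ⊗ₜ[A] (1 : T)) * (_ ⊗ₜ t)
        rw [Algebra.TensorProduct.tmul_mul_tmul, Algebra.TensorProduct.tmul_mul_tmul, one_mul, mul_one,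
          Ideal.algebraMap_quotient_residueField_mk, Ideal.algebraMap_quotient_residueField_mk,
          mul_div_cancel₀ _ fun h => hs' (Ideal.algebraMap_residueField_eq_zero.1 h)]
      | add x y hx hy =>
        obtain ⟨s, hs, b, hb⟩ := hx
        obtain ⟨s', hs', b', hb'⟩ := hy
        refine ⟨s * s', p.primeCompl.mul_mem hs hs', C (algebraMap A T s') * b + C (algebraMap A T s) * b', ?_⟩
        rw [map_add, map_mul, map_mul, hb, hb', map_mul, C_add]
        show u s' * _ + u s * _ = _
        ring
    | add x y hx hy =>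
        obtain ⟨s, hs, b, hb⟩ := hx
        obtain ⟨s', hs', b', hb'⟩ := hy
        refine ⟨s * s', p.primeCompl.mul_mem hs hs', C (algebraMap A T s') * b + C (algebraMap A T s) * b', ?_⟩
        rw [map_add, map_mul, map_mul, hb, hb', map_mul]
        show u s' * _ + u s * _ = _
        ring
    | mul_X x i hx =>
      obtain ⟨s, hs, b, hb⟩ := hx
      refine ⟨s, hs, b * X i, ?_⟩
      rw [map_mul, hb, show φ (X i) = X i from map_X _ _]
      ring
  intro q₁ q₂ h
  refine PrimeSpectrum.ext (Ideal.ext fun y => ?_)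
  obtain ⟨s, hs, b, hb⟩ := key y
  have hb' : φ b ∈ q₁.asIdeal ↔ φ b ∈ q₂.asIdeal := SetLike.ext_iff.1 (congrArg PrimeSpectrum.asIdeal h) b
  rwa [hb, Ideal.unit_mul_mem_iff_mem _ (hu s hs), Ideal.unit_mul_mem_iff_mem _ (hu s hs)] at hb'

/-- The property can be checked at the canonical point of the fibre. -/
theorem fib_iff (N : Submodule (MvPolynomial (Fin m) T) (FreeMod T a m)) (q : PrimeSpectrum (MvPolynomial (Fin m) T))
    (p : Ideal A) [p.IsPrime] (hp : q.asIdeal.comap ((C : T →+* MvPolynomial (Fin m) T).comp (algebraMap A T)) = p)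
    (q' : PrimeSpectrum (MvPolynomial (Fin m) (p.ResidueField ⊗[A] T)))
    (hq' : PrimeSpectrum.comap (MvPolynomial.map (algebraMap T (p.ResidueField ⊗[A] T))) q' = q) :
    Fib A N q ↔ q' ∈ flatSet (locN (p.ResidueField ⊗[A] T) N) := by
  refine ⟨fun h => h p.ResidueField _ q' hq', fun h k Tk _ _ _ _ _ _ _ _ _ q'' hq'' => ?_⟩
  obtain ⟨_, _, -⟩ := exists_flat_hom (A := A) (k := k) q'' q hq'' p hp
  rw [← locN_locN (p.ResidueField ⊗[A] T) N]
  refine mem_flatSet_locN _ q'' ?_
  have e : PrimeSpectrum.comap (MvPolynomial.map (algebraMap (p.ResidueField ⊗[A] T) Tk)) q'' = q' :=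
    comap_map_injective p ((map_comp q'').trans (hq''.trans hq'.symm))
  rwa [e]

/-- Invariance under change of base. -/
theorem fib_baseChange {A' : Type u} [CommRing A'] [Algebra A A'] [Algebra A' T'] [Algebra A T']
    [IsScalarTower A A' T'] [IsScalarTower A T T'] [Algebra.IsPushout A A' T T']
    (N : Submodule (MvPolynomial (Fin m) T) (FreeMod T a m)) (q : PrimeSpectrum (MvPolynomial (Fin m) T')) :
    Fib A' (locN T' N) q ↔ Fib A N (PrimeSpectrum.comap (MvPolynomial.map (algebraMap T T')) q) := by
  constructor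
  · intro h
    let q₀ := PrimeSpectrum.comap (MvPolynomial.map (algebraMap T T')) q
    let p₀ := q₀.asIdeal.comap ((C : T →+* MvPolynomial (Fin m) T).comp (algebraMap A T))
    let p := q.asIdeal.comap ((C : T' →+* MvPolynomial (Fin m) T').comp (algebraMap A' T'))
    obtain ⟨q', hq'⟩ := exists_point A' q p rfl
    obtain ⟨q₀', hq₀'⟩ := exists_point A q₀ p₀ rfl
    rw [fib_iff N q₀ p₀ rfl q₀' hq₀']
    let κ := p.ResidueField
    let Tκ := κ ⊗[A'] T'
    letI : Algebra T Tκ := ((algebraMap T' Tκ).comp (algebraMap T T')).toAlgebra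
    haveI : IsScalarTower T T' Tκ := .of_algebraMap_eq fun _ => rfl
    haveI : IsScalarTower A A' Tκ := inferInstance
    haveI : IsScalarTower A T' Tκ := .of_algebraMap_eq fun x => by
      rw [IsScalarTower.algebraMap_apply A A' Tκ, IsScalarTower.algebraMap_apply A' T' Tκ,
        ← IsScalarTower.algebraMap_apply A A' T']
    haveI : IsScalarTower A T Tκ := .of_algebraMap_eq fun x => by
      rw [IsScalarTower.algebraMap_apply A A' Tκ, IsScalarTower.algebraMap_apply A' T' Tκ,
        IsScalarTower.algebraMap_apply T T' Tκ, ← IsScalarTower.algebraMap_apply A A' T',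
        ← IsScalarTower.algebraMap_apply A T T']
    haveI : Algebra.IsPushout A κ T Tκ :=
      (Algebra.IsPushout.comp_iff (R := A) (R' := T) (S := A') (S' := T') (T := κ) (T' := Tκ)).2 inferInstance
    have hq'' : PrimeSpectrum.comap (MvPolynomial.map (algebraMap T Tκ)) q' = q₀ := by
      rw [← map_comp (T' := T') q', hq']
    have hf := h κ Tκ q' hq'
    rw [locN_locN] at hf
    obtain ⟨_, _, _⟩ := exists_flat_hom (A := A) (k := κ) q' q₀ hq'' p₀ rfl
    rw [← locN_locN (p₀.ResidueField ⊗[A] T) N] at hf
    have e : PrimeSpectrum.comap (MvPolynomial.map (algebraMap (p₀.ResidueField ⊗[A] T) Tκ)) q' = q₀' :=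
      comap_map_injective p₀ ((map_comp q').trans (hq''.trans hq₀'.symm))
    exact e ▸ mem_flatSet_of_locN _ q' hf
  · intro h k Tk _ _ _ _ _ _ _ _ _ q' hq'
    letI : Algebra A k := ((algebraMap A' k).comp (algebraMap A A')).toAlgebra
    haveI : IsScalarTower A A' k := .of_algebraMap_eq fun _ => rfl
    letI : Algebra A Tk := ((algebraMap A' Tk).comp (algebraMap A A')).toAlgebra
    haveI : IsScalarTower A A' Tk := .of_algebraMap_eq fun _ => rfl
    letI : Algebra T Tk := ((algebraMap T' Tk).comp (algebraMap T T')).toAlgebra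
    haveI : IsScalarTower T T' Tk := .of_algebraMap_eq fun _ => rfl
    haveI : IsScalarTower A k Tk := .of_algebraMap_eq fun x => IsScalarTower.algebraMap_apply A' k Tk _
    haveI : IsScalarTower A T' Tk := .of_algebraMap_eq fun x => by
      rw [IsScalarTower.algebraMap_apply A A' Tk, IsScalarTower.algebraMap_apply A' T' Tk,
        ← IsScalarTower.algebraMap_apply A A' T']
    haveI : IsScalarTower A T Tk := .of_algebraMap_eq fun x => by
      rw [IsScalarTower.algebraMap_apply A A' Tk, IsScalarTower.algebraMap_apply A' T' Tk,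
        IsScalarTower.algebraMap_apply T T' Tk, ← IsScalarTower.algebraMap_apply A A' T',
        ← IsScalarTower.algebraMap_apply A T T']
    haveI : Algebra.IsPushout A k T Tk :=
      (Algebra.IsPushout.comp_iff (R := A) (R' := T) (S := A') (S' := T') (T := k) (T' := Tk)).2 inferInstance
    rw [locN_locN]
    exact h k Tk q' (by rw [← map_comp (T' := T') q', hq'])

end Groth.Agent.EtAlgEasy.FibFlat
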