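import Groth.Agent.EtAlgEasy.RelClosureSch
import Groth.Agent.FibreMapConstr.Inj
import Groth.Agent.GeomRk.SmConstr
import Groth.Agent.MonoFibre.Kernel
import Groth.Agent.S4997

/-!
Fibrewise dominant, separated morphisms and monomorphisms.
-/

set_option autoImplicit false
set_option backward.isDefEq.respectTransparency false
set_option linter.style.haveILetI false

universe u

open CategoryTheory CategoryTheory.Limits AlgebraicGeometry TopologicalSpace Topology

noncomputable section

namespace Groth.Agent.EtAlgEasy.FibreMorph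

open FibreMapConstr

theorem range_of_isPullback {P A B T : Scheme.{u}} {a : P ⟶ A} {b : P ⟶ B} {f : A ⟶ T} {g : B ⟶ T}
    (h : IsPullback a b f g) : Set.range a = f ⁻¹' Set.range g := by
  rw [← h.isoPullback_hom_fst]
  refine Eq.trans ?_ (Scheme.Pullback.range_fst f g)
  rw [Scheme.Hom.comp_base, TopCat.coe_comp, Set.range_comp]
  rw [(Set.range_eq_univ.2 h.isoPullback.hom.homeomorph.surjective : Set.range h.isoPullback.hom = Set.univ),
    Set.image_univ]

variable {X Y S : Scheme.{u}} (f : X ⟶ Y) (g : Y ⟶ S) (s : S)

theorem isPullback_fib : IsPullback (pullback.fst (f ≫ g) (S.fromSpecResidueField s)) (fib f g s) f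
    (pullback.fst g (S.fromSpecResidueField s)) :=
  IsPullback.of_bot (by rw [pullback.lift_snd]; exact IsPullback.of_hasPullback (f ≫ g) (S.fromSpecResidueField s))
    (pullback.lift_fst _ _ _).symm (IsPullback.of_hasPullback g (S.fromSpecResidueField s))

theorem isDominant_fib_iff :
    IsDominant (fib f g s) ↔ Set.univ ∩ g ⁻¹' {s} ⊆ closure (Set.range f ∩ g ⁻¹' {s}) := by
  let ι := pullback.fst g (S.fromSpecResidueField s)
  have him : ι '' Set.range (fib f g s) = Set.range f ∩ g ⁻¹' {s} := by
    rw [← range_fst s g]
    ext y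
    constructor
    · rintro ⟨_, ⟨x', rfl⟩, rfl⟩
      exact ⟨⟨_, (fib_fst f g s x').symm⟩, ⟨_, rfl⟩⟩
    · rintro ⟨⟨x, hx⟩, ⟨y', rfl⟩⟩
      obtain ⟨x', hx', -⟩ := (fib_preimage f g s y').ge (show x ∈ f ⁻¹' {_} from hx)
      exact ⟨y', ⟨x', hx'⟩, rfl⟩
  rw [isDominant_iff]
  unfold DenseRange
  rw [dense_iff_closure_eq, ι.isEmbedding.closure_eq_preimage_closure_image, him, Set.univ_inter,
    Set.preimage_eq_univ_iff, range_fst s g]

theorem isLocallyConstructible_isDominant [LocallyOfFinitePresentation g] [QuasiCompact g] [QuasiSeparated g]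
    [LocallyOfFinitePresentation (f ≫ g)] [QuasiCompact (f ≫ g)] :
    IsLocallyConstructible {s : S | IsDominant (fib f g s)} := by
  haveI : LocallyOfFinitePresentation f := FlatLocus.locallyOfFinitePresentation_of_comp f g
  haveI : QuasiCompact f := QuasiCompact.of_comp f g
  have hc : IsLocallyConstructible (Set.range f) := by
    rw [← Set.image_univ]
    exact f.isLocallyConstructible_image IsLocallyConstructible.univ
  simp_rw [isDominant_fib_iff, RelClosureSch.dense_iff g hc Set.univ]
  exact RelClosureSch.isLocallyConstructible_subset g IsLocallyConstructible.univ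
    (RelClosureSch.isLocallyConstructible_relCl g hc)

/-- The square of self-products of a fibre map and the map. -/
theorem exists_selfProd :
    ∃ ψ : pullback (fib f g s) (fib f g s) ⟶ pullback f f,
      IsPullback ψ (pullback.snd (fib f g s) (fib f g s)) (pullback.snd f f)
        (pullback.fst (f ≫ g) (S.fromSpecResidueField s)) ∧
      pullback.diagonal (fib f g s) ≫ ψ = pullback.fst (f ≫ g) (S.fromSpecResidueField s) ≫ pullback.diagonal f := by
  let F := fib f g s
  let a := pullback.fst (f ≫ g) (S.fromSpecResidueField s)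
  have h1 : IsPullback (pullback.fst F F ≫ a) (pullback.snd F F) f (F ≫ pullback.fst g (S.fromSpecResidueField s)) :=
    (IsPullback.of_hasPullback F F).paste_horiz (isPullback_fib f g s)
  have hF : F ≫ pullback.fst g (S.fromSpecResidueField s) = a ≫ f := pullback.lift_fst _ _ _
  rw [hF] at h1
  let ψ := pullback.lift (pullback.fst F F ≫ a) (pullback.snd F F ≫ a) (f := f) (g := f)
    (by rw [Category.assoc, Category.assoc, ← hF, pullback.condition_assoc])
  refine ⟨ψ, IsPullback.of_right (by rw [pullback.lift_fst]; exact h1) (pullback.lift_snd _ _ _)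
    (IsPullback.of_hasPullback f f), ?_⟩
  apply pullback.hom_ext
  · rw [Category.assoc, pullback.lift_fst, pullback.diagonal_fst_assoc, Category.assoc, pullback.diagonal_fst,
      Category.comp_id]
  · rw [Category.assoc, pullback.lift_snd, pullback.diagonal_snd_assoc, Category.assoc, pullback.diagonal_snd,
      Category.comp_id]

theorem isSeparated_fib_iff :
    IsSeparated (fib f g s) ↔
      IsClosed (Subtype.val ⁻¹' Set.range (pullback.diagonal f) : Set ↥((pullback.snd f f ≫ f ≫ g) ⁻¹' {s})) := by
  obtain ⟨ψ, hψ, hd⟩ := exists_selfProd f g s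
  haveI : IsPreimmersion ψ := MorphismProperty.of_isPullback hψ.flip inferInstance
  have hr : Set.range ψ = (pullback.snd f f ≫ f ≫ g) ⁻¹' {s} := by
    rw [range_of_isPullback hψ, range_fst s (f ≫ g)]
    rfl
  have hdiag : ψ ⁻¹' Set.range (pullback.diagonal f) = Set.range (pullback.diagonal (fib f g s)) := by
    ext z
    constructor
    · rintro ⟨x, hx⟩
      have hxs : x ∈ (f ≫ g) ⁻¹' {s} := by
        have := hr.le ⟨z, rfl⟩
        rw [← hx, Set.mem_preimage, ← Scheme.Hom.comp_apply, pullback.diagonal_snd_assoc] at this
        exact this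
      obtain ⟨x', rfl⟩ : x ∈ Set.range (pullback.fst (f ≫ g) (S.fromSpecResidueField s)) := (range_fst s (f ≫ g)).ge hxs
      refine ⟨x', ψ.isEmbedding.injective ?_⟩
      rw [← hx, ← Scheme.Hom.comp_apply, hd, Scheme.Hom.comp_apply]
    · rintro ⟨x', rfl⟩
      rw [Set.mem_preimage, ← Scheme.Hom.comp_apply, hd, Scheme.Hom.comp_apply]
      exact ⟨_, rfl⟩
  refine Iff.trans ⟨fun h => h.isClosedImmersion_diagonal, fun h => ⟨h⟩⟩ ?_
  rw [IsClosedImmersion.iff_isPreimmersion, and_iff_right (inferInstance : IsPreimmersion (pullback.diagonal (fib f g s))), ← hdiag,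
    ψ.isEmbedding.isInducing.isClosed_iff, IsInducing.subtypeVal.isClosed_iff]
  refine exists_congr fun t => and_congr_right fun _ => ?_
  rw [Subtype.preimage_coe_eq_preimage_coe_iff, ← hr]
  constructor
  · intro h
    ext y
    constructor
    · rintro ⟨⟨z, rfl⟩, hz⟩
      exact ⟨⟨z, rfl⟩, (Set.ext_iff.1 h z).1 hz⟩
    · rintro ⟨⟨z, rfl⟩, hz⟩
      exact ⟨⟨z, rfl⟩, (Set.ext_iff.1 h z).2 hz⟩
  · intro h
    ext z
    exact ⟨fun hz => ((Set.ext_iff.1 h (ψ z)).1 ⟨⟨z, rfl⟩, hz⟩).2, fun hz => ((Set.ext_iff.1 h (ψ z)).2 ⟨⟨z, rfl⟩, hz⟩).2⟩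

theorem isLocallyConstructible_isSeparated [LocallyOfFinitePresentation g] [QuasiCompact g] [QuasiSeparated g]
    [LocallyOfFinitePresentation (f ≫ g)] [QuasiCompact (f ≫ g)] [QuasiSeparated (f ≫ g)] :
    IsLocallyConstructible {s : S | IsSeparated (fib f g s)} := by
  haveI : LocallyOfFinitePresentation f := FlatLocus.locallyOfFinitePresentation_of_comp f g
  haveI : QuasiCompact f := QuasiCompact.of_comp f g
  haveI : QuasiSeparated f := QuasiSeparated.of_comp f g
  haveI : LocallyOfFinitePresentation (pullback.diagonal f) := by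
    haveI : LocallyOfFinitePresentation (pullback.diagonal f ≫ pullback.fst f f) := by
      rw [pullback.diagonal_fst]; infer_instance
    exact FlatLocus.locallyOfFinitePresentation_of_comp _ (pullback.fst f f)
  have hc : IsLocallyConstructible (Set.range (pullback.diagonal f)) := by
    rw [← Set.image_univ]
    exact (pullback.diagonal f).isLocallyConstructible_image IsLocallyConstructible.univ
  simp_rw [isSeparated_fib_iff, RelClosureSch.isClosed_fibre_iff (pullback.snd f f ≫ f ≫ g) hc]
  exact RelClosureSch.isLocallyConstructible_subset _ (RelClosureSch.isLocallyConstructible_relCl _ hc) hc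

theorem mono_fib_iff [LocallyOfFinitePresentation f] :
    Mono (fib f g s) ↔ UniversallyInjective (fib f g s) ∧ (f ≫ g) ⁻¹' {s} ⊆ {x | GeomRk.FibSm f x} := by
  haveI : LocallyOfFinitePresentation (fib f g s) :=
    MorphismProperty.of_isPullback (isPullback_fib f g s) inferInstance
  have hl : ∀ y', LocallyOfFinitePresentation ((fib f g s).fiberToSpecResidueField y') := fun y' =>
    MorphismProperty.pullback_snd _ _ inferInstance
  constructor
  · intro h
    refine ⟨inferInstance, fun x hx => ?_⟩
    obtain ⟨x', rfl⟩ : x ∈ Set.range (pullback.fst (f ≫ g) (S.fromSpecResidueField s)) := (range_fst s (f ≫ g)).ge hx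
    refine (GeomRk.fibSm_baseChange (isPullback_fib f g s) x').1 ?_
    let y' := fib f g s x'
    haveI := hl y'
    haveI : Mono ((fib f g s).fiberToSpecResidueField y') := by
      show Mono (pullback.snd (fib f g s) _)
      infer_instance
    haveI : FormallyUnramified ((fib f g s).fiberToSpecResidueField y') := inferInstance
    haveI : Flat ((fib f g s).fiberToSpecResidueField y') := inferInstance
    haveI : Etale ((fib f g s).fiberToSpecResidueField y') := Etale.of_formallyUnramified_of_flat _
    refine (GeomRk.fibSm_iff_mem_smoothLocus _ x').2 ?_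
    rw [Scheme.Hom.smoothLocus_eq_top]
    trivial
  · rintro ⟨hui, hsm⟩
    haveI : FormallyUnramified (fib f g s) := FlatLocus.formallyUnramified_of_fibres _ fun y' => by
      haveI := hl y'
      haveI : UniversallyInjective ((fib f g s).fiberToSpecResidueField y') :=
        MorphismProperty.pullback_snd _ _ hui
      haveI : Smooth ((fib f g s).fiberToSpecResidueField y') := by
        rw [← Scheme.Hom.smoothLocus_eq_top_iff]
        refine eq_top_iff.2 fun z _ => ?_
        rw [Scheme.Hom.mem_smoothLocus, ← GeomRk.fibSm_fiberι, GeomRk.fibSm_baseChange (isPullback_fib f g s)]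
        exact hsm ((range_fst s (f ≫ g)).le ⟨_, rfl⟩)
      haveI : QuasiCompact ((fib f g s).fiberToSpecResidueField y') := by
        haveI : Subsingleton ↥(Spec ((pullback g (S.fromSpecResidueField s)).residueField y')) :=
          inferInstanceAs (Subsingleton (PrimeSpectrum _))
        haveI : Subsingleton ↥((fib f g s).fiber y') :=
          ((fib f g s).fiberToSpecResidueField y').injective.subsingleton
        exact ⟨fun U _ _ => (Set.toFinite _).isCompact⟩
      haveI : LocallyQuasiFinite ((fib f g s).fiberToSpecResidueField y') :=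
        LocallyQuasiFinite.of_finite_preimage_singleton _ fun z =>
          (Set.subsingleton_singleton.preimage ((fib f g s).fiberToSpecResidueField y').injective).finite
      haveI : Etale ((fib f g s).fiberToSpecResidueField y') := (Groth.Agent.S4997.result _).2 ⟨inferInstance, inferInstance⟩
      infer_instance
    haveI : Surjective (pullback.diagonal (fib f g s)) := (UniversallyInjective.iff_diagonal _).1 hui
    haveI : IsIso (pullback.diagonal (fib f g s)) := (isIso_iff_isOpenImmersion_and_epi_base _).2
      ⟨inferInstance, (TopCat.epi_iff_surjective _).2 (pullback.diagonal (fib f g s)).surjective⟩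
    exact (pullback.isIso_diagonal_iff _).1 inferInstance

theorem isLocallyConstructible_mono [LocallyOfFinitePresentation g] [QuasiCompact g] [QuasiSeparated g]
    [LocallyOfFinitePresentation (f ≫ g)] [QuasiCompact (f ≫ g)] [QuasiSeparated (f ≫ g)] :
    IsLocallyConstructible {s : S | Mono (fib f g s)} := by
  haveI : LocallyOfFinitePresentation f := FlatLocus.locallyOfFinitePresentation_of_comp f g
  simp_rw [mono_fib_iff]
  exact (FibreMapConstr.isLocallyConstructible_universallyInjective f g).inter
    (FibreMapConstr.isLocallyConstructible_forall_fibre (f ≫ g) (GeomRk.isLocallyConstructible_fibSm f))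

end Groth.Agent.EtAlgEasy.FibreMorph
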