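import Groth.Agent.EtAlgEasy.PairLocus
import Groth.Agent.FibreMapConstr.Basic
import Groth.Agent.GeomRk.FibSmooth
import Groth.Agent.EtAlgEasy.FibreMorph
import Mathlib

/-!
Loci of points over which the fibre map has a property: reduction to integral Noetherian bases.
-/

set_option autoImplicit false
set_option backward.isDefEq.respectTransparency false
set_option linter.style.haveILetI false

universe u

open CategoryTheory CategoryTheory.Limits AlgebraicGeometry TopologicalSpace Topology

noncomputable section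

namespace Groth.Agent.EtAlgEasy.FibLocus

open FibreMapConstr

/-- The morphisms along which the property is required to descend. -/
abbrev fieldQ : MorphismProperty Scheme.{u} := @Surjective ⊓ @Flat ⊓ @QuasiCompact ⊓ @UniversallyOpen

variable (P : MorphismProperty Scheme.{u})

/-- The points over which the fibre map has the property. -/
def locus {X Y S : Scheme.{u}} (f : X ⟶ Y) (g : Y ⟶ S) : Set S := {s | P (fib f g s)}

/-- The hypothesis on integral Noetherian bases: the locus is constructible on a nonempty open. -/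
def GenConstr : Prop :=
  ∀ ⦃X Y S : Scheme.{u}⦄ (f : X ⟶ Y) (g : Y ⟶ S) [IsNoetherian S] [IsIntegral S] [LocallyOfFiniteType g]
    [QuasiCompact g] [LocallyOfFiniteType f] [QuasiCompact f],
    ∃ V : S.Opens, (V : Set S).Nonempty ∧ ∃ C : Set S, IsConstructible C ∧ C ∩ V = locus P f g ∩ V

variable [P.IsStableUnderBaseChange] [P.DescendsAlong fieldQ]

theorem fib_iff_baseChange {X Y S X' Y' S' : Scheme.{u}} {f : X ⟶ Y} {g : Y ⟶ S} {f' : X' ⟶ Y'} {g' : Y' ⟶ S'}
    {gS : S' ⟶ S} {gX : X' ⟶ X} {gY : Y' ⟶ Y} (hX : IsPullback gX (f' ≫ g') (f ≫ g) gS)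
    (hY : IsPullback gY g' g gS) (hc : f' ≫ gY = gX ≫ f) (s' : S') :
    P (fib f' g' s') ↔ P (fib f g (gS s')) := by
  have hXY : IsPullback gX f' f gY := IsPullback.of_bot hX hc.symm hY
  obtain ⟨a, ha, hsq⟩ := GeomRk.exists_fibre_square hY s'
  have h1 : IsPullback (pullback.fst (f' ≫ g') (S'.fromSpecResidueField s') ≫ gX) (fib f' g' s') f
      (a ≫ pullback.fst g (S.fromSpecResidueField (gS s'))) := by
    have := (FibreMorph.isPullback_fib f' g' s').paste_horiz hXY
    convert this using 1
    exact ha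
  have h0 := FibreMorph.isPullback_fib f g (gS s')
  have hw := h1.w
  rw [← Category.assoc (fib f' g' s')] at hw
  have h2 : IsPullback (h0.lift _ _ hw) (fib f' g' s') (fib f g (gS s')) a :=
    IsPullback.of_right (by rw [h0.lift_fst]; exact h1) (h0.lift_snd _ _ _) h0
  have hflat := GeomRk.flat_residueFieldMap gS s'
  haveI : Subsingleton ↥(Spec (S.residueField (gS s'))) := inferInstanceAs (Subsingleton (PrimeSpectrum _))
  haveI : Surjective (Spec.map (gS.residueFieldMap s')) := ⟨fun x =>
    ⟨IsLocalRing.closedPoint (S'.residueField s'), Subsingleton.elim _ _⟩⟩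
  haveI : QuasiCompact (Spec.map (gS.residueFieldMap s')) := inferInstance
  exact (MorphismProperty.iff_of_isPullback (P := P) (Q := fieldQ) h2.flip
    ⟨⟨⟨MorphismProperty.of_isPullback hsq.flip ‹_›, MorphismProperty.of_isPullback hsq.flip hflat⟩,
      MorphismProperty.of_isPullback hsq.flip ‹_›⟩, MorphismProperty.of_isPullback hsq.flip inferInstance⟩)

theorem locus_preimage {X Y S X' Y' S' : Scheme.{u}} {f : X ⟶ Y} {g : Y ⟶ S} {f' : X' ⟶ Y'} {g' : Y' ⟶ S'}
    {gS : S' ⟶ S} {gX : X' ⟶ X} {gY : Y' ⟶ Y} (hX : IsPullback gX (f' ≫ g') (f ≫ g) gS)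
    (hY : IsPullback gY g' g gS) (hc : f' ≫ gY = gX ≫ f) :
    locus P f' g' = gS ⁻¹' locus P f g :=
  Set.ext fun s' => fib_iff_baseChange P hX hY hc s'

theorem locus_pullback {X Y S S' : Scheme.{u}} (f : X ⟶ Y) (g : Y ⟶ S) (i : S' ⟶ S) :
    locus P (pullback.snd f (pullback.fst g i)) (pullback.snd g i) = i ⁻¹' locus P f g :=
  locus_preimage P ((IsPullback.of_hasPullback f (pullback.fst g i)).paste_vert (IsPullback.of_hasPullback g i))
    (IsPullback.of_hasPullback g i) pullback.condition.symm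

theorem isConstructible_noetherian (hgen : GenConstr P) {X Y S : Scheme.{u}} (f : X ⟶ Y) (g : Y ⟶ S)
    [IsNoetherian S] [LocallyOfFiniteType g] [QuasiCompact g] [LocallyOfFiniteType f] [QuasiCompact f] :
    IsConstructible (locus P f g) := by
  refine ConstrNoeth.isConstructible_of_irreducible fun Z hZ hirr hd => ?_
  obtain ⟨W, i, _, _, hr, hξ⟩ := PairLocus.exists_integral S Z hZ hirr
  haveI : IsNoetherian W := {
    toIsLocallyNoetherian := LocallyOfFiniteType.isLocallyNoetherian i
    toCompactSpace := QuasiCompact.compactSpace_of_compactSpace i }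
  obtain ⟨V, hV, C, hC, hCV⟩ := hgen (pullback.snd f (pullback.fst g i)) (pullback.snd g i)
  rw [locus_pullback P f g i] at hCV
  have hCc := hC.inter (ConstrNoeth.isConstructible_of_isOpen V.2)
  -- the part over `V` is dense
  have hdense : Set.univ ⊆ closure ((C ∩ V) ∩ Set.univ) := by
    rw [Set.inter_univ, hCV]
    intro w _
    refine mem_closure_iff.2 fun O hO hwO => ?_
    obtain ⟨z, hzO, hzV⟩ := nonempty_preirreducible_inter hO V.2 ⟨w, hwO⟩ hV
    obtain ⟨U, hU, hUe⟩ := i.isClosedEmbedding.isInducing.isOpen_iff.1 (hO.inter V.2)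
    obtain ⟨y, hyU, hyE, hyZ⟩ := mem_closure_iff.1 (hd (hr.le ⟨z, rfl⟩)) U hU ((Set.ext_iff.1 hUe z).2 ⟨hzO, hzV⟩)
    obtain ⟨y', rfl⟩ := hr.ge hyZ
    have := (Set.ext_iff.1 hUe y').1 hyU
    exact ⟨y', this.1, hyE, this.2⟩
  obtain ⟨O, hO, hne, hsub⟩ := ConstrNoeth.exists_open_of_constructible hCc (IrreducibleSpace.isIrreducible_univ W) hdense
  obtain ⟨U, hU, hUne, hUsub, -⟩ := PairLocus.exists_open_inter i (E := locus P f g) hO
    (fun w hw => (hCV.le (hsub ⟨hw, trivial⟩)).1) (hne.mono Set.inter_subset_left)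
  exact ⟨U, hU, hr ▸ hUne, hr ▸ hUsub⟩

/-- The locus is locally constructible. -/
theorem isLocallyConstructible_locus (hgen : GenConstr P) {X Y S : Scheme.{u}} (f : X ⟶ Y) (g : Y ⟶ S)
    [LocallyOfFinitePresentation g] [QuasiCompact g] [QuasiSeparated g]
    [LocallyOfFinitePresentation (f ≫ g)] [QuasiCompact (f ≫ g)] [QuasiSeparated (f ≫ g)] :
    IsLocallyConstructible (locus P f g) := by
  refine IsLocallyConstructible.of_isOpenCover (U := fun U : S.affineOpens => (U : S.Opens))
    (iSup_affineOpens_eq_top S) fun U => ?_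
  let e := U.2.isoSpec
  let f₁ := pullback.snd f (pullback.fst g U.1.ι)
  let g₁ := pullback.snd g U.1.ι
  have hX1 := (IsPullback.of_hasPullback f (pullback.fst g U.1.ι)).paste_vert (IsPullback.of_hasPullback g U.1.ι)
  have hY1 := IsPullback.of_hasPullback g U.1.ι
  haveI : LocallyOfFinitePresentation (f₁ ≫ g₁) := MorphismProperty.of_isPullback hX1 inferInstance
  haveI : QuasiCompact (f₁ ≫ g₁) := MorphismProperty.of_isPullback hX1 inferInstance
  haveI : QuasiSeparated (f₁ ≫ g₁) := MorphismProperty.of_isPullback hX1 inferInstance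
  let u := (f₁ ≫ g₁) ≫ e.hom
  let v := g₁ ≫ e.hom
  haveI : CompactSpace ↥(pullback f (pullback.fst g U.1.ι)) := QuasiCompact.compactSpace_of_compactSpace u
  haveI : QuasiSeparatedSpace ↥(pullback f (pullback.fst g U.1.ι)) := quasiSeparatedSpace_of_quasiSeparated u
  haveI : CompactSpace ↥(pullback g U.1.ι) := QuasiCompact.compactSpace_of_compactSpace v
  haveI : QuasiSeparatedSpace ↥(pullback g U.1.ι) := quasiSeparatedSpace_of_quasiSeparated v
  let D := FPModelLib.zSys Γ(S, U.1)
  let c := FPModelLib.zCone Γ(S, U.1)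
  have hc := FPModelLib.isLimitZCone Γ(S, U.1)
  obtain ⟨i, G, a, q, hG⟩ := FPModelLib.Gen.exists_model D c hc u
  obtain ⟨j, H, b, r, hH⟩ := FPModelLib.Gen.exists_model D c hc v
  have hG' := FPModelLib.IsModel.stage D c hG (Over.mk (IsCofiltered.minToLeft i j))
  have hH' := FPModelLib.IsModel.stage D c hH (Over.mk (IsCofiltered.minToRight i j))
  obtain ⟨k, mk, hmk, hsq⟩ := FPModelLib.Gen.exists_hom_stage D c hc hG' hH' f₁ (by simp [u, v])
  have hG'' := hG'.stage D c k
  have hH'' := hH'.stage D c k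
  haveI : CompactSpace ↥((AffLim.baseChange D _ (pullback.snd a (D.map (Over.mk (IsCofiltered.minToLeft i j)).hom))).obj k) :=
    hG''.compact
  haveI : CompactSpace ↥((AffLim.baseChange D _ (pullback.snd b (D.map (IsCofiltered.minToRight i j)))).obj k) :=
    hH''.compact
  haveI : QuasiSeparatedSpace ↥((AffLim.baseChange D _ (pullback.snd b (D.map (IsCofiltered.minToRight i j)))).obj k) :=
    hH''.qs
  haveI : QuasiSeparatedSpace ↥((AffLim.baseChange D (Over.mk (IsCofiltered.minToLeft i j)).left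
      (pullback.snd b (D.map (Over.mk (IsCofiltered.minToRight i j)).hom))).obj k) := hH''.qs
  haveI := hG''.lfp
  haveI : IsNoetherian (D.obj k.left) := FPModelLib.isNoetherian_zSys Γ(S, U.1) k.left
  let g₀ : (AffLim.baseChange D _ (pullback.snd b (D.map (IsCofiltered.minToRight i j)))).obj k ⟶ D.obj k.left :=
    pullback.snd _ (D.map k.hom)
  haveI : LocallyOfFinitePresentation g₀ := hH''.lfp
  haveI : LocallyOfFiniteType (mk ≫ g₀) := (congrArg (fun m => LocallyOfFiniteType m) hmk).mpr inferInstance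
  haveI : LocallyOfFiniteType mk := locallyOfFiniteType_of_comp mk g₀
  haveI : QuasiCompact mk := quasiCompact_of_compactSpace mk
  haveI : QuasiCompact g₀ := quasiCompact_of_compactSpace g₀
  have hc1 := isConstructible_noetherian P hgen mk g₀
  have e1 : locus P f₁ v = c.π.app k.left ⁻¹' locus P mk g₀ := locus_preimage P
    ((congrArg (fun m => IsPullback _ (f₁ ≫ v) m (c.π.app k.left)) hmk).mpr (by
      rw [show f₁ ≫ v = (f₁ ≫ g₁) ≫ e.hom from (Category.assoc _ _ _).symm]
      exact hG''.isPullback))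
    hH''.isPullback hsq.symm
  have e2 : locus P f₁ g₁ = e.hom ⁻¹' locus P f₁ v := locus_preimage P
    (IsPullback.of_horiz_isIso ⟨by simp [v]⟩ : IsPullback (𝟙 _) (f₁ ≫ g₁) (f₁ ≫ v) e.hom)
    (IsPullback.of_horiz_isIso ⟨by simp [v]⟩ : IsPullback (𝟙 _) g₁ v e.hom) (by simp)
  have key : IsConstructible (locus P f₁ g₁) := by
    rw [e2, e1]
    exact Scheme.Hom.isConstructible_preimage e.hom (Scheme.Hom.isConstructible_preimage _ hc1)
  rw [locus_pullback P f g U.1.ι] at key
  exact key.isLocallyConstructible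

end Groth.Agent.EtAlgEasy.FibLocus
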