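import Groth.Agent.EtAlgEasy.FibLocusFin
import Groth.Agent.ChowLib.General
import Groth.Agent.ProjBundleLib.ProjMor
import Mathlib

/-!
Fibrewise proper morphisms.
-/

set_option autoImplicit false
set_option backward.isDefEq.respectTransparency false
set_option linter.style.haveILetI false

universe u

open CategoryTheory CategoryTheory.Limits AlgebraicGeometry TopologicalSpace Topology

noncomputable section

namespace Groth.Agent.EtAlgEasy.FibLocus

open FibreMapConstr

instance proper_descends : MorphismProperty.DescendsAlong @IsProper fieldQ.{u} :=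
  haveI := FpqcDesc.isProper_descends.{u}
  MorphismProperty.DescendsAlong.of_le (P := @IsProper) inf_le_left

variable {X Y S Z : Scheme.{u}}

theorem proper_fib_factor_iff (j : X ⟶ Z) (q : Z ⟶ Y) (g : Y ⟶ S) (s : S) [IsImmersion j] [IsProper q]
    [LocallyOfFiniteType (q ≫ g)] (hJ : IsLocallyConstructible (Set.range j)) :
    IsProper (fib (j ≫ q) g s) ↔ (q ≫ g) ⁻¹' {s} ⊆ (RelClosureSch.relCl (q ≫ g) (Set.range j) \ Set.range j)ᶜ := by
  rw [prop_fib_comp j q g s @IsProper]
  haveI : IsProper (fib q g s) := MorphismProperty.of_isPullback (FibreMorph.isPullback_fib q g s) inferInstance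
  haveI : IsImmersion (fib j (q ≫ g) s) :=
    MorphismProperty.of_isPullback (FibreMorph.isPullback_fib j (q ≫ g) s) inferInstance
  have key := isClosed_range_fib_iff j q g s hJ Set.univ
  simp only [Set.preimage_univ, Set.inter_univ, Set.diff_eq_empty] at key
  rw [← key, closure_subset_iff_isClosed]
  constructor
  · intro
    haveI : IsProper (fib j (q ≫ g) s) := IsProper.of_comp _ (fib q g s)
    exact (fib j (q ≫ g) s).isClosedMap.isClosed_range
  · intro h
    haveI := IsClosedImmersion.of_isPreimmersion _ h
    infer_instance

/-- Properness of fibre maps may be tested after a proper surjection. -/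
theorem proper_fib_comp_iff (π : Z ⟶ X) (f : X ⟶ Y) (g : Y ⟶ S) (s : S) [IsProper π] [Surjective π]
    [IsSeparated f] [LocallyOfFiniteType f] :
    IsProper (fib (π ≫ f) g s) ↔ IsProper (fib f g s) := by
  rw [prop_fib_comp π f g s @IsProper]
  haveI : IsProper (fib π (f ≫ g) s) := MorphismProperty.of_isPullback (FibreMorph.isPullback_fib π (f ≫ g) s) inferInstance
  haveI : Surjective (fib π (f ≫ g) s) := MorphismProperty.of_isPullback (FibreMorph.isPullback_fib π (f ≫ g) s) inferInstance
  haveI : IsSeparated (fib f g s) := MorphismProperty.of_isPullback (FibreMorph.isPullback_fib f g s) inferInstance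
  haveI : LocallyOfFiniteType (fib f g s) := MorphismProperty.of_isPullback (FibreMorph.isPullback_fib f g s) inferInstance
  constructor
  · intro
    haveI : UniversallyClosed (fib f g s) := UniversallyClosed.of_comp_surjective (fib π (f ≫ g) s) (fib f g s)
    exact {}
  · intro
    infer_instance

theorem genConstr_proper : GenConstr (@IsProper : MorphismProperty Scheme.{u}) := by
  intro X Y S f g _ _ _ _ _ _
  haveI : IsLocallyNoetherian Y := LocallyOfFiniteType.isLocallyNoetherian g
  haveI : IsLocallyNoetherian X := LocallyOfFiniteType.isLocallyNoetherian f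
  haveI : QuasiSeparated (f ≫ g) := inferInstance
  by_cases hη : genericPoint S ∈ {s : S | IsSeparated (fib f g s)}
  · obtain ⟨V, hV, hsep⟩ := exists_isSeparated f g hη
    refine gen_of_restrict _ f g hV ?_
    let f' := pullback.snd f (pullback.fst g V.ι)
    let g' := pullback.snd g V.ι
    haveI : CompactSpace ↥V.toScheme := isCompact_iff_compactSpace.1 (NoetherianSpace.isCompact (V : Set S))
    haveI : IsLocallyNoetherian V.toScheme := inferInstance
    haveI : IsLocallyNoetherian (pullback g V.ι) := LocallyOfFiniteType.isLocallyNoetherian g'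
    haveI : CompactSpace ↥(pullback g V.ι) := QuasiCompact.compactSpace_of_compactSpace g'
    haveI : QuasiSeparatedSpace ↥(pullback g V.ι) := quasiSeparatedSpace_of_quasiSeparated g'
    haveI : IsSeparated f' := hsep
    obtain ⟨N, Z, π, j, hj, hjf, hπ, hπs⟩ := ChowLib.exists_chow_general f'
    let q := CohB1.ProjSpaceOver.toBase N (pullback g V.ι)
    haveI : IsProper q := (ProjBundleLib.isProper_of_isProjective
      (ProjBundleLib.isProjective_of_isHProjective (f := q) ⟨N, 𝟙 _, inferInstance, Category.id_comp _⟩)).1
    haveI : IsLocallyNoetherian (CohB1.ProjSpaceOver N (pullback g V.ι)) := LocallyOfFiniteType.isLocallyNoetherian q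
    haveI : QuasiCompact j := by
      haveI : QuasiCompact (j ≫ q) := by rw [hjf]; infer_instance
      exact QuasiCompact.of_comp j q
    have hJ : IsLocallyConstructible (Set.range j) := by
      rw [← Set.image_univ]
      exact j.isLocallyConstructible_image IsLocallyConstructible.univ
    have key : ∀ s, IsProper (fib f' g' s) ↔
        (q ≫ g') ⁻¹' {s} ⊆ (RelClosureSch.relCl (q ≫ g') (Set.range j) \ Set.range j)ᶜ := fun s => by
      rw [← proper_fib_comp_iff π f' g' s, ← hjf]
      exact proper_fib_factor_iff j q g' s hJ
    haveI : LocallyOfFinitePresentation (q ≫ g') := inferInstance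
    show IsLocallyConstructible {s | IsProper (fib f' g' s)}
    simp_rw [key]
    exact FibreMapConstr.isLocallyConstructible_forall_fibre _ (ProConsLib.isLocallyConstructible_compl
      ((RelClosureSch.isLocallyConstructible_relCl _ hJ).inter (ProConsLib.isLocallyConstructible_compl hJ)))
  · exact gen_of_not_mem _ (FibreMorph.isLocallyConstructible_isSeparated f g)
      (fun s (hs : IsProper (fib f g s)) => (inferInstance : IsSeparated (fib f g s))) hη

end Groth.Agent.EtAlgEasy.FibLocus
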