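import Mathlib

/-!
# Finite type fibre products (Artin–Tate)
-/

set_option autoImplicit false

universe u

namespace EtAlgEasy

theorem finiteType_pi (R : Type u) [CommRing R] {ι : Type u} [Fintype ι] (A : ι → Type u)
    [∀ i, CommRing (A i)] [∀ i, Algebra R (A i)] (hA : ∀ i, Algebra.FiniteType R (A i)) :
    Algebra.FiniteType R (∀ i, A i) := by
  classical
  choose s hs using fun i => (hA i).out
  let T : Finset (∀ i, A i) := Finset.univ.biUnion fun i => (insert (1 : A i) (s i)).image (Pi.single i)
  refine ⟨⟨T, Algebra.eq_top_iff.2 fun x => ?_⟩⟩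
  let S := Algebra.adjoin R (T : Set (∀ i, A i))
  have h1 : ∀ i, ∀ a : A i, (Pi.single i a : ∀ j, A j) ∈ S := by
    intro i
    have hgen : ∀ a ∈ insert (1 : A i) (s i), (Pi.single i a : ∀ j, A j) ∈ S := fun a ha =>
      Algebra.subset_adjoin (Finset.mem_coe.2 (Finset.mem_biUnion.2
        ⟨i, Finset.mem_univ i, Finset.mem_image_of_mem _ ha⟩))
    intro a
    have ha : a ∈ Algebra.adjoin R (s i : Set (A i)) := hs i ▸ Algebra.mem_top
    induction ha using Algebra.adjoin_induction with
    | mem y hy => exact hgen y (Finset.mem_insert_of_mem hy)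
    | algebraMap r =>
      rw [Algebra.algebraMap_eq_smul_one, Pi.single_smul]
      exact S.smul_mem (hgen 1 (Finset.mem_insert_self _ _)) r
    | add y z _ _ hy hz => rw [Pi.single_add]; exact add_mem hy hz
    | mul y z _ _ hy hz => rw [Pi.single_mul]; exact mul_mem hy hz
  rw [← Finset.univ_sum_single x]
  exact sum_mem fun i _ => h1 i (x i)

/-- Artin–Tate: a subalgebra over which an algebra of finite type is integral is of finite type. -/
theorem finiteType_of_integral {R E : Type u} [CommRing R] [IsNoetherianRing R] [CommRing E]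
    [Algebra R E] [Algebra.FiniteType R E] (P : Subalgebra R E) [Algebra.IsIntegral P E] :
    Algebra.FiniteType R P := by
  haveI : Algebra.FiniteType P E := Algebra.FiniteType.of_restrictScalars_finiteType R P E
  haveI : Module.Finite P E := Algebra.IsIntegral.finite
  exact ⟨fg_of_fg_of_fg (A := R) (B := P) (C := E) Algebra.FiniteType.out Module.Finite.fg_top
    Subtype.val_injective⟩

end EtAlgEasy
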