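import Mathlib

/-!
Points with finite closure on Noetherian schemes (Artin-Tate): if a point is isolated in its closure then
the closure is finite and all its other points are closed.
-/

universe u

open AlgebraicGeometry CategoryTheory Topology TopologicalSpace

namespace Groth.Agent.EtAlgEasy.FiniteClosure

theorem domain_finite {R : Type u} [CommRing R] [IsNoetherianRing R] [IsDomain R] {f : R} (hf : f ≠ 0)
    (h : ∀ P : PrimeSpectrum R, P.asIdeal ≠ ⊥ → f ∈ P.asIdeal) :
    Finite (PrimeSpectrum R) ∧ ∀ P : PrimeSpectrum R, P.asIdeal ≠ ⊥ → P.asIdeal.IsMaximal := by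
  set F := (Ideal.span {f}).minimalPrimes
  have hFfin : F.Finite := Ideal.finite_minimalPrimes_of_isNoetherianRing R _
  have hF1 : ∀ Q ∈ F, ∀ Q' : Ideal R, Q'.IsPrime → Q' ≠ ⊥ → Q' ≤ Q → Q' = Q := fun Q hQ Q' hQ' h0 hle => by
    refine le_antisymm hle (hQ.2 ⟨hQ', ?_⟩ hle)
    rw [Ideal.span_singleton_le_iff_mem]
    exact h ⟨Q', hQ'⟩ h0
  have key : ∀ P : PrimeSpectrum R, P.asIdeal ≠ ⊥ → P.asIdeal ∈ F := by
    intro P hP
    have hsub : (P.asIdeal : Set R) ⊆ ⋃ Q ∈ {Q ∈ F | Q ≤ P.asIdeal}, (Q : Set R) := by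
      intro g hg
      simp only [Set.mem_iUnion, SetLike.mem_coe, exists_prop, Set.mem_setOf_eq]
      rcases eq_or_ne g 0 with rfl | hg0
      · obtain ⟨Q, hQ, hQP⟩ := Ideal.exists_minimalPrimes_le (I := Ideal.span {f}) (J := P.asIdeal)
          (by rw [Ideal.span_singleton_le_iff_mem]; exact h P hP)
        exact ⟨Q, ⟨hQ, hQP⟩, Q.zero_mem⟩
      · obtain ⟨Q', hQ', hQ'P⟩ := Ideal.exists_minimalPrimes_le (I := Ideal.span {g}) (J := P.asIdeal)
          (by rw [Ideal.span_singleton_le_iff_mem]; exact hg)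
        have hQ'p : Q'.IsPrime := hQ'.1.1
        have hgQ' : g ∈ Q' := hQ'.1.2 (Ideal.mem_span_singleton_self g)
        have hQ'0 : Q' ≠ ⊥ := fun h0 => hg0 (by rw [h0] at hgQ'; simpa using hgQ')
        obtain ⟨Q, hQ, hQQ'⟩ := Ideal.exists_minimalPrimes_le (I := Ideal.span {f}) (J := Q')
          (by rw [Ideal.span_singleton_le_iff_mem]; exact h ⟨Q', hQ'p⟩ hQ'0)
        have hQp : Q.IsPrime := hQ.1.1
        have hfQ : f ∈ Q := hQ.1.2 (Ideal.mem_span_singleton_self f)
        have hQ0 : Q ≠ ⊥ := fun h0 => hf (by rw [h0] at hfQ; simpa using hfQ)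
        have hht : Q'.height ≤ 1 := Ideal.height_le_one_of_isPrincipal_of_mem_minimalPrimes _ _ hQ'
        have heq : Q = Q' := by
          by_contra hne
          have h1 : Q < Q' := lt_of_le_of_ne hQQ' hne
          have h2 : Q.height + 1 ≤ Q'.height := Ideal.height_add_one_le_of_lt_of_isPrime h1
          have h3 : (⊥ : Ideal R).height + 1 ≤ Q.height :=
            Ideal.height_add_one_le_of_lt_of_isPrime (bot_lt_iff_ne_bot.2 hQ0)
          have h4 : (1 : ℕ∞) + 1 ≤ 1 := by
            refine le_trans ?_ hht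
            refine le_trans ?_ h2
            gcongr
            exact le_trans le_add_self h3
          exact absurd h4 (by decide)
        exact ⟨Q, ⟨hQ, hQQ'.trans hQ'P⟩, heq ▸ hgQ'⟩
    have hfin : {Q ∈ F | Q ≤ P.asIdeal}.Finite := hFfin.subset (fun _ hQ => hQ.1)
    obtain ⟨Q, hQ, hle⟩ := (Ideal.subset_union_prime_finite hfin (f := fun Q => Q) ⊥ ⊥
      (fun Q hQ _ _ => hQ.1.1.1)).1 hsub
    exact (le_antisymm hQ.2 hle) ▸ hQ.1
  refine ⟨?_, fun P hP => ?_⟩
  · have hfin : (Set.univ : Set (PrimeSpectrum R)).Finite := by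
      refine Set.Finite.subset (((hFfin.insert ⊥).preimage
        (fun a _ b _ hab => PrimeSpectrum.ext hab)) : ((PrimeSpectrum.asIdeal) ⁻¹' (insert ⊥ F)).Finite) ?_
      intro P _
      rcases eq_or_ne P.asIdeal ⊥ with h0 | h0
      · exact Or.inl h0
      · exact Or.inr (key P h0)
    exact Set.finite_univ_iff.1 hfin
  · obtain ⟨m, hm, hle⟩ := P.asIdeal.exists_le_maximal P.isPrime.ne_top
    have hm0 : m ≠ ⊥ := fun h0 => hP (le_bot_iff.1 (h0 ▸ hle))
    have := hF1 m (key ⟨m, hm.isPrime⟩ hm0) P.asIdeal P.isPrime hP hle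
    exact this ▸ hm

theorem ring_finite {R : Type u} [CommRing R] [IsNoetherianRing R] (x : PrimeSpectrum R) {f : R}
    (hf : f ∉ x.asIdeal) (h : ∀ P : PrimeSpectrum R, x.asIdeal < P.asIdeal → f ∈ P.asIdeal) :
    {P : PrimeSpectrum R | x.asIdeal ≤ P.asIdeal}.Finite ∧
      ∀ P : PrimeSpectrum R, x.asIdeal < P.asIdeal → P.asIdeal.IsMaximal := by
  let q := Ideal.Quotient.mk x.asIdeal
  have hsurj : Function.Surjective q := Ideal.Quotient.mk_surjective
  have hq0 : q f ≠ 0 := fun h0 => hf (Ideal.Quotient.eq_zero_iff_mem.1 h0)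
  obtain ⟨hfin, hmax⟩ := domain_finite (R := R ⧸ x.asIdeal) (f := q f) hq0 (fun P hP => by
    have : x.asIdeal < P.asIdeal.comap q := by
      refine lt_of_le_of_ne ?_ ?_
      · intro a ha
        simp [q, Ideal.Quotient.eq_zero_iff_mem.2 ha]
      · intro he
        apply hP
        rw [eq_bot_iff]
        intro a ha
        obtain ⟨a, rfl⟩ := hsurj a
        have : a ∈ x.asIdeal := by rw [he]; exact ha
        simpa [q] using Ideal.Quotient.eq_zero_iff_mem.2 this
    exact h ⟨_, P.isPrime.comap q⟩ this)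
  have hsub : {P : PrimeSpectrum R | x.asIdeal ≤ P.asIdeal} ⊆ Set.range (PrimeSpectrum.comap q) := by
    rw [range_comap_of_surjective _ q hsurj]
    intro P hP
    simpa [PrimeSpectrum.mem_zeroLocus, q, Ideal.mk_ker] using hP
  refine ⟨(Set.finite_range _).subset hsub, fun P hP => ?_⟩
  obtain ⟨P', rfl⟩ := hsub hP.le
  have h0 : P'.asIdeal ≠ ⊥ := by
    intro h0
    apply hP.ne
    simp [PrimeSpectrum.comap_asIdeal, h0, ← RingHom.ker_eq_comap_bot, q, Ideal.mk_ker]
  have := hmax P' h0
  exact Ideal.comap_isMaximal_of_surjective q hsurj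

/-- A point of a locally Noetherian scheme isolated in its closure has locally finite closure made of closed
points (apart from itself). -/
theorem affine_piece {X : Scheme.{u}} [IsLocallyNoetherian X] {x : X} {U : Set X} (hU : IsOpen U) (hx : x ∈ U)
    (hiso : closure {x} ∩ U ⊆ {x}) {V : X.Opens} (hV : IsAffineOpen V) :
    (closure {x} ∩ (V : Set X)).Finite ∧
      ∀ y z : X, y ∈ closure {x} → y ≠ x → y ∈ V → z ∈ V → z ∈ closure {y} → z = y := by
  by_cases hxV : x ∈ V
  swap
  · have : closure {x} ∩ (V : Set X) = ∅ := by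
      rw [Set.eq_empty_iff_forall_notMem]
      rintro y ⟨hy, hyV⟩
      exact hxV ((specializes_iff_mem_closure.2 hy).mem_open V.2 hyV)
    exact ⟨this ▸ Set.finite_empty, fun y _ hy _ hyV _ _ => absurd (show y ∈ closure {x} ∩ (V : Set X) from ⟨hy, hyV⟩) (by simp [this])⟩
  have := IsLocallyNoetherian.component_noetherian ⟨V, hV⟩
  let e := hV.fromSpec
  have he : IsOpenEmbedding e := e.isOpenEmbedding
  have hr : Set.range e = (V : Set X) := hV.range_fromSpec
  obtain ⟨P, hP⟩ : x ∈ Set.range e := hr ▸ hxV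
  obtain ⟨_, ⟨f, rfl⟩, hPf, hfU⟩ := (PrimeSpectrum.isTopologicalBasis_basic_opens (R := Γ(X, V))).exists_subset_of_mem_open
    (show P ∈ e ⁻¹' U by simpa [hP] using hx) (hU.preimage e.continuous)
  have hcl : ∀ P' : PrimeSpectrum Γ(X, V), e P' ∈ closure {x} ↔ P.asIdeal ≤ P'.asIdeal := fun P' => by
    rw [← hP, ← specializes_iff_mem_closure]
    exact he.isInducing.specializes_iff.trans (PrimeSpectrum.le_iff_specializes P P').symm
  obtain ⟨hfin, hmax⟩ := ring_finite P (f := f) (by simpa using hPf) (fun P' hP' => by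
    by_contra hfP
    have h1 : e P' ∈ closure {x} ∩ U := ⟨(hcl P').2 hP'.le, hfU (by simpa using hfP)⟩
    have h2 : e P' = e P := by rw [hP]; exact hiso h1
    exact hP'.ne (by rw [he.injective h2]))
  refine ⟨(hfin.image e).subset ?_, fun y z hy hyx hyV hzV hz => ?_⟩
  · rintro y ⟨hy, hyV⟩
    obtain ⟨P', rfl⟩ : y ∈ Set.range e := hr ▸ hyV
    exact ⟨P', (hcl P').1 hy, rfl⟩
  · obtain ⟨P', rfl⟩ : y ∈ Set.range e := hr ▸ hyV
    obtain ⟨P'', rfl⟩ : z ∈ Set.range e := hr ▸ hzV
    have hlt : P.asIdeal < P'.asIdeal := lt_of_le_of_ne ((hcl P').1 hy) (fun h => hyx (by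
      rw [← hP, PrimeSpectrum.ext h]))
    rw [← specializes_iff_mem_closure] at hz
    have hle : P'.asIdeal ≤ P''.asIdeal :=
      (PrimeSpectrum.le_iff_specializes P' P'').2 (he.isInducing.specializes_iff.1 hz)
    exact congrArg e (PrimeSpectrum.ext ((hmax P' hlt).eq_of_le P''.isPrime.ne_top hle).symm)

theorem finite_closure {X : Scheme.{u}} [IsNoetherian X] {x : X} {U : Set X} (hU : IsOpen U) (hx : x ∈ U)
    (hiso : closure {x} ∩ U ⊆ {x}) :
    (closure {x}).Finite ∧ ∀ y ∈ closure {x}, y ≠ x → IsClosed ({y} : Set X) := by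
  constructor
  · obtain ⟨W, hW, hWf, hcov⟩ : ∃ W : Set X.Opens, (∀ V ∈ W, IsAffineOpen V) ∧ W.Finite ∧
        ∀ y : X, ∃ V ∈ W, y ∈ V := by
      obtain ⟨t, ht⟩ := (isCompact_univ (X := X)).elim_finite_subcover (fun V : X.affineOpens => ((V : X.Opens) : Set X))
        (fun V => (V : X.Opens).2) (fun y _ => by
          obtain ⟨V, hV, hy, -⟩ := X.isBasis_affineOpens.exists_subset_of_mem_open (Set.mem_univ y) isOpen_univ
          obtain ⟨V, hV', rfl⟩ := hV
          exact Set.mem_iUnion.2 ⟨⟨V, hV'⟩, hy⟩)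
      refine ⟨Subtype.val '' (t : Set X.affineOpens), ?_, t.finite_toSet.image _, fun y => ?_⟩
      · rintro _ ⟨V, -, rfl⟩; exact V.2
      · obtain ⟨V, hV, hy⟩ := Set.mem_iUnion₂.1 (ht (Set.mem_univ y))
        exact ⟨_, ⟨V, hV, rfl⟩, hy⟩
    refine (hWf.biUnion fun V hV => (affine_piece hU hx hiso (hW V hV)).1).subset ?_
    intro y hy
    obtain ⟨V, hV, hyV⟩ := hcov y
    exact Set.mem_biUnion hV ⟨hy, hyV⟩
  · intro y hy hne
    rw [isClosed_iff_clusterPt]
    intro z hz
    have hz' : z ∈ closure {y} := by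
      rwa [mem_closure_iff_clusterPt]
    obtain ⟨_, ⟨V, hV, rfl⟩, hzV, -⟩ := X.isBasis_affineOpens.exists_subset_of_mem_open (Set.mem_univ z) isOpen_univ
    exact (affine_piece hU hx hiso hV).2 y z hy hne
      ((specializes_iff_mem_closure.2 hz').mem_open V.2 hzV) hzV hz'

theorem exists_mem_finite_closure {X : Scheme.{u}} [IsNoetherian X] {Z : Set X} (hZ : IsLocallyClosed Z)
    (hne : Z.Nonempty) : ∃ x ∈ Z, (closure ({x} : Set X)).Finite := by
  obtain ⟨U, C, hU, hC, rfl⟩ := hZ
  have := hne.to_subtype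
  have : CompactSpace ↥(U ∩ C) := isCompact_iff_compactSpace.1 (NoetherianSpace.isCompact _)
  obtain ⟨⟨x, hx⟩, -, hx'⟩ := IsClosed.exists_closed_singleton (isClosed_univ (X := ↥(U ∩ C))) Set.univ_nonempty
  refine ⟨x, hx, (finite_closure hU hx.1 ?_).1⟩
  rintro y ⟨hy, hyU⟩
  have hyC : y ∈ C := closure_minimal (Set.singleton_subset_iff.2 hx.2) hC hy
  have h2 : (⟨y, hyU, hyC⟩ : ↥(U ∩ C)) ∈ closure {(⟨x, hx⟩ : ↥(U ∩ C))} := by
    rw [← specializes_iff_mem_closure, subtype_specializes_iff]
    exact specializes_iff_mem_closure.2 hy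
  rw [hx'.closure_eq] at h2
  exact congrArg Subtype.val h2

theorem tfae_generic (X : Scheme.{u}) [IsNoetherian X] [IrreducibleSpace X] :
    [IsOpen ({genericPoint X} : Set X),
      Finite X,
      topologicalKrullDim X ≤ 1 ∧ {x : X | IsClosed ({x} : Set X)}.Finite].TFAE := by
  set η := genericPoint X
  have hη : ∀ x, η ⤳ x := genericPoint_specializes
  have hopen : ∀ (S : Set X), S.Finite → (∀ x, x ≠ η → x ∈ S) → η ∉ S → IsOpen ({η} : Set X) := by
    intro S hS h1 h2
    rw [← isClosed_compl_iff]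
    have : ({η} : Set X)ᶜ = ⋃ x ∈ S, closure {x} := by
      ext y
      simp only [Set.mem_compl_iff, Set.mem_singleton_iff, Set.mem_iUnion, exists_prop]
      constructor
      · exact fun hy => ⟨y, h1 y hy, subset_closure rfl⟩
      · rintro ⟨x, hx, hxy⟩ rfl
        have h3 : x ⤳ η := specializes_iff_mem_closure.2 hxy
        exact h2 (by rwa [(h3.antisymm (hη x)).eq] at hx)
    rw [this]
    exact hS.isClosed_biUnion (fun x _ => isClosed_closure)
  have h12 : IsOpen ({η} : Set X) → Finite X ∧ ∀ y, y ≠ η → IsClosed ({y} : Set X) := fun h => by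
    obtain ⟨hfin, hcl⟩ := finite_closure h rfl (fun y hy => hy.2)
    have hu : closure ({η} : Set X) = Set.univ := genericPoint_spec X
    rw [hu] at hfin hcl
    exact ⟨Set.finite_univ_iff.1 hfin, fun y hy => hcl y trivial hy⟩
  tfae_have 1 → 2 := fun h => (h12 h).1
  tfae_have 2 → 1 := fun _ => hopen {x | x ≠ η} (Set.toFinite _) (fun x hx => hx) (by simp)
  tfae_have 1 → 3 := fun h => by
    obtain ⟨hfin, hcl⟩ := h12 h
    refine ⟨?_, Set.toFinite _⟩
    rw [topologicalKrullDim, Order.krullDim_le_one_iff]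
    intro Z
    obtain ⟨z, hz⟩ := QuasiSober.sober Z.isIrreducible Z.isClosed
    rcases eq_or_ne z η with rfl | hne
    · right
      intro W hW
      intro w _
      show w ∈ (Z : Set X)
      rw [← hz.def, genericPoint_spec X |>.def]
      trivial
    · left
      intro W hW
      intro w hw
      have hZ : (Z : Set X) = {z} := by rw [← hz.def, (hcl z hne).closure_eq]
      obtain ⟨v, hv⟩ := W.isIrreducible.nonempty
      have hv' : v = z := by
        have h' : v ∈ (Z : Set X) := hW hv
        rw [hZ] at h'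
        exact h'
      have hw' : w ∈ (Z : Set X) := hw
      rw [hZ] at hw'
      have hwz : w = z := hw'
      rw [hwz, ← hv']
      exact hv
  tfae_have 3 → 1 := by
    rintro ⟨hd, hfin⟩
    rcases subsingleton_or_nontrivial X with hs | hs
    · exact isOpen_discrete _
    have hcl : ∀ x, x ≠ η → IsClosed ({x} : Set X) := by
      intro x hx
      rw [← closure_subset_iff_isClosed]
      intro y hy
      by_contra hne
      rw [Set.mem_singleton_iff] at hne
      let Zy : IrreducibleCloseds X := ⟨closure {y}, isIrreducible_singleton.closure, isClosed_closure⟩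
      let Zx : IrreducibleCloseds X := ⟨closure {x}, isIrreducible_singleton.closure, isClosed_closure⟩
      let Ze : IrreducibleCloseds X := ⟨closure {η}, isIrreducible_singleton.closure, isClosed_closure⟩
      have h1 : Zy < Zx := by
        refine lt_of_le_of_ne (closure_minimal (Set.singleton_subset_iff.2 hy) isClosed_closure) (fun he => hne ?_)
        have he' : closure {y} = closure {x} := congrArg (fun Z : IrreducibleCloseds X => (Z : Set X)) he
        exact ((specializes_iff_mem_closure.2 (he' ▸ subset_closure (Set.mem_singleton x))).antisymm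
          (specializes_iff_mem_closure.2 hy)).eq
      have h2 : Zx < Ze := by
        refine lt_of_le_of_ne (closure_minimal (Set.singleton_subset_iff.2 (specializes_iff_mem_closure.1 (hη x))) isClosed_closure) (fun he => hx ?_)
        have he' : closure {x} = closure {η} := congrArg (fun Z : IrreducibleCloseds X => (Z : Set X)) he
        exact ((specializes_iff_mem_closure.2 (he' ▸ subset_closure (Set.mem_singleton η))).antisymm (hη x)).eq
      rw [topologicalKrullDim, Order.krullDim_le_one_iff] at hd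
      rcases hd Zx with h | h
      · exact h1.not_ge (h h1.le)
      · exact h2.not_ge (h h2.le)
    refine hopen {x | IsClosed ({x} : Set X)} hfin hcl ?_
    intro hη'
    obtain ⟨y, hy⟩ := exists_ne η
    have hmem := specializes_iff_mem_closure.1 (hη y)
    rw [IsClosed.closure_eq hη'] at hmem
    exact hy hmem
  tfae_finish

theorem isJacobsonRing_away {A : Type u} [CommRing A] [IsNoetherianRing A] (I : Ideal A)
    (hI : I ≤ (⊥ : Ideal A).jacobson) (f : A) (hf : f ∈ I) : IsJacobsonRing (Localization.Away f) := by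
  rw [← PrimeSpectrum.isJacobsonRing_iff_jacobsonSpace.symm, jacobsonSpace_iff_locallyClosed]
  rintro Z hne ⟨U, C, hU, hC, rfl⟩
  let B := Localization.Away f
  have := hne.to_subtype
  have : IsNoetherianRing B := IsLocalization.isNoetherianRing (Submonoid.powers f) B ‹_›
  have : CompactSpace ↥(U ∩ C) := isCompact_iff_compactSpace.1 (NoetherianSpace.isCompact _)
  obtain ⟨⟨Q, hQ⟩, -, hQ'⟩ := IsClosed.exists_closed_singleton (isClosed_univ (X := ↥(U ∩ C))) Set.univ_nonempty
  refine ⟨Q, hQ, ?_⟩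
  rw [mem_closedPoints_iff, PrimeSpectrum.isClosed_singleton_iff_isMaximal]
  obtain ⟨_, ⟨g, rfl⟩, hQg, hgU⟩ :=
    (PrimeSpectrum.isTopologicalBasis_basic_opens (R := B)).exists_subset_of_mem_open hQ.1 hU
  obtain ⟨n, a, ha⟩ := IsLocalization.Away.surj f g
  have hu : IsUnit (algebraMap A B f) := IsLocalization.Away.algebraMap_isUnit f
  let P := PrimeSpectrum.comap (algebraMap A B) Q
  have hfP : f ∉ P.asIdeal := fun h => Q.isPrime.ne_top (Ideal.eq_top_of_isUnit_mem _ h hu)
  have haP : a ∉ P.asIdeal := fun h => by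
    have h' : algebraMap A B a ∈ Q.asIdeal := h
    rw [← ha] at h'
    rcases Q.isPrime.mem_or_mem h' with h'' | h''
    · exact hQg h''
    · exact Q.isPrime.ne_top (Ideal.eq_top_of_isUnit_mem _ h'' (hu.pow n))
  obtain ⟨-, hmax⟩ := ring_finite P (f := f * a) (fun h => (P.isPrime.mem_or_mem h).elim hfP haP) (fun P' hP' => by
    by_contra hfa
    have hfP' : f ∉ P'.asIdeal := fun h => hfa (P'.asIdeal.mul_mem_right a h)
    have hdisj : Disjoint (Submonoid.powers f : Set A) P'.asIdeal := by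
      rw [Set.disjoint_left]
      rintro _ ⟨k, rfl⟩ hk
      exact hfP' (P'.isPrime.mem_of_pow_mem k hk)
    let Q' : PrimeSpectrum B := ⟨P'.asIdeal.map (algebraMap A B),
      IsLocalization.isPrime_of_isPrime_disjoint (Submonoid.powers f) B _ P'.isPrime hdisj⟩
    have hc : Q'.asIdeal.comap (algebraMap A B) = P'.asIdeal :=
      IsLocalization.comap_map_of_isPrime_disjoint (Submonoid.powers f) B P'.isPrime hdisj
    have hle : Q.asIdeal ≤ Q'.asIdeal := by
      rw [← IsLocalization.map_comap (Submonoid.powers f) B Q.asIdeal]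
      exact Ideal.map_mono hP'.le
    have hQ'U : Q' ∈ U := hgU (by
      intro hg
      apply hfa
      refine P'.asIdeal.mul_mem_left f ?_
      have : algebraMap A B a ∈ Q'.asIdeal := ha ▸ Q'.asIdeal.mul_mem_right _ hg
      rw [← hc]
      exact this)
    have hQ'C : Q' ∈ C := ((PrimeSpectrum.le_iff_specializes Q Q').1 hle).mem_closed hC hQ.2
    have h2 : (⟨Q', hQ'U, hQ'C⟩ : ↥(U ∩ C)) ∈ closure {(⟨Q, hQ⟩ : ↥(U ∩ C))} := by
      rw [← specializes_iff_mem_closure, subtype_specializes_iff]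
      exact (PrimeSpectrum.le_iff_specializes Q Q').1 hle
    rw [hQ'.closure_eq, Set.mem_singleton_iff, Subtype.mk.injEq] at h2
    exact hP'.ne (by rw [← hc, h2]; rfl))
  obtain ⟨m, hm, hle⟩ := Q.asIdeal.exists_le_maximal Q.isPrime.ne_top
  by_contra hQm
  have hlt : P.asIdeal < m.comap (algebraMap A B) := by
    refine lt_of_le_of_ne (Ideal.comap_mono hle) (fun he => hQm ?_)
    have : Q.asIdeal = m := by
      rw [← IsLocalization.map_comap (Submonoid.powers f) B Q.asIdeal,
        ← IsLocalization.map_comap (Submonoid.powers f) B m]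
      exact congrArg (Ideal.map (algebraMap A B)) he
    exact this ▸ hm
  have hmm : (m.comap (algebraMap A B)).IsMaximal := hmax ⟨_, hm.isPrime.comap _⟩ hlt
  have hfm : f ∈ m.comap (algebraMap A B) := (Ideal.mem_sInf.1 (hI hf)) ⟨bot_le, hmm⟩
  exact hm.ne_top (Ideal.eq_top_of_isUnit_mem _ hfm hu)

end Groth.Agent.EtAlgEasy.FiniteClosure
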