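import Groth.Agent.WLocalLib.WeakEtale

/-!
Flatness over `B` from flatness over `A` when the multiplication map of `B` is flat.
-/

set_option autoImplicit false

open scoped TensorProduct

universe u

namespace EtAlgEasy

open Groth.Agent.WLocalLib (biAct biAct_tmul toTens toTens_surjective toTens_biAct killed exists_kill)

section

variable {A B : Type u} [CommRing A] [CommRing B] [Algebra A B]
variable (N M : Type u) [AddCommGroup N] [Module A N] [Module B N] [IsScalarTower A B N]
  [AddCommGroup M] [Module A M] [Module B M] [IsScalarTower A B M]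

theorem mem_killed_of_toTens (hB : (Algebra.TensorProduct.lmul' A (S := B)).Flat) {w : N ⊗[A] M}
    (h : toTens (A := A) (B := B) N M w = 0) : w ∈ killed (A := A) (B := B) N M := by
  let K := killed (A := A) (B := B) N M
  let g : N →+ M →+ (N ⊗[A] M) ⧸ K :=
    { toFun := fun n =>
        { toFun := fun m => Submodule.Quotient.mk (n ⊗ₜ[A] m)
          map_zero' := by simp
          map_add' := fun m m' => by simp [TensorProduct.tmul_add] }
      map_zero' := by ext m; simp
      map_add' := fun n n' => by ext m; simp [TensorProduct.add_tmul] }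
  let L : N ⊗[B] M →+ (N ⊗[A] M) ⧸ K := TensorProduct.liftAddHom g fun b n m => by
    show Submodule.Quotient.mk ((b • n) ⊗ₜ[A] m) = Submodule.Quotient.mk (n ⊗ₜ[A] (b • m))
    rw [Submodule.Quotient.eq]
    obtain ⟨s, hs, hsa⟩ := exists_kill hB
      (fun x => ⟨x ⊗ₜ 1, by simp⟩) (b ⊗ₜ[A] 1 - 1 ⊗ₜ[A] b) (by simp)
    refine ⟨s, hs, ?_⟩
    have h1 : (b • n) ⊗ₜ[A] m - n ⊗ₜ[A] (b • m) = biAct N M (b ⊗ₜ[A] 1 - 1 ⊗ₜ[A] b) (n ⊗ₜ[A] m) := by
      rw [map_sub, LinearMap.sub_apply, biAct_tmul, biAct_tmul, one_smul, one_smul]
    rw [h1, ← Module.End.mul_apply, ← map_mul, hsa, map_zero, LinearMap.zero_apply]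
  have hL : ∀ v, L (toTens (A := A) (B := B) N M v) = Submodule.Quotient.mk v := fun v => by
    induction v using TensorProduct.induction_on with
    | zero => simp
    | tmul n m => rfl
    | add x y hx hy => rw [map_add, map_add, hx, hy, Submodule.Quotient.mk_add]
  have := hL w
  rw [h, map_zero] at this
  exact (Submodule.Quotient.mk_eq_zero _).1 this.symm

end

/-- A module over a weakly étale algebra which is flat over the base is flat. -/
theorem flat_of_flat_lmul {A B : Type u} [CommRing A] [CommRing B] [Algebra A B]
    (hB : (Algebra.TensorProduct.lmul' A (S := B)).Flat) (N : Type u) [AddCommGroup N] [Module A N] [Module B N]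
    [IsScalarTower A B N] [Module.Flat A N] : Module.Flat B N := by
  rw [Module.Flat.iff_lTensor_preserves_injective_linearMap]
  intro M M' _ _ _ _ f hf
  letI : Module A M := Module.compHom M (algebraMap A B)
  haveI : IsScalarTower A B M := IsScalarTower.of_algebraMap_smul fun _ _ => rfl
  letI : Module A M' := Module.compHom M' (algebraMap A B)
  haveI : IsScalarTower A B M' := IsScalarTower.of_algebraMap_smul fun _ _ => rfl
  rw [injective_iff_map_eq_zero]
  intro z hz
  obtain ⟨z, rfl⟩ := toTens_surjective (A := A) (B := B) N M z
  let fA : M →ₗ[A] M' := f.restrictScalars A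
  have hnat : ∀ v, toTens (A := A) (B := B) N M' (fA.lTensor N v) =
      f.lTensor N (toTens (A := A) (B := B) N M v) := fun v => by
    induction v using TensorProduct.induction_on with
    | zero => simp
    | tmul n m => rfl
    | add x y hx hy => simp only [map_add, hx, hy]
  obtain ⟨s, hs, hsz⟩ := mem_killed_of_toTens (A := A) (B := B) N M' hB ((hnat z).trans hz)
  have hcomm : ∀ (s : B ⊗[A] B) (v : N ⊗[A] M),
      fA.lTensor N (biAct N M s v) = biAct N M' s (fA.lTensor N v) := fun s v => by
    induction s using TensorProduct.induction_on with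
    | zero => simp
    | tmul b c =>
      induction v using TensorProduct.induction_on with
      | zero => simp
      | tmul n m => simp [biAct_tmul, fA]
      | add x y hx hy => simp only [map_add, hx, hy]
    | add x y hx hy => simp only [map_add, LinearMap.add_apply, hx, hy]
  have h0 : biAct N M s z = 0 :=
    Module.Flat.lTensor_preserves_injective_linearMap fA hf ((hcomm s z).trans (hsz.trans (map_zero _).symm))
  have := congrArg (toTens (A := A) (B := B) N M) h0
  rwa [toTens_biAct, hs, one_smul, map_zero] at this

end EtAlgEasy
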