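import Groth.Prelude.Def_ProCons
import Mathlib

/-!
Constructible sets and dense points.
-/

set_option autoImplicit false

universe u

open TopologicalSpace Topology Set

namespace Groth.Agent.EtAlgEasy.GenericNbhd

variable {X : Type u} [TopologicalSpace X] {x : X}

/-- A point lying in every nonempty open set is interior to a constructible set or to its complement. -/
theorem isConstructible_mem_interior (hx : ∀ U : Set X, IsOpen U → U.Nonempty → x ∈ U) {E : Set X}
    (hE : IsConstructible E) : (x ∈ E → x ∈ interior E) ∧ (x ∉ E → x ∈ interior Eᶜ) := by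
  induction hE using IsConstructible.empty_union_induction with
  | open_retrocompact U hU _ =>
      refine ⟨fun h => by rwa [hU.interior_eq], fun h => ?_⟩
      rcases U.eq_empty_or_nonempty with rfl | hne
      · simp
      · exact absurd (hx U hU hne) h
  | union s _ t _ hs ht =>
      refine ⟨fun h => ?_, fun h => ?_⟩
      · rcases h with h | h
        · exact interior_mono subset_union_left (hs.1 h)
        · exact interior_mono subset_union_right (ht.1 h)
      · rw [compl_union, interior_inter]
        exact ⟨hs.2 fun hc => h (Or.inl hc), ht.2 fun hc => h (Or.inr hc)⟩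
  | compl s _ hs =>
      refine ⟨fun h => hs.2 h, fun h => ?_⟩
      rw [compl_compl]
      exact hs.1 (not_not.1 h)

theorem mem_interior_or_of_isLocallyConstructible (hx : ∀ U : Set X, IsOpen U → U.Nonempty → x ∈ U) {E : Set X}
    (hE : IsLocallyConstructible E) : x ∈ interior E ∨ x ∈ interior Eᶜ := by
  obtain ⟨W, hW, hWo, hc⟩ := hE x
  have hxW : x ∈ W := mem_of_mem_nhds hW
  have hx' : ∀ U : Set W, IsOpen U → U.Nonempty → (⟨x, hxW⟩ : W) ∈ U := fun U hU hne => by
    obtain ⟨y, hy, he⟩ := hx _ (hWo.isOpenMap_subtype_val U hU) (hne.image _)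
    rwa [show y = (⟨x, hxW⟩ : W) from Subtype.ext he] at hy
  have key := isConstructible_mem_interior hx' hc
  by_cases h : x ∈ E
  · left
    have := mem_image_of_mem Subtype.val (key.1 h)
    exact interior_maximal (fun y hy => by obtain ⟨z, hz, rfl⟩ := hy; exact (interior_subset hz :))
      (hWo.isOpenMap_subtype_val _ isOpen_interior) this
  · right
    have := mem_image_of_mem Subtype.val (key.2 h)
    exact interior_maximal (fun y hy => by obtain ⟨z, hz, rfl⟩ := hy; exact (interior_subset hz :))
      (hWo.isOpenMap_subtype_val _ isOpen_interior) this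

theorem mem_interior_of_isIndConstructible (hx : ∀ U : Set X, IsOpen U → U.Nonempty → x ∈ U) {E : Set X}
    (hE : ProCons.IsIndConstructible E) (hxE : x ∈ E) : x ∈ interior E := by
  obtain ⟨W, hWo, hxW, S, hS, hSe⟩ := hE x
  have hx' : ∀ U : Set W, IsOpen U → U.Nonempty → (⟨x, hxW⟩ : W) ∈ U := fun U hU hne => by
    obtain ⟨y, hy, he⟩ := hx _ (hWo.isOpenMap_subtype_val U hU) (hne.image _)
    rwa [show y = (⟨x, hxW⟩ : W) from Subtype.ext he] at hy
  obtain ⟨T, hT, hxT⟩ := (hSe.le (show (⟨x, hxW⟩ : W) ∈ Subtype.val ⁻¹' E from hxE) :)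
  rcases mem_interior_or_of_isLocallyConstructible hx' (hS T hT) with h | h
  · refine interior_maximal (fun y hy => ?_) (hWo.isOpenMap_subtype_val _ isOpen_interior)
      (mem_image_of_mem Subtype.val h)
    obtain ⟨z, hz, rfl⟩ := hy
    exact (hSe.ge ⟨T, hT, interior_subset hz⟩ :)
  · exact absurd hxT (interior_subset h)

end Groth.Agent.EtAlgEasy.GenericNbhd
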