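import Groth.Agent.EtAlgEasy.PrinPartStalk
import Groth.Agent.EtAlgEasy.PrinPartO
import Groth.Agent.EtAlgEasy.GrMapStalk
import Mathlib

/-!
Base change of the sheaves of principal parts.
-/

set_option autoImplicit false
set_option backward.isDefEq.respectTransparency false

universe u

open CategoryTheory CategoryTheory.Limits AlgebraicGeometry TopologicalSpace Opposite
open scoped TensorProduct
open Groth.Agent.PullbackMod Groth.Agent.ParaFLib Groth.Agent.EtAlgEasy.PrinPartStalk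

namespace Groth.Agent.EtAlgEasy.PrinPartBC

/-- A local map out of a stalk is determined by its morphism from the spectrum. -/
theorem eq_of_specMap_fromSpecStalk {X : Scheme.{u}} {x : X} {Q : CommRingCat.{u}} [IsLocalRing Q]
    (φ ψ : X.presheaf.stalk x ⟶ Q) (hφ : IsLocalHom φ.hom) (hψ : IsLocalHom ψ.hom)
    (h : Spec.map φ ≫ X.fromSpecStalk x = Spec.map ψ ≫ X.fromSpecStalk x) : φ = ψ := by
  refine CommRingCat.hom_ext (RingHom.ext fun a => ?_)
  obtain ⟨U, hU, a, rfl⟩ := TopCat.Presheaf.exists_germ_eq X.presheaf a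
  let g := Spec.map φ ≫ X.fromSpecStalk x
  have hg : g (IsLocalRing.closedPoint Q) ∈ U := by
    show (Spec.map φ ≫ X.fromSpecStalk x) (IsLocalRing.closedPoint Q) ∈ U
    rw [Scheme.Hom.comp_apply, Spec_closedPoint, Scheme.fromSpecStalk_closedPoint]; exact hU
  exact (germ_closedPointTo_of_eq φ g rfl U hU hg a).symm.trans (germ_closedPointTo_of_eq ψ g h U hU hg a)

/-- A morphism from the spectrum of a local ring as a local map out of a stalk. -/
theorem exists_stalk_hom {X : Scheme.{u}} {Q : CommRingCat.{u}} [IsLocalRing Q] (k : Spec Q ⟶ X) {x : X}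
    (hk : k (IsLocalRing.closedPoint Q) = x) :
    ∃ φ : X.presheaf.stalk x ⟶ Q, IsLocalHom φ.hom ∧ Spec.map φ ≫ X.fromSpecStalk x = k := by
  subst hk
  exact ⟨Scheme.stalkClosedPointTo k, inferInstance, Scheme.Spec_stalkClosedPointTo_fromSpecStalk k⟩

theorem isLocalHom_σ₁ {X S : Scheme.{u}} (f : X ⟶ S) (n : ℕ) (x : X) : IsLocalHom (σ₁ f n x).hom :=
  ⟨fun a ha => by
    have h := ha.map (aug f n x).hom
    rwa [show (aug f n x).hom ((σ₁ f n x).hom a) = a from aug_σ₁ f n a] at h⟩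

theorem isLocalHom_σ₂ {X S : Scheme.{u}} (f : X ⟶ S) (n : ℕ) (x : X) : IsLocalHom (σ₂ f n x).hom :=
  ⟨fun a ha => by
    have h := ha.map (aug f n x).hom
    rwa [show (aug f n x).hom ((σ₂ f n x).hom a) = a from aug_σ₂ f n a] at h⟩

/-- The stalk of `P^n` is the local ring of the neighbourhood. -/
theorem exists_ρO {X S : Scheme.{u}} (f : X ⟶ S) (n : ℕ) (x : X) :
    ∃ ρ : (PrinPart.P f n).presheaf.stalk x →+ (PrinPart.nbhd f n).presheaf.stalk (PrinPart.toNbhd f n x),
      Function.Bijective ρ ∧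
      (∀ (a : X.presheaf.stalk x) w, ρ (a • w) = σ₁ f n x a * ρ w) ∧
      ∀ (U : X.Opens) (hU : x ∈ U) (b : Γ(X, U)),
        ρ ((PrinPart.P f n).presheaf.germ U x hU (PrinPart.dn f n U b)) = σ₂ f n x (X.presheaf.germ U x hU b) := by
  let p := PrinPart.pr1 f n
  let z := PrinPart.toNbhd f n x
  let O := Coh.structureModule (PrinPart.nbhd f n)
  let P := PrinPart.P f n
  let G := (Scheme.Modules.pushforward p).obj O
  haveI : IsIso (TopCat.Presheaf.stalkPushforward Ab p.base O.presheaf z) :=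
    TopCat.Presheaf.stalkPushforward.stalkPushforward_iso_of_isInducing Ab (f := p.base) (PrinPartGen.isInducing_pr1 f n) _ _
  let α : P.presheaf.stalk x ⟶ G.presheaf.stalk x :=
    (TopCat.Presheaf.stalkFunctor AddCommGrpCat.{u} x).map (PrinPartO.αP f n).hom.mapPresheaf
  haveI : IsIso α := ⟨(TopCat.Presheaf.stalkFunctor AddCommGrpCat.{u} x).map (PrinPartO.αP f n).inv.mapPresheaf,
    ((TopCat.Presheaf.stalkFunctor AddCommGrpCat.{u} x).map_comp _ _).symm.trans
      ((congrArg (fun (e : P ⟶ P) => (TopCat.Presheaf.stalkFunctor AddCommGrpCat.{u} x).map e.mapPresheaf)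
        (PrinPartO.αP f n).hom_inv_id).trans ((TopCat.Presheaf.stalkFunctor AddCommGrpCat.{u} x).map_id _)),
    ((TopCat.Presheaf.stalkFunctor AddCommGrpCat.{u} x).map_comp _ _).symm.trans
      ((congrArg (fun (e : G ⟶ G) => (TopCat.Presheaf.stalkFunctor AddCommGrpCat.{u} x).map e.mapPresheaf)
        (PrinPartO.αP f n).inv_hom_id).trans ((TopCat.Presheaf.stalkFunctor AddCommGrpCat.{u} x).map_id _))⟩
  let e := G.presheaf.stalkSpecializes (specializes_of_eq (pr1_toNbhd_apply f n x))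
  haveI : IsIso e := ⟨G.presheaf.stalkSpecializes (specializes_of_eq (pr1_toNbhd_apply f n x).symm),
    by simp [e], by simp [e]⟩
  let tot := α ≫ e ≫ TopCat.Presheaf.stalkPushforward Ab p.base O.presheaf z
  let ρ : P.presheaf.stalk x →+ (PrinPart.nbhd f n).presheaf.stalk z :=
    AddMonoidHom.mk' (fun w => (LinearEquiv.ofBijective
      ({ toFun := fun r => r • oneG z
         map_add' := fun a b => add_smul a b _
         map_smul' := fun a r => mul_smul a r _ } :
        (PrinPart.nbhd f n).presheaf.stalk z →ₗ[(PrinPart.nbhd f n).presheaf.stalk z] O.presheaf.stalk z)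
      (bijective_oneG z)).symm (tot w)) (fun a b => by rw [map_add]; exact map_add _ _ _)
  have hg : ∀ (U : X.Opens) (hU : x ∈ U) (m : Γ(P, U)),
      ρ (P.presheaf.germ U x hU m) = (PrinPart.nbhd f n).presheaf.germ (p ⁻¹ᵁ U) z (mem_pr1_preimage f n hU)
        (OmegaSh.fnSect (PrinPart.nbhd f n) (p ⁻¹ᵁ U) ((PrinPartO.αP f n).hom.app U m)) := by
    intro U hU m
    show (LinearEquiv.ofBijective _ _).symm _ = _
    rw [LinearEquiv.symm_apply_eq]
    show tot (P.presheaf.germ U x hU m) = (LinearEquiv.ofBijective _ (bijective_oneG z)) _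
    have h1 : tot (P.presheaf.germ U x hU m) =
        O.presheaf.germ (p ⁻¹ᵁ U) z (mem_pr1_preimage f n hU) ((PrinPartO.αP f n).hom.app U m) := by
      show TopCat.Presheaf.stalkPushforward Ab p.base O.presheaf z (e (α (P.presheaf.germ U x hU m))) = _
      rw [show α (P.presheaf.germ U x hU m) = G.presheaf.germ U x hU ((PrinPartO.αP f n).hom.app U m) from
        TopCat.Presheaf.stalkFunctor_map_germ_apply U x hU _ m,
        show e (G.presheaf.germ U x hU ((PrinPartO.αP f n).hom.app U m)) =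
          G.presheaf.germ U (p z) (mem_pr1_preimage f n hU) ((PrinPartO.αP f n).hom.app U m) from
        TopCat.Presheaf.germ_stalkSpecializes_apply _ _ _ _]
      exact ConcreteCategory.congr_hom (TopCat.Presheaf.stalkPushforward_germ Ab p.base O.presheaf U z
        (mem_pr1_preimage f n hU)) _
    rw [h1]
    have h2 : oneG z = O.presheaf.germ (p ⁻¹ᵁ U) z (mem_pr1_preimage f n hU) (1 : Γ(PrinPart.nbhd f n, p ⁻¹ᵁ U)) := by
      refine Eq.trans ?_ (congrArg _ ((PrinPart.nbhd f n).presheaf.map (homOfLE (le_top : p ⁻¹ᵁ U ≤ ⊤)).op).hom.map_one)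
      exact (TopCat.Presheaf.germ_res_apply O.presheaf
        (homOfLE (le_top : p ⁻¹ᵁ U ≤ ⊤)) z (mem_pr1_preimage f n hU) (1 : Γ(PrinPart.nbhd f n, ⊤))).symm
    refine Eq.trans ?_ (congrArg (fun q => (PrinPart.nbhd f n).presheaf.germ (p ⁻¹ᵁ U) z (mem_pr1_preimage f n hU)
      (OmegaSh.fnSect (PrinPart.nbhd f n) (p ⁻¹ᵁ U) ((PrinPartO.αP f n).hom.app U m)) • q) h2.symm)
    refine Eq.trans ?_ (PresheafOfModules.germ_smul (R := (PrinPart.nbhd f n).presheaf) O.val z (p ⁻¹ᵁ U)
      (mem_pr1_preimage f n hU) _ _)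
    refine congrArg _ ?_
    exact (mul_one (OmegaSh.fnSect (PrinPart.nbhd f n) (p ⁻¹ᵁ U) ((PrinPartO.αP f n).hom.app U m) :
      Γ(PrinPart.nbhd f n, p ⁻¹ᵁ U))).symm
  refine ⟨ρ, ?_, ?_, ?_⟩
  · exact (LinearEquiv.bijective _).comp (ConcreteCategory.bijective_of_isIso tot)
  · intro a w
    obtain ⟨V, hV, a, rfl⟩ := TopCat.Presheaf.exists_germ_eq X.presheaf a
    obtain ⟨W, hW, m, rfl⟩ := TopCat.Presheaf.exists_germ_eq P.presheaf w
    have hx : x ∈ V ⊓ W := ⟨hV, hW⟩
    rw [← X.presheaf.germ_res_apply (homOfLE (inf_le_left : V ⊓ W ≤ V)) x hx a,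
      ← P.presheaf.germ_res_apply (homOfLE (inf_le_right : V ⊓ W ≤ W)) x hx m]
    set a' := X.presheaf.map (homOfLE (inf_le_left : V ⊓ W ≤ V)).op a
    set m' := P.presheaf.map (homOfLE (inf_le_right : V ⊓ W ≤ W)).op m
    erw [← PresheafOfModules.germ_smul (R := X.presheaf) P.val x (V ⊓ W) hx]
    refine (hg _ hx _).trans ?_
    rw [hg, σ₁_germ, ← map_mul]
    refine congrArg _ ?_
    erw [Scheme.Modules.Hom.app_smul]
    rfl
  · intro U hU b
    rw [hg, PrinPartO.αP_dn, σ₂_germ]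
    exact (PrinPart.nbhd f n).presheaf.germ_res_apply _ _ _ _

variable {X S X' S' : Scheme.{u}} (f : X ⟶ S) (g : S' ⟶ S) (u : X' ⟶ X) (f' : X' ⟶ S')
  (hsq : IsPullback u f' f g) (n : ℕ)

include hsq in
/-- The map of stalks of the neighbourhoods. -/
theorem exists_ν (x' : X') :
    ∃ ν : (PrinPart.nbhd f n).presheaf.stalk (PrinPart.toNbhd f n (u x')) →+*
        (PrinPart.nbhd f' n).presheaf.stalk (PrinPart.toNbhd f' n x'),
      (∀ a, ν (σ₁ f n (u x') a) = σ₁ f' n x' (u.stalkMap x' a)) ∧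
      ∀ b, ν (σ₂ f n (u x') b) = σ₂ f' n x' (u.stalkMap x' b) := by
  let x := u x'
  letI := algStalk f x
  let z' := PrinPart.toNbhd f' n x'
  let Q' := (PrinPart.nbhd f' n).presheaf.stalk z'
  letI : Algebra (S.presheaf.stalk (f x)) Q' := (f.stalkMap x ≫ u.stalkMap x' ≫ σ₁ f' n x').hom.toAlgebra
  have hagree : ∀ r, σ₁ f' n x' (u.stalkMap x' (f.stalkMap x r)) = σ₂ f' n x' (u.stalkMap x' (f.stalkMap x r)) := by
    intro r
    have h : f (u x') = g (f' x') := by
      rw [← Scheme.Hom.comp_apply, hsq.w, Scheme.Hom.comp_apply]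
    obtain ⟨c, rfl⟩ : ∃ c, S.presheaf.stalkSpecializes (specializes_of_eq h) c = r :=
      ⟨S.presheaf.stalkSpecializes (specializes_of_eq h.symm) r, by
        rw [← CommRingCat.comp_apply, TopCat.Presheaf.stalkSpecializes_comp, TopCat.Presheaf.stalkSpecializes_refl]; rfl⟩
    have h2 := GrMapStalk.stalk_square hsq.w x' h c
    rw [CommRingCat.comp_apply] at h2
    rw [h2]
    exact σ_agree f' n x' _
  let l₁ : X.presheaf.stalk x →ₐ[S.presheaf.stalk (f x)] Q' :=
    { toRingHom := (u.stalkMap x' ≫ σ₁ f' n x').hom, commutes' := fun _ => rfl }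
  let l₂ : X.presheaf.stalk x →ₐ[S.presheaf.stalk (f x)] Q' :=
    { toRingHom := (u.stalkMap x' ≫ σ₂ f' n x').hom, commutes' := fun r => (hagree r).symm }
  let ν₀ : T f x →+* Q' := (Algebra.TensorProduct.lift l₁ l₂ (fun _ _ => Commute.all _ _)).toRingHom
  have hν₀ : ∀ a b, ν₀ (a ⊗ₜ[S.presheaf.stalk (f x)] b) =
      σ₁ f' n x' (u.stalkMap x' a) * σ₂ f' n x' (u.stalkMap x' b) := fun a b => by
    show Algebra.TensorProduct.lift (S := S.presheaf.stalk (f x)) l₁ l₂ _ (a ⊗ₜ[S.presheaf.stalk (f x)] b) = _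
    rw [Algebra.TensorProduct.lift_tmul]; rfl
  have hker : RingHom.ker (θ₀ f n x) ≤ RingHom.ker ν₀ := by
    rw [ker_θ₀]
    let J := KaehlerDifferential.ideal (S.presheaf.stalk (f x)) (X.presheaf.stalk x)
    have hJ : J ≤ Ideal.comap ν₀ (RingHom.ker (aug f' n x').hom) := by
      intro t ht
      rw [Ideal.mem_comap, RingHom.mem_ker]
      have : ∀ t, aug f' n x' (ν₀ t) = u.stalkMap x' (Algebra.TensorProduct.lmul' (S.presheaf.stalk (f x)) t) := by
        intro t
        induction t using TensorProduct.induction_on with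
        | zero => rw [map_zero, map_zero, map_zero, map_zero]
        | tmul a b => rw [hν₀, map_mul, aug_σ₁, aug_σ₂, ← map_mul]; rfl
        | add p q hp hq => rw [map_add, map_add, map_add, map_add, hp, hq]
      refine (this t).trans ?_
      rw [show Algebra.TensorProduct.lmul' (S.presheaf.stalk (f x)) t = 0 from ht, map_zero]
    intro t ht
    have := Ideal.le_comap_pow ν₀ (n + 1) (Ideal.pow_right_mono hJ _ ht)
    rwa [ker_aug_pow, Ideal.mem_comap, Ideal.mem_bot] at this
  let ν := RingHom.liftOfSurjective (θ₀ f n x) (θ₀_surjective f n x) ⟨ν₀, hker⟩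
  have hν : ∀ t, ν (θ₀ f n x t) = ν₀ t := fun t =>
    RingHom.liftOfSurjective_comp_apply _ _ _ t
  refine ⟨ν, fun a => ?_, fun b => ?_⟩
  · have := hν (a ⊗ₜ 1)
    rw [θ₀_tmul, hν₀] at this
    simpa using this
  · have := hν (1 ⊗ₜ b)
    rw [θ₀_tmul, hν₀] at this
    simpa using this

include hsq in
/-- Ring form of the base change: `O_{x'} ⊗ P_x = P'_{x'}`. -/
theorem bijective_Φ (x' : X') (ν : (PrinPart.nbhd f n).presheaf.stalk (PrinPart.toNbhd f n (u x')) →+*
        (PrinPart.nbhd f' n).presheaf.stalk (PrinPart.toNbhd f' n x'))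
    (hν₁ : ∀ a, ν (σ₁ f n (u x') a) = σ₁ f' n x' (u.stalkMap x' a))
    (hν₂ : ∀ b, ν (σ₂ f n (u x') b) = σ₂ f' n x' (u.stalkMap x' b)) :
    letI : Algebra (X.presheaf.stalk (u x')) (X'.presheaf.stalk x') := (u.stalkMap x').hom.toAlgebra
    letI : Algebra (X.presheaf.stalk (u x')) ((PrinPart.nbhd f n).presheaf.stalk (PrinPart.toNbhd f n (u x'))) :=
      (σ₁ f n (u x')).hom.toAlgebra
    ∃ Φ : X'.presheaf.stalk x' ⊗[X.presheaf.stalk (u x')] (PrinPart.nbhd f n).presheaf.stalk (PrinPart.toNbhd f n (u x'))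
        →+* (PrinPart.nbhd f' n).presheaf.stalk (PrinPart.toNbhd f' n x'),
      Function.Bijective Φ ∧ ∀ a q, Φ (a ⊗ₜ q) = σ₁ f' n x' a * ν q := by
  let x := u x'
  let A := X.presheaf.stalk x
  let A' := X'.presheaf.stalk x'
  let Qx := (PrinPart.nbhd f n).presheaf.stalk (PrinPart.toNbhd f n x)
  let Q' := (PrinPart.nbhd f' n).presheaf.stalk (PrinPart.toNbhd f' n x')
  letI : Algebra A A' := (u.stalkMap x').hom.toAlgebra
  letI : Algebra A Qx := (σ₁ f n x).hom.toAlgebra
  letI : Algebra A Q' := (u.stalkMap x' ≫ σ₁ f' n x').hom.toAlgebra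
  let l₁ : A' →ₐ[A] Q' := { toRingHom := (σ₁ f' n x').hom, commutes' := fun _ => rfl }
  let l₂ : Qx →ₐ[A] Q' := { toRingHom := ν, commutes' := hν₁ }
  let T' := A' ⊗[A] Qx
  let Φ : T' →+* Q' := (Algebra.TensorProduct.lift l₁ l₂ (fun _ _ => Commute.all _ _)).toRingHom
  have hΦ : ∀ a q, Φ (a ⊗ₜ q) = σ₁ f' n x' a * ν q := fun a q => by
    show Algebra.TensorProduct.lift (S := A) l₁ l₂ _ (a ⊗ₜ[A] q) = _
    rw [Algebra.TensorProduct.lift_tmul]; rfl
  refine ⟨Φ, ?_, hΦ⟩
  let incL : A' →+* T' := Algebra.TensorProduct.includeLeftRingHom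
  let incR : Qx →+* T' := (Algebra.TensorProduct.includeRight : Qx →ₐ[A] T').toRingHom
  have hinc : ∀ a, incL (u.stalkMap x' a) = incR (σ₁ f n x a) := fun a => by
    show (algebraMap A A' a) ⊗ₜ[A] (1 : Qx) = (1 : A') ⊗ₜ[A] (algebraMap A Qx a)
    rw [Algebra.algebraMap_eq_smul_one, TensorProduct.smul_tmul, ← Algebra.algebraMap_eq_smul_one]
  let pL : A' →ₐ[A] A' := AlgHom.id A A'
  let pR : Qx →ₐ[A] A' :=
    { toRingHom := (u.stalkMap x').hom.comp (aug f n x).hom
      commutes' := fun a => congrArg (u.stalkMap x') (aug_σ₁ f n a) }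
  let π : T' →+* A' := (Algebra.TensorProduct.lift pL pR (fun _ _ => Commute.all _ _)).toRingHom
  have hπL : ∀ a, π (incL a) = a := fun a => by
    show Algebra.TensorProduct.lift (S := A) pL pR _ (a ⊗ₜ[A] (1 : Qx)) = a
    rw [Algebra.TensorProduct.lift_tmul, map_one, mul_one]; rfl
  have hπR : ∀ q, π (incR q) = u.stalkMap x' (aug f n x q) := fun q => by
    show Algebra.TensorProduct.lift (S := A) pL pR _ ((1 : A') ⊗ₜ[A] q) = _
    rw [Algebra.TensorProduct.lift_tmul, map_one, one_mul]; rfl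
  have hdec : ∀ a q, a ⊗ₜ[A] q = incL a * incR q := fun a q => by
    show _ = (a ⊗ₜ[A] (1 : Qx)) * ((1 : A') ⊗ₜ[A] q)
    rw [Algebra.TensorProduct.tmul_mul_tmul, mul_one, one_mul]
  have hπ : Function.Surjective π := fun a => ⟨incL a, hπL a⟩
  have hkerπ : RingHom.ker π ≤ (RingHom.ker (aug f n x).hom).map incR := by
    have key : ∀ t, t - incL (π t) ∈ (RingHom.ker (aug f n x).hom).map incR := by
      intro t
      induction t using TensorProduct.induction_on with
      | zero => rw [map_zero, map_zero, sub_zero]; exact zero_mem _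
      | tmul a q =>
        have e : (a ⊗ₜ[A] q) - incL (π (a ⊗ₜ[A] q)) = incL a * incR (q - σ₁ f n x (aug f n x q)) := by
          rw [hdec, map_mul, hπL, hπR, map_mul incL, hinc, map_sub, mul_sub]
        rw [e]
        exact Ideal.mul_mem_left _ _ (Ideal.mem_map_of_mem _ (by
          rw [RingHom.mem_ker]
          show aug f n x (q - σ₁ f n x (aug f n x q)) = 0
          rw [map_sub, aug_σ₁, sub_self]))
      | add p q hp hq =>
        rw [map_add, map_add, add_sub_add_comm]; exact add_mem hp hq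
    intro t ht
    have := key t
    rwa [RingHom.mem_ker.1 ht, map_zero, sub_zero] at this
  have hkpow : RingHom.ker π ^ (n + 1) = ⊥ := by
    refine le_bot_iff.1 ((Ideal.pow_right_mono hkerπ _).trans ?_)
    rw [← Ideal.map_pow, ker_aug_pow, Ideal.map_bot]
  haveI : Nontrivial T' := π.domain_nontrivial
  have hunit : ∀ t, IsUnit (π t) → IsUnit t := by
    intro t ht
    obtain ⟨b, hb⟩ := ht.exists_right_inv
    obtain ⟨b, rfl⟩ := hπ b
    have hnil : IsNilpotent (t * b - 1) := ⟨n + 1, by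
      have : (t * b - 1) ^ (n + 1) ∈ RingHom.ker π ^ (n + 1) :=
        Ideal.pow_mem_pow (by rw [RingHom.mem_ker, map_sub, map_mul, hb, map_one, sub_self]) _
      rwa [hkpow, Ideal.mem_bot] at this⟩
    have := hnil.isUnit_one_add
    rw [show 1 + (t * b - 1) = t * b by ring] at this
    exact isUnit_of_mul_isUnit_left this
  haveI : IsLocalRing T' := IsLocalRing.of_isUnit_or_isUnit_one_sub_self fun t => by
    rcases IsLocalRing.isUnit_or_isUnit_one_sub_self (π t) with h | h
    · exact Or.inl (hunit t h)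
    · exact Or.inr (hunit _ (by rwa [map_sub, map_one]))
  let R : CommRingCat.{u} := CommRingCat.of T'
  haveI : IsLocalRing R := inferInstanceAs (IsLocalRing T')
  let πc : R ⟶ A' := CommRingCat.ofHom π
  let j₁ : A' ⟶ R := CommRingCat.ofHom incL
  let r₂ : A ⟶ R := σ₂ f n x ≫ CommRingCat.ofHom incR
  have hj₁ : IsLocalHom j₁.hom := ⟨fun a ha => by
    have := ha.map π
    rwa [show π (j₁.hom a) = a from hπL a] at this⟩
  haveI := hj₁
  have hj₁π : j₁ ≫ πc = 𝟙 A' := CommRingCat.hom_ext (RingHom.ext hπL)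
  have hr₂π : r₂ ≫ πc = u.stalkMap x' := CommRingCat.hom_ext (RingHom.ext fun a => by
    show π (incR (σ₂ f n x a)) = _
    rw [hπR, aug_σ₂])
  have hr₂ : IsLocalHom r₂.hom := ⟨fun a ha => by
    have := ha.map πc.hom
    rw [show πc.hom (r₂.hom a) = u.stalkMap x' a from ConcreteCategory.congr_hom hr₂π a] at this
    exact (isUnit_map_iff (u.stalkMap x').hom a).1 this⟩
  have hu_j₁ : u.stalkMap x' ≫ j₁ = σ₁ f n x ≫ CommRingCat.ofHom incR :=
    CommRingCat.hom_ext (RingHom.ext hinc)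
  have hagree : f.stalkMap x ≫ σ₁ f n x = f.stalkMap x ≫ σ₂ f n x :=
    CommRingCat.hom_ext (RingHom.ext (σ_agree f n x))
  have hw : (Spec.map r₂ ≫ X.fromSpecStalk x) ≫ f = (Spec.map j₁ ≫ X'.fromSpecStalk x' ≫ f') ≫ g := by
    rw [Category.assoc, Category.assoc, Category.assoc, ← hsq.w, ← Scheme.SpecMap_stalkMap_fromSpecStalk_assoc,
      ← Spec.map_comp_assoc, ← Scheme.SpecMap_stalkMap_fromSpecStalk, ← Spec.map_comp_assoc, ← Spec.map_comp_assoc,
      hu_j₁, ← Category.assoc, ← Category.assoc, hagree, Category.assoc]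
  let k : Spec R ⟶ X' := hsq.lift _ _ hw
  have hku : k ≫ u = Spec.map r₂ ≫ X.fromSpecStalk x := hsq.lift_fst _ _ hw
  have hkf : k ≫ f' = Spec.map j₁ ≫ X'.fromSpecStalk x' ≫ f' := hsq.lift_snd _ _ hw
  have hπk : Spec.map πc ≫ k = X'.fromSpecStalk x' := by
    apply hsq.hom_ext
    · rw [Category.assoc, hku, ← Spec.map_comp_assoc, hr₂π, Scheme.SpecMap_stalkMap_fromSpecStalk]
    · rw [Category.assoc, hkf, ← Spec.map_comp_assoc, hj₁π, Spec.map_id, Category.id_comp]
  have hk : k (IsLocalRing.closedPoint R) = x' := by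
    haveI : IsLocalHom π := ⟨hunit⟩
    have e : Spec.map πc (IsLocalRing.closedPoint A') = IsLocalRing.closedPoint R := IsLocalRing.comap_closedPoint π
    rw [← e, ← Scheme.Hom.comp_apply, hπk, Scheme.fromSpecStalk_closedPoint]
  obtain ⟨j₂, hj₂, hj₂k⟩ := exists_stalk_hom k hk
  haveI := hj₂
  haveI : IsLocalHom πc.hom := ⟨hunit⟩
  have hj₂π : j₂ ≫ πc = 𝟙 A' := by
    refine eq_of_specMap_fromSpecStalk _ _ (RingHom.isLocalHom_comp _ _) ⟨fun a ha => ha⟩ ?_
    rw [Spec.map_comp_assoc, hj₂k, hπk, Spec.map_id, Category.id_comp]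
  haveI hlu : IsLocalHom (u.stalkMap x').hom := inferInstance
  haveI : IsLocalHom (u.stalkMap x').hom' := hlu
  haveI hlf : IsLocalHom (f'.stalkMap x').hom := inferInstance
  haveI : IsLocalHom (f'.stalkMap x').hom' := hlf
  have hu_j₂ : u.stalkMap x' ≫ j₂ = r₂ := by
    refine eq_of_specMap_fromSpecStalk _ _ (RingHom.isLocalHom_comp _ _) hr₂ ?_
    rw [Spec.map_comp_assoc, Scheme.SpecMap_stalkMap_fromSpecStalk, ← Category.assoc, hj₂k, hku]
  have hcond : f'.stalkMap x' ≫ j₁ = f'.stalkMap x' ≫ j₂ := by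
    refine eq_of_specMap_fromSpecStalk _ _ (RingHom.isLocalHom_comp _ _) (RingHom.isLocalHom_comp _ _) ?_
    rw [Spec.map_comp_assoc, Spec.map_comp_assoc, Scheme.SpecMap_stalkMap_fromSpecStalk, ← Category.assoc (Spec.map j₂), hj₂k, hkf]
  obtain ⟨ψ, hψ₁, hψ₂⟩ := exists_ψ f' n x' T' π hπ hkpow hunit j₁ j₂ hj₁π hj₂π hcond
  have hleft : ∀ t, ψ (Φ t) = t := by
    intro t
    induction t using TensorProduct.induction_on with
    | zero => rw [map_zero, map_zero]
    | tmul a q =>
      rw [hΦ, map_mul, hψ₁]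
      have hq : ψ (ν q) = incR q := by
        letI := algStalk f x
        obtain ⟨t, rfl⟩ := θ₀_surjective f n x q
        induction t using TensorProduct.induction_on with
        | zero => rw [map_zero, map_zero, map_zero, map_zero]
        | tmul c b =>
          rw [θ₀_tmul, map_mul, hν₁, hν₂, map_mul, map_mul, hψ₁, hψ₂]
          exact congrArg₂ (· * ·) (hinc c) (ConcreteCategory.congr_hom hu_j₂ b)
        | add p q hp hq => rw [map_add, map_add, map_add, map_add, hp, hq]
      rw [hq]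
      exact (hdec a q).symm
    | add p q hp hq => rw [map_add, map_add, hp, hq]
  refine ⟨Function.LeftInverse.injective hleft, ?_⟩
  let Φc : R ⟶ Q' := CommRingCat.ofHom Φ
  have hΦπ : ∀ t, aug f' n x' (Φ t) = π t := by
    intro t
    induction t using TensorProduct.induction_on with
    | zero => rw [map_zero, map_zero, map_zero]
    | tmul a q =>
      rw [hdec, map_mul Φ, map_mul, map_mul, hπL, hπR]
      congr 1
      · show aug f' n x' (Φ (a ⊗ₜ (1 : Qx))) = a
        rw [hΦ, map_one, mul_one, aug_σ₁]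
      · show aug f' n x' (Φ ((1 : A') ⊗ₜ q)) = _
        rw [hΦ, map_one, one_mul]
        letI := algStalk f x
        obtain ⟨t, rfl⟩ := θ₀_surjective f n x q
        induction t using TensorProduct.induction_on with
        | zero => simp only [map_zero]
        | tmul c b =>
          rw [θ₀_tmul, map_mul ν, map_mul (aug f n x).hom]
          rw [show ν (σ₁ f n x c) = σ₁ f' n x' (u.stalkMap x' c) from hν₁ c,
            show ν (σ₂ f n x b) = σ₂ f' n x' (u.stalkMap x' b) from hν₂ b]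
          rw [map_mul, aug_σ₁, aug_σ₂, map_mul, aug_σ₁, aug_σ₂]
        | add p q hp hq => simp only [map_add, hp, hq]
    | add p q hp hq => rw [map_add, map_add, map_add, hp, hq]
  have hΦl : IsLocalHom Φc.hom := ⟨fun t ht => hunit t (hΦπ t ▸ ht.map (aug f' n x').hom)⟩
  have hΦj : j₂ ≫ Φc = σ₂ f' n x' := by
    refine eq_of_specMap_fromSpecStalk _ _ (RingHom.isLocalHom_comp _ _) (isLocalHom_σ₂ f' n x') ?_
    rw [Spec.map_comp_assoc, hj₂k]
    apply hsq.hom_ext
    · rw [Category.assoc, hku, Category.assoc, ← Scheme.SpecMap_stalkMap_fromSpecStalk, ← Spec.map_comp_assoc,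
        ← Spec.map_comp_assoc]
      refine congrArg (fun φ => Spec.map φ ≫ X.fromSpecStalk x) (CommRingCat.hom_ext (RingHom.ext fun a => ?_))
      show Φ ((1 : A') ⊗ₜ σ₂ f n x a) = _
      rw [hΦ, map_one, one_mul, hν₂]; rfl
    · rw [Category.assoc, hkf, Category.assoc, ← Scheme.SpecMap_stalkMap_fromSpecStalk, ← Spec.map_comp_assoc,
        ← Spec.map_comp_assoc, ← Spec.map_comp_assoc]
      refine congrArg (fun φ => Spec.map φ ≫ S'.fromSpecStalk (f' x')) (CommRingCat.hom_ext (RingHom.ext fun a => ?_))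
      show Φ (f'.stalkMap x' a ⊗ₜ (1 : Qx)) = σ₂ f' n x' (f'.stalkMap x' a)
      rw [hΦ, map_one, mul_one, σ_agree]
  intro q
  letI := algStalk f' x'
  obtain ⟨t, rfl⟩ := θ₀_surjective f' n x' q
  induction t using TensorProduct.induction_on with
  | zero => exact ⟨0, by rw [map_zero, map_zero]⟩
  | tmul c b =>
    refine ⟨incL c * j₂ b, ?_⟩
    rw [θ₀_tmul, map_mul]
    refine congrArg₂ (· * ·) ?_ (ConcreteCategory.congr_hom hΦj b)
    show Φ (c ⊗ₜ (1 : Qx)) = _
    rw [hΦ, map_one, mul_one]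
  | add p q hp hq =>
    obtain ⟨p', hp'⟩ := hp; obtain ⟨q', hq'⟩ := hq
    exact ⟨p' + q', by rw [map_add, map_add, hp', hq']⟩

include hsq in
theorem bijective_stalkLin (φ : (Scheme.Modules.pullback u).obj (PrinPart.P f n) ⟶ PrinPart.P f' n)
    (hφ : PrinPart.IsPMap f f' u n φ) (x' : X') : Function.Bijective (stalkLin φ x') := by
  let x := u x'
  let A := X.presheaf.stalk x
  let A' := X'.presheaf.stalk x'
  let P := PrinPart.P f n
  let Qx := (PrinPart.nbhd f n).presheaf.stalk (PrinPart.toNbhd f n x)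
  letI : Algebra A A' := (u.stalkMap x').hom.toAlgebra
  letI : Algebra A Qx := (σ₁ f n x).hom.toAlgebra
  let W : Type u := ((Scheme.Modules.pullback u).obj P).presheaf.stalk x'
  letI : Module A W := Module.compHom W (u.stalkMap x').hom
  haveI : IsScalarTower A A' W := .of_algebraMap_smul fun _ _ => rfl
  let l := pullStalkL u P x'
  have hb : IsBaseChange A' l := isBaseChange_pullStalkL' u P x'
  obtain ⟨ρ, hρb, hρs, hρd⟩ := exists_ρO f n x
  obtain ⟨ρ', hρb', hρs', hρd'⟩ := exists_ρO f' n x'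
  obtain ⟨ν, hν₁, hν₂⟩ := exists_ν f g u f' hsq n x'
  obtain ⟨Φ, hΦb, hΦ⟩ := bijective_Φ f g u f' hsq n x' ν hν₁ hν₂
  let ρl : P.presheaf.stalk x →ₗ[A] Qx := { toFun := ρ, map_add' := map_add ρ, map_smul' := hρs }
  let eρ : P.presheaf.stalk x ≃ₗ[A] Qx := LinearEquiv.ofBijective ρl hρb
  have key : ∀ w, ρ' (stalkLin φ x' (l w)) = ν (ρ w) := by
    intro w
    obtain ⟨q, rfl⟩ := eρ.symm.surjective w
    rw [show ρ (eρ.symm q) = q from eρ.apply_symm_apply q]
    letI := algStalk f x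
    obtain ⟨t, rfl⟩ := θ₀_surjective f n x q
    induction t using TensorProduct.induction_on with
    | zero => simp only [map_zero]
    | tmul c b =>
      obtain ⟨U, hU, b, rfl⟩ := TopCat.Presheaf.exists_germ_eq X.presheaf b
      have e1 : eρ.symm (θ₀ f n x (c ⊗ₜ X.presheaf.germ U x hU b)) =
          c • P.presheaf.germ U x hU (PrinPart.dn f n U b) := by
        rw [LinearEquiv.symm_apply_eq, map_smul, θ₀_tmul]
        show _ = σ₁ f n x c * ρ _
        rw [hρd]
      rw [e1, θ₀_tmul, map_mul, hν₁, hν₂]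
      rw [show l (c • P.presheaf.germ U x hU (PrinPart.dn f n U b)) =
        u.stalkMap x' c • l (P.presheaf.germ U x hU (PrinPart.dn f n U b)) from pullStalk_smul u P x' c _,
        map_smul, hρs']
      congr 1
      show ρ' (stalkLin φ x' (pullStalk u P x' (P.presheaf.germ U x hU (PrinPart.dn f n U b)))) = _
      rw [pullStalk_germ, stalkLin_germ]
      erw [hφ U b]
      rw [hρd', Scheme.Hom.germ_stalkMap_apply]
    | add p q hp hq => simp only [map_add, hp, hq]
  let F : A' ⊗[A] P.presheaf.stalk x → (PrinPart.nbhd f' n).presheaf.stalk (PrinPart.toNbhd f' n x') :=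
    fun t => Φ (eρ.lTensor A' t)
  have hF : Function.Bijective F := hΦb.comp (eρ.lTensor A').bijective
  have e2 : ∀ t, ρ' (stalkLin φ x' (hb.equiv t)) = F t := by
    intro t
    induction t using TensorProduct.induction_on with
    | zero => simp only [F, map_zero]
    | tmul a w =>
      rw [IsBaseChange.equiv_tmul, map_smul, hρs', key]
      show _ = Φ (a ⊗ₜ ρ w)
      rw [hΦ]
    | add p q hp hq =>
      simp only [map_add, hp, hq]
      exact (map_add Φ _ _).symm.trans (congrArg Φ (map_add (eρ.lTensor A') p q).symm)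
  have e3 : (ρ' : _ → _) ∘ stalkLin φ x' = F ∘ hb.equiv.symm := funext fun w => by
    have := e2 (hb.equiv.symm w)
    rwa [LinearEquiv.apply_symm_apply] at this
  refine (Function.Bijective.of_comp_iff' hρb' _).1 ?_
  rw [e3]
  exact hF.comp hb.equiv.symm.bijective

include hsq in
theorem isIso_pMap (φ : (Scheme.Modules.pullback u).obj (PrinPart.P f n) ⟶ PrinPart.P f' n)
    (hφ : PrinPart.IsPMap f f' u n φ) : IsIso φ := by
  haveI : ∀ U : (TopologicalSpace.Opens X')ᵒᵖ, IsIso (φ.mapPresheaf.app U) := by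
    intro U
    haveI : ∀ x : X', IsIso ((TopCat.Presheaf.stalkFunctor AddCommGrpCat.{u} x).map φ.mapPresheaf) := fun x =>
      (ConcreteCategory.isIso_iff_bijective _).mpr (bijective_stalkLin f g u f' hsq n φ hφ x)
    exact TopCat.Presheaf.app_isIso_of_stalkFunctor_map_iso
      (F := ⟨_, ((Scheme.Modules.pullback u).obj (PrinPart.P f n)).isSheaf⟩)
      (G := ⟨_, (PrinPart.P f' n).isSheaf⟩) ⟨φ.mapPresheaf⟩ U.unop
  exact Scheme.Modules.Hom.isIso_iff_isIso_app.mpr fun U => this (Opposite.op U)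

end Groth.Agent.EtAlgEasy.PrinPartBC
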