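import Groth.Agent.EtAlgEasy.GrMapStalk
import Groth.Agent.EtAlgEasy.PrinPartBC
import Groth.Agent.IdealStalkLib.Comap
import Groth.Agent.InfNbhdLib.Scheme
import Groth.Agent.RegIdealLib.Immersion
import Groth.Agent.CAlgBasics.FlatAux
import Mathlib

/-!
Base change of the graded pieces of a section which is a closed immersion.
-/

set_option autoImplicit false
set_option backward.isDefEq.respectTransparency false

universe u

open CategoryTheory CategoryTheory.Limits AlgebraicGeometry TopologicalSpace Opposite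
open scoped TensorProduct
open Groth.Agent.PullbackMod Groth.Agent.ParaFLib

namespace Groth.Agent.EtAlgEasy.GrMapSection

variable {X Y : Scheme.{u}}

/-- The stalk map at a point, with the image point renamed. -/
noncomputable def qm (f : Y ⟶ X) {y : Y} {x : X} (h : f y = x) : X.presheaf.stalk x ⟶ Y.presheaf.stalk y :=
  X.presheaf.stalkSpecializes (specializes_of_eq h) ≫ f.stalkMap y

theorem spec_qm (f : Y ⟶ X) {y : Y} {x : X} (h : f y = x) :
    Spec.map (qm f h) ≫ X.fromSpecStalk x = Y.fromSpecStalk y ≫ f := by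
  rw [qm, Spec.map_comp_assoc, Scheme.SpecMap_stalkSpecializes_fromSpecStalk, Scheme.SpecMap_stalkMap_fromSpecStalk]

theorem isLocalHom_qm (f : Y ⟶ X) {y : Y} {x : X} (h : f y = x) : IsLocalHom (qm f h).hom := by
  subst h
  rw [qm, TopCat.Presheaf.stalkSpecializes_refl, Category.id_comp]
  infer_instance

theorem qm_surjective (f : Y ⟶ X) [IsClosedImmersion f] {y : Y} {x : X} (h : f y = x) :
    Function.Surjective (qm f h) := by
  subst h
  rw [qm, TopCat.Presheaf.stalkSpecializes_refl, Category.id_comp]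
  exact f.stalkMap_surjective y

theorem ker_qm (f : Y ⟶ X) [IsClosedImmersion f] {y : Y} {x : X} (h : f y = x) :
    RingHom.ker (qm f h).hom = IntMult.stalkIdeal f.ker x := by
  subst h
  rw [qm, TopCat.Presheaf.stalkSpecializes_refl, Category.id_comp]
  obtain ⟨_, ⟨U : X.Opens, hU, rfl⟩, hxU, -⟩ :=
    X.isBasis_affineOpens.exists_subset_of_mem_open (Set.mem_univ (f y)) isOpen_univ
  rw [RegIdealLib.ker_stalkMap f hU (IsZariskiLocalAtTarget.restrict (P := @IsClosedImmersion) inferInstance U) y hxU,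
    IdealStalkLib.stalkIdeal_eq f.ker ⟨U, hU⟩ (f y) hxU, Scheme.Hom.ker_apply]

variable (g : X ⟶ Y) (f : Y ⟶ X) [IsClosedImmersion f] (hf : f ≫ g = 𝟙 Y)

include hf in
theorem gpt {y : Y} {x : X} (h : f y = x) : g x = y := by
  rw [← h, ← Scheme.Hom.comp_apply, hf]; rfl

/-- The section on stalks. -/
noncomputable def sm {y : Y} {x : X} (h : f y = x) : Y.presheaf.stalk y ⟶ X.presheaf.stalk x :=
  qm g (gpt g f hf h)

theorem sm_qm {y : Y} {x : X} (h : f y = x) : sm g f hf h ≫ qm f h = 𝟙 _ := by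
  haveI : IsLocalHom (qm f h).hom' := isLocalHom_qm f h
  haveI : IsLocalHom (sm g f hf h).hom' := isLocalHom_qm g (gpt g f hf h)
  refine PrinPartBC.eq_of_specMap_fromSpecStalk _ _ (RingHom.isLocalHom_comp _ _) ⟨fun a ha => ha⟩ ?_
  rw [Spec.map_comp_assoc, sm, spec_qm, ← Category.assoc, spec_qm, Category.assoc, hf, Spec.map_id]
  simp

/-- The thickening `O_x / I^k` as an algebra over the stalk of the section. -/
abbrev Q (k : ℕ) (x : X) : Type u := X.presheaf.stalk x ⧸ IntMult.stalkIdeal f.ker x ^ k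

theorem q_sub {y : Y} {x : X} (h : f y = x) (a : X.presheaf.stalk x) :
    a - sm g f hf h (qm f h a) ∈ IntMult.stalkIdeal f.ker x := by
  rw [← ker_qm f h, RingHom.mem_ker]
  show qm f h (a - sm g f hf h (qm f h a)) = 0
  rw [map_sub, ← CommRingCat.comp_apply, ← CommRingCat.comp_apply, sm_qm, Category.comp_id]
  exact sub_self _

/-- Descend a semilinear map along a base change. -/
theorem exists_desc {A R : Type u} [CommRing A] [CommRing R] [Algebra A R] {M G : Type u} [AddCommGroup M]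
    [Module A M] [AddCommGroup G] [Module A G] [Module R G] [IsScalarTower A R G] {l : M →ₗ[A] G}
    (hl : IsBaseChange R l) {Q : Type u} [AddCommGroup Q] [Module R Q] (φ : M →+ Q)
    (hφ : ∀ c a, φ (c • a) = algebraMap A R c • φ a) : ∃ ι : G →ₗ[R] Q, ∀ a, ι (l a) = φ a := by
  letI : Module A Q := Module.compHom Q (algebraMap A R)
  haveI : IsScalarTower A R Q := .of_algebraMap_smul fun _ _ => rfl
  let g0 : M →ₗ[A] Q := { toFun := φ, map_add' := map_add φ, map_smul' := hφ }
  exact ⟨hl.lift g0, fun a => hl.lift_eq g0 a⟩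

/-- `Gr_n` at `y` is `I^n/I^(n+1)` inside `O_x/I^(n+1)`. -/
theorem exists_ι (n : ℕ) {y : Y} {x : X} (h : f y = x) :
    letI : Algebra (Y.presheaf.stalk y) (X.presheaf.stalk x) := (sm g f hf h).hom.toAlgebra
    ∃ ι : (PrinPart.grMod f n).presheaf.stalk y →ₗ[Y.presheaf.stalk y] Q f (n + 1) x,
      Function.Injective ι ∧
      Function.Exact ι (Ideal.Quotient.factor (Ideal.pow_le_pow_right n.le_succ) :
        Q f (n + 1) x →+* Q f n x) ∧
      ∀ (U : X.Opens) (hU : x ∈ U) (m : Γ(ClSub.idealMod (f.ker ^ n), U)),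
        ι ((PrinPart.grMod f n).presheaf.germ (f ⁻¹ᵁ U) y (h.symm ▸ hU : f y ∈ U) (PrinPart.grSect f n U m)) =
          Ideal.Quotient.mk _ (X.presheaf.germ U x hU (OmegaSh.idealSect (f.ker ^ n) U m)) := by
  let A := X.presheaf.stalk x
  let R := Y.presheaf.stalk y
  letI algRA : Algebra R A := (sm g f hf h).hom.toAlgebra
  let I := IntMult.stalkIdeal f.ker x
  let M := ClSub.idealMod (f.ker ^ n)
  obtain ⟨j, hj, hjr, hjg⟩ := GrMapStalk.exists_toFn (f.ker ^ n) x
  rw [InfNbhdLib.stalkIdeal_pow] at hjr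
  letI algAR : Algebra A R := (qm f h).hom.toAlgebra
  let G : Type u := ((Scheme.Modules.pullback f).obj M).presheaf.stalk y
  obtain ⟨l, hl, hlg⟩ := PrinPartStalkMod.isBaseChange_of_eq f M y h
  letI modAG : Module A G := Module.compHom G (qm f h).hom
  haveI : IsScalarTower A R G := .of_algebraMap_smul fun _ _ => rfl
  have hsurj : ∀ w : G, ∃ a, l a = w := by
    intro w
    induction w using hl.inductionOn with
    | zero => exact ⟨0, map_zero _⟩
    | tmul a => exact ⟨a, rfl⟩
    | smul r w hw =>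
      obtain ⟨a, rfl⟩ := hw
      obtain ⟨c, rfl⟩ := qm_surjective f h r
      exact ⟨c • a, l.map_smul c a⟩
    | add p q hp hq => obtain ⟨a, rfl⟩ := hp; obtain ⟨b, rfl⟩ := hq; exact ⟨a + b, map_add _ _ _⟩
  have hex : ∃ ι : G →ₗ[R] Q f (n + 1) x, ∀ a, ι (l a) = Ideal.Quotient.mk _ (j a) := by
    refine exists_desc hl (AddMonoidHom.mk' (fun a => Ideal.Quotient.mk _ (j a)) fun a b => by rw [map_add, map_add])
      fun c a => ?_
    show Ideal.Quotient.mk _ (j (c • a)) = qm f h c • Ideal.Quotient.mk _ (j a)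
    rw [map_smul, smul_eq_mul, Algebra.smul_def]
    show _ = Ideal.Quotient.mk _ (sm g f hf h (qm f h c)) * Ideal.Quotient.mk _ (j a)
    rw [← map_mul, Ideal.Quotient.mk_eq_mk_iff_sub_mem, ← sub_mul, pow_succ']
    exact Ideal.mul_mem_mul (q_sub g f hf h c) (hjr ▸ LinearMap.mem_range_self j a)
  obtain ⟨ι, hι⟩ := hex
  refine ⟨ι, ?_, ?_, fun U hU m => ?_⟩
  · rw [injective_iff_map_eq_zero]
    intro w hw
    obtain ⟨a, rfl⟩ := hsurj w
    replace hw := (hι a).symm.trans hw
    rw [Ideal.Quotient.eq_zero_iff_mem, pow_succ', ← smul_eq_mul, ← hjr, LinearMap.range_eq_map,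
      ← Submodule.map_smul''] at hw
    obtain ⟨b, hb, hba⟩ := hw
    rw [hj hba] at hb
    clear hba
    refine Submodule.smul_induction_on hb (fun i hi c _ => ?_) (fun p q hp hq => by rw [map_add, hp, hq, add_zero])
    rw [map_smul]
    show qm f h i • l c = 0
    rw [show qm f h i = 0 from RingHom.mem_ker.1 (ker_qm f h ▸ hi), zero_smul]
  · intro t
    constructor
    · intro ht
      obtain ⟨a, rfl⟩ := Ideal.Quotient.mk_surjective t
      rw [Ideal.Quotient.factor_mk, Ideal.Quotient.eq_zero_iff_mem, ← hjr] at ht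
      obtain ⟨c, rfl⟩ := ht
      exact ⟨l c, hι c⟩
    · rintro ⟨w, rfl⟩
      obtain ⟨a, rfl⟩ := hsurj w
      refine (congrArg (Ideal.Quotient.factor (Ideal.pow_le_pow_right n.le_succ)) (hι a)).trans ?_
      rw [Ideal.Quotient.factor_mk, Ideal.Quotient.eq_zero_iff_mem]
      exact hjr ▸ LinearMap.mem_range_self j a
  · show ι ((((Scheme.Modules.pullback f).obj M)).presheaf.germ (f ⁻¹ᵁ U) y _ (OmegaSh.pullSect f M U m)) = _
    rw [← hlg U hU m, hι, hjg]

include hf in
theorem flat_Q (n : ℕ) {y : Y} {x : X} (h : f y = x)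
    (hflat : ∀ k < n, Module.Flat (Y.presheaf.stalk y) ((PrinPart.grMod f k).presheaf.stalk y)) :
    letI : Algebra (Y.presheaf.stalk y) (X.presheaf.stalk x) := (sm g f hf h).hom.toAlgebra
    Module.Flat (Y.presheaf.stalk y) (Q f n x) := by
  letI algRA : Algebra (Y.presheaf.stalk y) (X.presheaf.stalk x) := (sm g f hf h).hom.toAlgebra
  induction n with
  | zero =>
    haveI : Subsingleton (Q f 0 x) := Ideal.Quotient.subsingleton_iff.2 (by rw [pow_zero, Ideal.one_eq_top])
    infer_instance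
  | succ n ih =>
    haveI := hflat n n.lt_succ_self
    haveI := ih fun k hk => hflat k (hk.trans n.lt_succ_self)
    obtain ⟨ι, hinj, hexact, -⟩ := exists_ι g f hf n h
    let φ : Q f (n + 1) x →ₐ[Y.presheaf.stalk y] Q f n x :=
      { toRingHom := Ideal.Quotient.factor (Ideal.pow_le_pow_right n.le_succ)
        commutes' := fun _ => rfl }
    exact CAlgBasics.flat_of_exact (f := ι) (g := φ.toLinearMap) hinj hexact
      (Ideal.Quotient.factor_surjective (Ideal.pow_le_pow_right n.le_succ))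

include hf in
theorem flat_Q_one {y : Y} {x : X} (h : f y = x) :
    letI : Algebra (Y.presheaf.stalk y) (X.presheaf.stalk x) := (sm g f hf h).hom.toAlgebra
    Module.Flat (Y.presheaf.stalk y) (Q f 1 x) := by
  letI algRA : Algebra (Y.presheaf.stalk y) (X.presheaf.stalk x) := (sm g f hf h).hom.toAlgebra
  let e : Y.presheaf.stalk y →ₗ[Y.presheaf.stalk y] Q f 1 x := Algebra.linearMap _ _
  refine Module.Flat.of_linearEquiv (LinearEquiv.ofBijective e ⟨?_, ?_⟩).symm
  · rw [injective_iff_map_eq_zero]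
    intro r hr
    replace hr : Ideal.Quotient.mk (IntMult.stalkIdeal f.ker x ^ 1) (sm g f hf h r) = 0 := hr
    rw [Ideal.Quotient.eq_zero_iff_mem, pow_one, ← ker_qm f h, RingHom.mem_ker] at hr
    rw [← hr]
    exact (ConcreteCategory.congr_hom (sm_qm g f hf h) r).symm
  · intro t
    obtain ⟨a, rfl⟩ := Ideal.Quotient.mk_surjective t
    refine ⟨qm f h a, ?_⟩
    show Ideal.Quotient.mk _ (sm g f hf h (qm f h a)) = _
    rw [Ideal.Quotient.mk_eq_mk_iff_sub_mem, pow_one]
    have := neg_mem (q_sub g f hf h a)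
    rwa [neg_sub] at this

variable {X' Y' : Scheme.{u}} (u : Y' ⟶ Y) (v : X' ⟶ X) (g' : X' ⟶ Y') (hsq : IsPullback v g' g u)
  (f' : Y' ⟶ X') (hf' : f' ≫ g' = 𝟙 Y') (hf'v : f' ≫ v = u ≫ f)

include hf hsq hf' hf'v in
theorem isPullback_section : IsPullback u f' f v := by
  have h0 : IsPullback (f' ≫ g') u u (f ≫ g) := by
    rw [hf', hf]; exact IsPullback.of_id_fst
  exact (IsPullback.of_right h0 hf'v hsq.flip).flip

include hf hsq hf' hf'v in
theorem bijective_stalkLin (n : ℕ) (φ : (Scheme.Modules.pullback u).obj (PrinPart.grMod f n) ⟶ PrinPart.grMod f' n)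
    (hφ : PrinPart.IsGrMap f' f v u n φ) (y' : Y')
    (hflat : ∀ (x : X) (h : f (u y') = x),
      letI : Algebra (Y.presheaf.stalk (u y')) (X.presheaf.stalk x) := (sm g f hf h).hom.toAlgebra
      Module.Flat (Y.presheaf.stalk (u y')) (Q f n x)) :
    Function.Bijective (stalkLin φ y') := by
  have hpb := isPullback_section g f hf u v g' hsq f' hf' hf'v
  refine ⟨?_, (GrMapStalk.stalk_grMap f v u f' hpb n φ hφ y').1⟩
  haveI : IsClosedImmersion f' := MorphismProperty.of_isPullback (P := @IsClosedImmersion) hpb inferInstance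
  let x' := f' y'
  let y := u y'
  let x := v x'
  have hxy : f y = x := by
    show f (u y') = v (f' y')
    rw [← Scheme.Hom.comp_apply, ← hf'v, Scheme.Hom.comp_apply]
  let A := X.presheaf.stalk x
  let R := Y.presheaf.stalk y
  let A' := X'.presheaf.stalk x'
  let R' := Y'.presheaf.stalk y'
  letI algRA : Algebra R A := (sm g f hf hxy).hom.toAlgebra
  letI algRR' : Algebra R R' := (u.stalkMap y').hom.toAlgebra
  haveI := hflat x hxy
  let I := IntMult.stalkIdeal f.ker x
  let B := R' ⊗[R] Q f (n + 1) x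
  let incL : R' →+* B := Algebra.TensorProduct.includeLeftRingHom
  let incR : Q f (n + 1) x →+* B := (Algebra.TensorProduct.includeRight : Q f (n + 1) x →ₐ[R] B).toRingHom
  let r₂ : A →+* B := incR.comp (Ideal.Quotient.mk _)
  have hinc : ∀ r, incL (u.stalkMap y' r) = r₂ (sm g f hf hxy r) := fun r => by
    show (algebraMap R R' r) ⊗ₜ[R] (1 : Q f (n + 1) x) = (1 : R') ⊗ₜ[R] (algebraMap R (Q f (n + 1) x) r)
    rw [Algebra.algebraMap_eq_smul_one, TensorProduct.smul_tmul, ← Algebra.algebraMap_eq_smul_one]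
  let pL : R' →ₐ[R] R' := AlgHom.id R R'
  let pR : Q f (n + 1) x →ₐ[R] R' :=
    { toRingHom := Ideal.Quotient.lift _ ((u.stalkMap y').hom.comp (qm f hxy).hom) (fun a ha => by
        have ha' : a ∈ I := Ideal.pow_le_self n.succ_ne_zero ha
        show u.stalkMap y' (qm f hxy a) = 0
        rw [show qm f hxy a = 0 from RingHom.mem_ker.1 (ker_qm f hxy ▸ ha'), map_zero])
      commutes' := fun r => congrArg (u.stalkMap y') (ConcreteCategory.congr_hom (sm_qm g f hf hxy) r) }
  let π : B →+* R' := (Algebra.TensorProduct.lift pL pR (fun _ _ => Commute.all _ _)).toRingHom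
  have hπL : ∀ a, π (incL a) = a := fun a => by
    show Algebra.TensorProduct.lift (S := R) pL pR _ (a ⊗ₜ[R] (1 : Q f (n + 1) x)) = a
    rw [Algebra.TensorProduct.lift_tmul, map_one, mul_one]; rfl
  have hπR : ∀ a, π (r₂ a) = u.stalkMap y' (qm f hxy a) := fun a => by
    show Algebra.TensorProduct.lift (S := R) pL pR _ ((1 : R') ⊗ₜ[R] Ideal.Quotient.mk _ a) = _
    rw [Algebra.TensorProduct.lift_tmul, map_one, one_mul]; rfl
  have hdec : ∀ a c, a ⊗ₜ[R] Ideal.Quotient.mk _ c = incL a * r₂ c := fun a c => by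
    show _ = (a ⊗ₜ[R] (1 : Q f (n + 1) x)) * ((1 : R') ⊗ₜ[R] Ideal.Quotient.mk _ c)
    rw [Algebra.TensorProduct.tmul_mul_tmul, mul_one, one_mul]
  have hkerπ : RingHom.ker π ≤ I.map r₂ := by
    have key : ∀ t, t - incL (π t) ∈ I.map r₂ := by
      intro t
      induction t using TensorProduct.induction_on with
      | zero => rw [map_zero, map_zero, sub_zero]; exact zero_mem _
      | tmul a q =>
        obtain ⟨c, rfl⟩ := Ideal.Quotient.mk_surjective q
        have e : (a ⊗ₜ[R] Ideal.Quotient.mk _ c) - incL (π (a ⊗ₜ[R] Ideal.Quotient.mk _ c)) =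
            incL a * r₂ (c - sm g f hf hxy (qm f hxy c)) := by
          rw [hdec, map_mul, hπL, hπR, map_mul incL, hinc, map_sub, mul_sub]
        rw [e]
        exact Ideal.mul_mem_left _ _ (Ideal.mem_map_of_mem _ (q_sub g f hf hxy c))
      | add p q hp hq => rw [map_add, map_add, add_sub_add_comm]; exact add_mem hp hq
    intro t ht
    have := key t
    rwa [RingHom.mem_ker.1 ht, map_zero, sub_zero] at this
  have hr₂pow : (I ^ (n + 1)).map r₂ = ⊥ := by
    rw [eq_bot_iff, Ideal.map_le_iff_le_comap]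
    intro a ha
    rw [Ideal.mem_comap, Ideal.mem_bot]
    show incR (Ideal.Quotient.mk _ a) = 0
    rw [Ideal.Quotient.eq_zero_iff_mem.2 ha, map_zero]
  have hkpow : RingHom.ker π ^ (n + 1) = ⊥ := by
    refine le_bot_iff.1 ((Ideal.pow_right_mono hkerπ _).trans ?_)
    rw [← Ideal.map_pow, hr₂pow]
  have hπ : Function.Surjective π := fun a => ⟨incL a, hπL a⟩
  haveI : Nontrivial B := π.domain_nontrivial
  have hunit : ∀ t, IsUnit (π t) → IsUnit t := by
    intro t ht
    obtain ⟨b, hb⟩ := ht.exists_right_inv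
    obtain ⟨b, rfl⟩ := hπ b
    have hnil : IsNilpotent (t * b - 1) := ⟨n + 1, by
      have : (t * b - 1) ^ (n + 1) ∈ RingHom.ker π ^ (n + 1) :=
        Ideal.pow_mem_pow (by rw [RingHom.mem_ker, map_sub, map_mul, hb, map_one, sub_self]) _
      rwa [hkpow, Ideal.mem_bot] at this⟩
    have := hnil.isUnit_one_add
    rw [show 1 + (t * b - 1) = t * b by ring] at this
    exact isUnit_of_mul_isUnit_left this
  haveI : IsLocalRing B := IsLocalRing.of_isUnit_or_isUnit_one_sub_self fun t => by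
    rcases IsLocalRing.isUnit_or_isUnit_one_sub_self (π t) with h | h
    · exact Or.inl (hunit t h)
    · exact Or.inr (hunit _ (by rwa [map_sub, map_one]))
  let BC : CommRingCat.{u} := CommRingCat.of B
  haveI : IsLocalRing BC := inferInstanceAs (IsLocalRing B)
  let πc : BC ⟶ R' := CommRingCat.ofHom π
  let j₁ : R' ⟶ BC := CommRingCat.ofHom incL
  let j₂ : A ⟶ BC := CommRingCat.ofHom r₂
  have hj₁π : j₁ ≫ πc = 𝟙 R' := CommRingCat.hom_ext (RingHom.ext hπL)
  have hj₂π : j₂ ≫ πc = qm f hxy ≫ u.stalkMap y' := CommRingCat.hom_ext (RingHom.ext hπR)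
  have hbal : u.stalkMap y' ≫ j₁ = sm g f hf hxy ≫ j₂ := CommRingCat.hom_ext (RingHom.ext hinc)
  have hspec_s : Spec.map (sm g f hf hxy) ≫ Y.fromSpecStalk y = X.fromSpecStalk x ≫ g := spec_qm g _
  have hw : (Spec.map j₂ ≫ X.fromSpecStalk x) ≫ g = (Spec.map j₁ ≫ Y'.fromSpecStalk y') ≫ u := by
    rw [Category.assoc, Category.assoc, ← hspec_s, ← Scheme.SpecMap_stalkMap_fromSpecStalk, ← Spec.map_comp_assoc,
      ← Spec.map_comp_assoc, hbal]
  let k : Spec BC ⟶ X' := hsq.lift _ _ hw
  have hkv : k ≫ v = Spec.map j₂ ≫ X.fromSpecStalk x := hsq.lift_fst _ _ hw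
  have hkg : k ≫ g' = Spec.map j₁ ≫ Y'.fromSpecStalk y' := hsq.lift_snd _ _ hw
  have hπk : Spec.map πc ≫ k = Y'.fromSpecStalk y' ≫ f' := by
    apply hsq.hom_ext
    · rw [Category.assoc, hkv, ← Spec.map_comp_assoc, hj₂π, Spec.map_comp_assoc, spec_qm, ← Category.assoc,
        Scheme.SpecMap_stalkMap_fromSpecStalk, Category.assoc, Category.assoc, hf'v]
    · rw [Category.assoc, hkg, ← Spec.map_comp_assoc, hj₁π, Spec.map_id, Category.id_comp, Category.assoc, hf',
        Category.comp_id]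
  have hk : k (IsLocalRing.closedPoint BC) = x' := by
    haveI : IsLocalHom π := ⟨hunit⟩
    have e : Spec.map πc (IsLocalRing.closedPoint R') = IsLocalRing.closedPoint BC := IsLocalRing.comap_closedPoint π
    rw [← e, ← Scheme.Hom.comp_apply, hπk, Scheme.Hom.comp_apply, Scheme.fromSpecStalk_closedPoint]
  obtain ⟨χ, hχ, hχk⟩ := PrinPartBC.exists_stalk_hom k hk
  haveI : IsLocalHom χ.hom' := hχ
  haveI : IsLocalHom πc.hom' := ⟨hunit⟩
  haveI hlu : IsLocalHom (f'.stalkMap y').hom := inferInstance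
  haveI : IsLocalHom (f'.stalkMap y').hom' := hlu
  haveI hlv : IsLocalHom (v.stalkMap x').hom := inferInstance
  haveI : IsLocalHom (v.stalkMap x').hom' := hlv
  have hχπ : χ ≫ πc = f'.stalkMap y' := by
    refine PrinPartBC.eq_of_specMap_fromSpecStalk _ _ (RingHom.isLocalHom_comp _ _) inferInstance ?_
    rw [Spec.map_comp_assoc, hχk, hπk, Scheme.SpecMap_stalkMap_fromSpecStalk]
  have hj₂l : IsLocalHom j₂.hom := ⟨fun a ha => by
    have := ha.map πc.hom
    rw [show πc.hom (j₂.hom a) = u.stalkMap y' (qm f hxy a) from ConcreteCategory.congr_hom hj₂π a] at this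
    haveI hql : IsLocalHom (qm f hxy).hom := isLocalHom_qm f hxy
    exact (isUnit_map_iff (qm f hxy).hom a).1 ((isUnit_map_iff (u.stalkMap y').hom _).1 this)⟩
  have hvχ : v.stalkMap x' ≫ χ = j₂ := by
    refine PrinPartBC.eq_of_specMap_fromSpecStalk _ _ (RingHom.isLocalHom_comp _ _) hj₂l ?_
    rw [Spec.map_comp_assoc, Scheme.SpecMap_stalkMap_fromSpecStalk, ← Category.assoc, hχk, hkv]
  -- the functional on the target
  let M' := ClSub.idealMod (f'.ker ^ n)
  let M := ClSub.idealMod (f.ker ^ n)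
  let G := PrinPart.grMod f n
  obtain ⟨j', -, hjr', hjg'⟩ := GrMapStalk.exists_toFn (f'.ker ^ n) x'
  have hK := GrMapStalk.comap_ker_pow f v u f' hpb n
  have hin : ∀ t, χ (j' t) ∈ (I ^ n).map r₂ := by
    intro t
    have h1 : j' t ∈ IntMult.stalkIdeal (f'.ker ^ n) x' := hjr' ▸ LinearMap.mem_range_self j' t
    replace h1 : j' t ∈ IntMult.stalkIdeal ((f.ker ^ n).comap v) x' := by rw [hK]; exact h1
    rw [IdealStalkLib.stalkIdeal_comap, InfNbhdLib.stalkIdeal_pow] at h1
    have h2 := Ideal.mem_map_of_mem χ.hom h1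
    rw [Ideal.map_map, ← CommRingCat.hom_comp, hvχ] at h2
    exact h2
  letI algA'R' : Algebra A' R' := (f'.stalkMap y').hom.toAlgebra
  let W : Type u := ((Scheme.Modules.pullback f').obj M').presheaf.stalk y'
  letI modW : Module A' W := Module.compHom W (f'.stalkMap y').hom
  haveI : IsScalarTower A' R' W := .of_algebraMap_smul fun _ _ => rfl
  let lf' : M'.presheaf.stalk x' →ₗ[A'] W := pullStalkL f' M' y'
  have hbf' : IsBaseChange R' lf' := isBaseChange_pullStalkL' f' M' y'
  obtain ⟨Λ, hΛ⟩ : ∃ Λ : W →ₗ[R'] B, ∀ t, Λ (lf' t) = χ (j' t) := by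
    refine exists_desc hbf' (AddMonoidHom.mk' (fun t => χ (j' t)) fun a b => by
      show χ (j' (a + b)) = _; rw [map_add, map_add]) fun c t => ?_
    show χ (j' (c • t)) = f'.stalkMap y' c • χ (j' t)
    rw [map_smul, smul_eq_mul, map_mul]
    refine Eq.trans ?_ (Algebra.smul_def (A := B) _ _).symm
    show _ = incL (f'.stalkMap y' c) * χ (j' t)
    rw [← sub_eq_zero, ← sub_mul]
    have h1 : χ c - incL (f'.stalkMap y' c) ∈ I.map r₂ := by
      refine hkerπ ?_
      rw [RingHom.mem_ker, map_sub, hπL, show π (χ c) = f'.stalkMap y' c from ConcreteCategory.congr_hom hχπ c, sub_self]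
    have h2 := Ideal.mul_mem_mul h1 (hin t)
    rw [← Ideal.map_mul, ← pow_succ', hr₂pow, Ideal.mem_bot] at h2
    exact h2
  -- the source
  let G0 : Type u := G.presheaf.stalk y
  let S : Type u := ((Scheme.Modules.pullback u).obj G).presheaf.stalk y'
  letI modS : Module R S := Module.compHom S (u.stalkMap y').hom
  haveI : IsScalarTower R R' S := .of_algebraMap_smul fun _ _ => rfl
  let lu : G0 →ₗ[R] S := pullStalkL u G y'
  have hbu : IsBaseChange R' lu := isBaseChange_pullStalkL' u G y'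
  obtain ⟨ι, hιi, hιe, hιg⟩ := exists_ι g f hf n hxy
  obtain ⟨lf, hbf, hlf⟩ := PrinPartStalkMod.isBaseChange_of_eq f M y hxy
  have key : ∀ w, Λ (stalkLin φ y' (lu w)) = incR (ι w) := by
    intro w
    have hgen : ∀ (U : X.Opens) (hU : x ∈ U) (m : Γ(M, U)),
        Λ (stalkLin φ y' (lu (G.presheaf.germ (f ⁻¹ᵁ U) y (hxy.symm ▸ hU : f y ∈ U) (PrinPart.grSect f n U m)))) =
          incR (ι (G.presheaf.germ (f ⁻¹ᵁ U) y (hxy.symm ▸ hU : f y ∈ U) (PrinPart.grSect f n U m))) := by
      intro U hU m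
      refine Eq.trans ?_ (congrArg incR (hιg U hU m)).symm
      obtain ⟨s, hs⟩ := GrMapStalk.exists_pull_sect v (f.ker ^ n) (f'.ker ^ n) hK.le U m
      have h1 : y' ∈ u ⁻¹ᵁ (f ⁻¹ᵁ U) := show f y ∈ U from hxy.symm ▸ hU
      have h2 : y' ∈ f' ⁻¹ᵁ (v ⁻¹ᵁ U) := hU
      have e1 : stalkLin φ y' (pullStalk u G y' (G.presheaf.germ (f ⁻¹ᵁ U) y h1 (PrinPart.grSect f n U m))) =
          pullStalk f' M' y' (M'.presheaf.germ (v ⁻¹ᵁ U) x' h2 s) := by
        rw [pullStalk_germ, pullStalk_germ, stalkLin_germ]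
        have hle : y' ∈ u ⁻¹ᵁ (f ⁻¹ᵁ U) ⊓ f' ⁻¹ᵁ (v ⁻¹ᵁ U) := ⟨h1, h2⟩
        rw [← (PrinPart.grMod f' n).presheaf.germ_res_apply (homOfLE (inf_le_left : u ⁻¹ᵁ (f ⁻¹ᵁ U) ⊓ f' ⁻¹ᵁ (v ⁻¹ᵁ U) ≤ _)) y' hle]
        erw [hφ.2 U m s hs _ inf_le_left inf_le_right]
        exact (PrinPart.grMod f' n).presheaf.germ_res_apply
          (homOfLE (inf_le_right : u ⁻¹ᵁ (f ⁻¹ᵁ U) ⊓ f' ⁻¹ᵁ (v ⁻¹ᵁ U) ≤ f' ⁻¹ᵁ (v ⁻¹ᵁ U))) y' hle _
      refine (congrArg Λ e1).trans ((hΛ _).trans ?_)
      rw [hjg', hs]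
      show _ = r₂ (X.presheaf.germ U x hU _)
      rw [show r₂ (X.presheaf.germ U x hU (OmegaSh.idealSect (f.ker ^ n) U m)) =
        χ (v.stalkMap x' (X.presheaf.germ U x hU (OmegaSh.idealSect (f.ker ^ n) U m))) from
          (ConcreteCategory.congr_hom hvχ _).symm, Scheme.Hom.germ_stalkMap_apply]
    letI algAR : Algebra A R := (qm f hxy).hom.toAlgebra
    letI modAG : Module A (((Scheme.Modules.pullback f).obj M).presheaf.stalk y) :=
      Module.compHom _ (qm f hxy).hom
    haveI : IsScalarTower A R (((Scheme.Modules.pullback f).obj M).presheaf.stalk y) := .of_algebraMap_smul fun _ _ => rfl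
    induction w using hbf.inductionOn with
    | zero =>
      rw [show lu 0 = 0 from map_zero lu, map_zero, map_zero, map_zero, map_zero]
    | tmul a =>
      obtain ⟨U, hU, m, rfl⟩ := TopCat.Presheaf.exists_germ_eq M.presheaf a
      rw [hlf U hU m]
      exact hgen U hU m
    | smul r w hw =>
      have e1 : lu (r • w) = u.stalkMap y' r • lu w := pullStalk_smul u G y' r w
      rw [e1, map_smul, map_smul, hw, map_smul]
      refine (Algebra.smul_def (A := B) _ _).trans ?_
      refine Eq.trans ?_ (congrArg incR (Algebra.smul_def (A := Q f (n + 1) x) r _)).symm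
      rw [map_mul]
      show incL (u.stalkMap y' r) * _ = incR (algebraMap R (Q f (n + 1) x) r) * _
      rw [hinc r]; rfl
    | add p q hp hq =>
      rw [show lu (p + q) = lu p + lu q from map_add lu p q, map_add, map_add, hp, hq, ← map_add]
      exact congrArg incR (map_add ι p q).symm
  let T : R' ⊗[R] G0 →ₗ[R'] B := ι.baseChange R'
  have hT : Function.Injective T := by
    let φn : Q f (n + 1) x →ₐ[R] Q f n x :=
      { toRingHom := Ideal.Quotient.factor (Ideal.pow_le_pow_right n.le_succ)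
        commutes' := fun _ => rfl }
    have h1 : Function.Injective (ι.rTensor R') :=
      CAlgBasics.rTensor_injective_of_flat_quotient (f := ι) (g := φn.toLinearMap) hιi hιe
        (Ideal.Quotient.factor_surjective (Ideal.pow_le_pow_right n.le_succ)) R'
    have h2 : Function.Injective (ι.lTensor R') := by
      rw [← LinearMap.comm_comp_rTensor_comp_comm_eq]
      simpa using h1
    exact h2
  have e2 : ∀ t, Λ (stalkLin φ y' (hbu.equiv t)) = T t := by
    intro t
    induction t using TensorProduct.induction_on with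
    | zero => simp only [map_zero]
    | tmul a w =>
      rw [IsBaseChange.equiv_tmul, map_smul]
      refine (map_smul Λ a _).trans ?_
      rw [key]
      refine (Algebra.smul_def (A := B) _ _).trans ?_
      show (a ⊗ₜ[R] (1 : Q f (n + 1) x)) * ((1 : R') ⊗ₜ[R] ι w) = a ⊗ₜ[R] ι w
      rw [Algebra.TensorProduct.tmul_mul_tmul, mul_one, one_mul]
    | add p q hp hq =>
      rw [map_add, map_add, map_add T, ← hp, ← hq]
      exact map_add Λ _ _
  intro p q hpq
  have := congrArg Λ hpq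
  rw [← hbu.equiv.apply_symm_apply p, ← hbu.equiv.apply_symm_apply q] at this
  exact hbu.equiv.symm.injective (hT ((e2 _).symm.trans (this.trans (e2 _))))

include hf hsq hf' hf'v in
theorem isIso_of_flat (n : ℕ) (φ : (Scheme.Modules.pullback u).obj (PrinPart.grMod f n) ⟶ PrinPart.grMod f' n)
    (hφ : PrinPart.IsGrMap f' f v u n φ)
    (hflat : n = 1 ∨ ∀ k < n, FlatMod.IsFlat (PrinPart.grMod f k)) : IsIso φ := by
  have hb : ∀ y' : Y', Function.Bijective (stalkLin φ y') := fun y' =>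
    bijective_stalkLin g f hf u v g' hsq f' hf' hf'v n φ hφ y' fun x h => by
      rcases hflat with rfl | hk
      · exact flat_Q_one g f hf h
      · exact flat_Q g f hf n h fun k hkn => hk k hkn (u y')
  haveI : ∀ U : (TopologicalSpace.Opens Y')ᵒᵖ, IsIso (φ.mapPresheaf.app U) := by
    intro U
    haveI : ∀ x : Y', IsIso ((TopCat.Presheaf.stalkFunctor AddCommGrpCat.{u} x).map φ.mapPresheaf) := fun x =>
      (ConcreteCategory.isIso_iff_bijective _).mpr (hb x)
    exact TopCat.Presheaf.app_isIso_of_stalkFunctor_map_iso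
      (F := ⟨_, ((Scheme.Modules.pullback u).obj (PrinPart.grMod f n)).isSheaf⟩)
      (G := ⟨_, (PrinPart.grMod f' n).isSheaf⟩) ⟨φ.mapPresheaf⟩ U.unop
  exact Scheme.Modules.Hom.isIso_iff_isIso_app.mpr fun U => this (Opposite.op U)

end Groth.Agent.EtAlgEasy.GrMapSection
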