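import Groth.Prelude.Def_W4ega4s0809p4Pair
import Groth.Agent.FPModelLib.Model
import Groth.Agent.FPModelLib.Proper
import Groth.Agent.AffLim.DescendMore
import Groth.Agent.AffLim.Presentation
import Groth.Agent.S4585
import Mathlib

/-!
Properties of pairs of algebraic schemes of the form "after an extension of the base field there is
a morphism with property `P`" are ind-constructible as soon as `P` descends along affine limits.
-/

set_option autoImplicit false
set_option backward.isDefEq.respectTransparency false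
set_option linter.style.haveILetI false

universe u

open CategoryTheory CategoryTheory.Limits AlgebraicGeometry TopologicalSpace

noncomputable section

namespace Groth.Agent.EtAlgEasy.IndConsPair

/-- After base change along `q` there is a morphism with property `P`. -/
def Wit (P : MorphismProperty Scheme.{u}) {X Y S R : Scheme.{u}} (u : X ⟶ S) (v : Y ⟶ S) (q : R ⟶ S) : Prop :=
  ∃ (X' Y' : Scheme.{u}) (gX' : X' ⟶ R) (gY' : Y' ⟶ R) (eX : X' ⟶ X) (eY : Y' ⟶ Y),
    IsPullback eX gX' u q ∧ IsPullback eY gY' v q ∧ ∃ g : X' ⟶ Y', g ≫ gY' = gX' ∧ P g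

variable {P : MorphismProperty Scheme.{u}} [P.IsStableUnderBaseChange]

theorem Wit.comp {X Y S R R' : Scheme.{u}} {u : X ⟶ S} {v : Y ⟶ S} {q : R ⟶ S} (h : Wit P u v q)
    (j : R' ⟶ R) : Wit P u v (j ≫ q) := by
  obtain ⟨X', Y', gX', gY', eX, eY, hX, hY, g, hg, hP⟩ := h
  let Y'' := pullback gY' j
  let X'' := pullback g (pullback.fst gY' j)
  refine ⟨X'', Y'', pullback.snd g (pullback.fst gY' j) ≫ pullback.snd gY' j, pullback.snd gY' j,
    pullback.fst g (pullback.fst gY' j) ≫ eX, pullback.fst gY' j ≫ eY, ?_,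
    (IsPullback.of_hasPullback gY' j).paste_horiz hY,
    pullback.snd g (pullback.fst gY' j), rfl, MorphismProperty.pullback_snd _ _ hP⟩
  have h1 := (IsPullback.of_hasPullback g (pullback.fst gY' j)).paste_vert (IsPullback.of_hasPullback gY' j)
  rw [hg] at h1
  exact h1.paste_horiz hX

theorem wit_baseChange_iff {X Y S T R : Scheme.{u}} {u : X ⟶ S} {v : Y ⟶ S} {t : T ⟶ S}
    {XT YT : Scheme.{u}} {gX : XT ⟶ T} {gY : YT ⟶ T} {eX : XT ⟶ X} {eY : YT ⟶ Y}
    (hX : IsPullback eX gX u t) (hY : IsPullback eY gY v t) (h : R ⟶ T) :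
    Wit P gX gY h ↔ Wit P u v (h ≫ t) := by
  constructor
  · rintro ⟨X', Y', gX', gY', eX', eY', hX', hY', hg⟩
    exact ⟨X', Y', gX', gY', eX' ≫ eX, eY' ≫ eY, hX'.paste_horiz hX, hY'.paste_horiz hY, hg⟩
  · rintro ⟨X', Y', gX', gY', eX', eY', hX', hY', hg⟩
    have wX : eX' ≫ u = (gX' ≫ h) ≫ t := by rw [Category.assoc]; exact hX'.w
    have wY : eY' ≫ v = (gY' ≫ h) ≫ t := by rw [Category.assoc]; exact hY'.w
    refine ⟨X', Y', gX', gY', hX.lift _ _ wX, hY.lift _ _ wY, ?_, ?_, hg⟩
    · exact IsPullback.of_right (by rw [hX.lift_fst]; exact hX') (hX.lift_snd _ _ _) hX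
    · exact IsPullback.of_right (by rw [hY.lift_fst]; exact hY') (hY.lift_snd _ _ _) hY

/-- After an extension of the base field there is a morphism with property `P`. -/
def Rel (P : MorphismProperty Scheme.{u}) ⦃X Y T : Scheme.{u}⦄ (gX : X ⟶ T) (gY : Y ⟶ T) : Prop :=
  ∃ (T' X' Y' : Scheme.{u}) (h : T' ⟶ T) (gX' : X' ⟶ T') (gY' : Y' ⟶ T') (eX : X' ⟶ X) (eY : Y' ⟶ Y),
    IsIntegral T' ∧ Subsingleton ↥T' ∧ IsPullback eX gX' gX h ∧ IsPullback eY gY' gY h ∧
      ∃ g : X' ⟶ Y', g ≫ gY' = gX' ∧ P g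

instance (K : Type u) [Field K] : Subsingleton ↥(Spec (CommRingCat.of K)) :=
  inferInstanceAs (Subsingleton (PrimeSpectrum K))

theorem rel_iff {X Y T : Scheme.{u}} (gX : X ⟶ T) (gY : Y ⟶ T) :
    Rel P gX gY ↔ ∃ (L : Type u) (_ : Field L) (h : Spec (CommRingCat.of L) ⟶ T), Wit P gX gY h := by
  constructor
  · rintro ⟨T', X', Y', h, gX', gY', eX, eY, hint, hsub, hX, hY, hg⟩
    haveI := hint
    obtain ⟨t⟩ := (inferInstance : Nonempty ↥T')
    have hw : Wit P gX gY h := ⟨X', Y', gX', gY', eX, eY, hX, hY, hg⟩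
    exact ⟨T'.residueField t, inferInstance, T'.fromSpecResidueField t ≫ h, hw.comp _⟩
  · rintro ⟨L, hL, h, X', Y', gX', gY', eX, eY, hX, hY, hg⟩
    exact ⟨_, X', Y', h, gX', gY', eX, eY, inferInstance, inferInstance, hX, hY, hg⟩

theorem isFieldStablePair : ConsPropPair.IsFieldStablePair (Rel P) := by
  intro X X' Y Y' T T' gX gY gX' gY' eX eY h _ _ _ _ _ _ _ _ hX hY
  rw [rel_iff, rel_iff]
  constructor
  · rintro ⟨L, _, h₁, hw⟩
    haveI : Surjective h := ⟨fun t => ⟨(inferInstance : Nonempty ↥T').some, Subsingleton.elim _ _⟩⟩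
    haveI : Nonempty ↥(pullback h₁ h) :=
      ⟨((inferInstance : Surjective (pullback.fst h₁ h)).surj (IsLocalRing.closedPoint L)).choose⟩
    let P₀ := pullback h₁ h
    let p : P₀ := (inferInstance : Nonempty P₀).some
    refine ⟨P₀.residueField p, inferInstance, P₀.fromSpecResidueField p ≫ pullback.snd h₁ h, ?_⟩
    rw [wit_baseChange_iff hX hY]
    have := hw.comp (P₀.fromSpecResidueField p ≫ pullback.fst h₁ h)
    rwa [Category.assoc, pullback.condition, ← Category.assoc] at this
  · rintro ⟨L, _, h₁, hw⟩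
    exact ⟨L, inferInstance, h₁ ≫ h, (wit_baseChange_iff hX hY h₁).1 hw⟩

/-- `P` descends along affine limits of affine schemes. -/
def Descends (P : MorphismProperty Scheme.{u}) : Prop :=
  ∀ {I : Type u} [SmallCategory I] [IsCofiltered I] (D : I ⥤ Scheme.{u})
    [∀ {i j} (a : i ⟶ j), IsAffineHom (D.map a)] [∀ i, IsAffine (D.obj i)] (c : Cone D) (_ : IsLimit c)
    (i : I) {X₀ Y₀ : Scheme.{u}} (f₀ : X₀ ⟶ Y₀) (g₀ : Y₀ ⟶ D.obj i)
    [CompactSpace X₀] [QuasiSeparatedSpace X₀] [CompactSpace Y₀] [QuasiSeparatedSpace Y₀]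
    [LocallyOfFinitePresentation f₀]
    {X Y : Scheme.{u}} {f : X ⟶ Y} {g : Y ⟶ c.pt} {qY : Y ⟶ Y₀} {qX : X ⟶ X₀},
    IsPullback qY g g₀ (c.π.app i) → IsPullback qX f f₀ qY → P f →
    ∃ k : Over i, P ((AffLim.baseChangeMap D i f₀ g₀).app k)

section Sub

variable (A : CommRingCat.{u}) (L : Type u) [CommRing L] [Algebra A L]

/-- The finitely generated subalgebras. -/
abbrev Idx : Type u := {B : Subalgebra A L // B.FG}

instance : IsDirected (Idx A L) (· ≤ ·) :=
  ⟨fun B B' => ⟨⟨B.1 ⊔ B'.1, B.2.sup B'.2⟩, le_sup_left (b := B'.1), le_sup_right (a := B.1)⟩⟩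

instance : Nonempty (Idx A L) := ⟨⟨⊥, Subalgebra.fg_bot⟩⟩

/-- The system of finitely generated subalgebras. -/
def ring : Idx A L ⥤ CommRingCat.{u} where
  obj B := CommRingCat.of B.1
  map h := CommRingCat.ofHom (Subalgebra.inclusion h.le).toRingHom
  map_id _ := by ext x; rfl
  map_comp _ _ := by ext x; rfl

/-- The inclusions. -/
def cocone : Cocone (ring A L) where
  pt := CommRingCat.of L
  ι :=
    { app := fun B => CommRingCat.ofHom B.1.val.toRingHom
      naturality := fun _ _ _ => by ext x; rfl }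

/-- The inclusions form a colimit. -/
def isColimitCocone : IsColimit (cocone A L) :=
  (AffLim.nonempty_isColimit_of_elementwise (cocone A L)
    (fun x => ⟨⟨Algebra.adjoin A {(x : L)}, ⟨{x}, by simp⟩⟩, ⟨x, Algebra.subset_adjoin rfl⟩, rfl⟩)
    (fun B x y e => ⟨B, le_rfl, by rw [show x = y from Subtype.ext e]⟩)).some

/-- The system of spectra. -/
def sys : (Idx A L)ᵒᵖ ⥤ Scheme.{u} := (ring A L).op ⋙ Scheme.Spec

/-- The cone with vertex `Spec L`. -/
def cone : Cone (sys A L) := Scheme.Spec.mapCone (cocone A L).op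

/-- `Spec L` is the limit. -/
def isLimitCone : IsLimit (cone A L) := isLimitOfPreserves Scheme.Spec (isColimitCocone A L).op

instance isAffine_sys (i : (Idx A L)ᵒᵖ) : IsAffine ((sys A L).obj i) :=
  inferInstanceAs (IsAffine (Spec (CommRingCat.of i.unop.1)))

instance isAffineHom_sys {i j : (Idx A L)ᵒᵖ} (a : i ⟶ j) : IsAffineHom ((sys A L).map a) :=
  inferInstanceAs (IsAffineHom (Spec.map _))

/-- The structure map of a stage. -/
def str (i : (Idx A L)ᵒᵖ) : (sys A L).obj i ⟶ Spec A :=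
  Spec.map (CommRingCat.ofHom (algebraMap A i.unop.1))

theorem map_str {i j : (Idx A L)ᵒᵖ} (a : i ⟶ j) : (sys A L).map a ≫ str A L j = str A L i := by
  show Spec.map _ ≫ Spec.map _ = Spec.map _
  rw [← Spec.map_comp]; rfl

theorem π_str (i : (Idx A L)ᵒᵖ) :
    (cone A L).π.app i ≫ str A L i = Spec.map (CommRingCat.ofHom (algebraMap A L)) := by
  show Spec.map _ ≫ Spec.map _ = Spec.map _
  rw [← Spec.map_comp]; rfl

theorem locallyOfFiniteType_str (i : (Idx A L)ᵒᵖ) : LocallyOfFiniteType (str A L i) := by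
  haveI : Algebra.FiniteType A i.unop.1 := (Subalgebra.fg_iff_finiteType i.unop.1).1 i.unop.2
  rw [str, HasRingHomProperty.Spec_iff (P := @LocallyOfFiniteType)]
  exact RingHom.finiteType_algebraMap.2 ‹_›

end Sub

theorem isIndConsPair (hP : Descends P) : ConsPropPair.IsIndConsPair (Rel P) := by
  refine ⟨isFieldStablePair, ?_⟩
  intro X Y S u v _ _ _ _ _ _ hη
  haveI : LocallyOfFinitePresentation u := inferInstance
  haveI : LocallyOfFinitePresentation v := inferInstance
  haveI : IsLocallyNoetherian X := LocallyOfFiniteType.isLocallyNoetherian u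
  haveI : IsLocallyNoetherian Y := LocallyOfFiniteType.isLocallyNoetherian v
  obtain ⟨L, _, h, hw⟩ := (rel_iff _ _).1 hη
  replace hw := (wit_baseChange_iff (IsPullback.of_hasPullback u _) (IsPullback.of_hasPullback v _) h).1 hw
  let η := genericPoint S
  let w := h ≫ S.fromSpecResidueField η
  obtain ⟨U, hU, hηU, -⟩ := exists_isAffineOpen_mem_and_subset (TopologicalSpace.Opens.mem_top η)
  have hwU : Set.range w ⊆ Set.range hU.fromSpec := by
    rw [hU.range_fromSpec]
    rintro _ ⟨z, rfl⟩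
    have : w z ∈ Set.range (S.fromSpecResidueField η) := ⟨h z, rfl⟩
    rw [Scheme.range_fromSpecResidueField] at this
    rw [this]
    exact hηU
  let A := Γ(S, U)
  let φ : A ⟶ CommRingCat.of L := Spec.preimage (IsOpenImmersion.lift hU.fromSpec w hwU)
  have hφ : Spec.map φ ≫ hU.fromSpec = w := by
    rw [Spec.map_preimage, IsOpenImmersion.lift_fac]
  letI : Algebra A L := φ.hom.toAlgebra
  let c := cone A L
  let i : (Idx A L)ᵒᵖ := Opposite.op ⟨⊥, Subalgebra.fg_bot⟩
  let q : ∀ j, (sys A L).obj j ⟶ S := fun j => str A L j ≫ hU.fromSpec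
  have hq : ∀ j, c.π.app j ≫ q j = w := fun j => by
    show c.π.app j ≫ str A L j ≫ hU.fromSpec = w
    rw [← Category.assoc, π_str]; exact hφ
  obtain ⟨X', Y', gX', gY', eX, eY, hX, hY, g, hg, hPg⟩ := hw
  have wX : eX ≫ u = (gX' ≫ c.π.app i) ≫ q i := (hX.w).trans (by rw [Category.assoc, hq])
  have wY : eY ≫ v = (gY' ≫ c.π.app i) ≫ q i := (hY.w).trans (by rw [Category.assoc, hq])
  let a₀ := pullback.snd u (q i)
  let b₀ := pullback.snd v (q i)
  let qX : X' ⟶ pullback u (q i) := pullback.lift eX (gX' ≫ c.π.app i) wX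
  let qY : Y' ⟶ pullback v (q i) := pullback.lift eY (gY' ≫ c.π.app i) wY
  haveI : CompactSpace ↥((sys A L).obj i) := inferInstance
  haveI : QuasiSeparatedSpace ↥((sys A L).obj i) := inferInstance
  haveI : CompactSpace ↥(pullback u (q i)) := QuasiCompact.compactSpace_of_compactSpace a₀
  haveI : CompactSpace ↥(pullback v (q i)) := QuasiCompact.compactSpace_of_compactSpace b₀
  haveI : QuasiSeparatedSpace ↥(pullback u (q i)) := quasiSeparatedSpace_of_quasiSeparated a₀
  haveI : QuasiSeparatedSpace ↥(pullback v (q i)) := quasiSeparatedSpace_of_quasiSeparated b₀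
  have hR : FPModelLib.IsModel (gX' : X' ⟶ c.pt) (c.π.app i) a₀ qX := by
    refine ⟨inferInstance, inferInstance, inferInstance, IsPullback.of_right ?_ (pullback.lift_snd _ _ _)
      (IsPullback.of_hasPullback u (q i))⟩
    rw [pullback.lift_fst, hq]; exact hX
  have hQ : FPModelLib.IsModel (gY' : Y' ⟶ c.pt) (c.π.app i) b₀ qY := by
    refine ⟨inferInstance, inferInstance, inferInstance, IsPullback.of_right ?_ (pullback.lift_snd _ _ _)
      (IsPullback.of_hasPullback v (q i))⟩
    rw [pullback.lift_fst, hq]; exact hY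
  obtain ⟨k, mk, hmk, hvm⟩ :=
    FPModelLib.exists_hom_stage (sys A L) c (isLimitCone A L) hR hQ g hg
  have hR' := FPModelLib.IsModel.stage (sys A L) c hR k
  have hQ' := FPModelLib.IsModel.stage (sys A L) c hQ k
  let X1 := (AffLim.baseChange (sys A L) i a₀).obj k
  let Y1 := (AffLim.baseChange (sys A L) i b₀).obj k
  let f₁ : X1 ⟶ Y1 := mk
  let g₁ : Y1 ⟶ (sys A L).obj k.left := pullback.snd b₀ ((sys A L).map k.hom)
  haveI : CompactSpace X1 := hR'.compact
  haveI : CompactSpace Y1 := hQ'.compact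
  haveI : QuasiSeparatedSpace X1 := hR'.qs
  haveI : QuasiSeparatedSpace Y1 := hQ'.qs
  haveI : LocallyOfFinitePresentation f₁ := by
    refine ASp.locallyOfFinitePresentation_of_comp f₁ g₁ ?_ ?_
    · rw [show f₁ ≫ g₁ = pullback.snd a₀ ((sys A L).map k.hom) from hmk]
      exact hR'.lfp
    · haveI := hQ'.lfp
      exact inferInstanceAs (LocallyOfFiniteType g₁)
  have hY1 := hQ'.isPullback
  have hX1 : IsPullback (FlatStage.vMap (sys A L) c i a₀ hR.isPullback k) g f₁
      (FlatStage.vMap (sys A L) c i b₀ hQ.isPullback k) := by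
    refine IsPullback.of_bot ?_ hvm hY1
    rw [show f₁ ≫ g₁ = pullback.snd a₀ ((sys A L).map k.hom) from hmk, show g ≫ gY' = gX' from hg]
    exact hR'.isPullback
  obtain ⟨l, hl⟩ := hP (sys A L) c (isLimitCone A L) k.left f₁ g₁ hY1 hX1 hPg
  let R := (sys A L).obj l.left
  have hwR : Wit P u v (q l.left) := by
    refine ⟨_, _, pullback.snd (f₁ ≫ g₁) ((sys A L).map l.hom), pullback.snd g₁ ((sys A L).map l.hom),
      pullback.fst _ _ ≫ pullback.fst a₀ ((sys A L).map k.hom) ≫ pullback.fst u (q i),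
      pullback.fst _ _ ≫ pullback.fst b₀ ((sys A L).map k.hom) ≫ pullback.fst v (q i), ?_, ?_,
      (AffLim.baseChangeMap (sys A L) k.left f₁ g₁).app l, ?_, hl⟩
    · have h1 := ((IsPullback.of_hasPullback (f₁ ≫ g₁) ((sys A L).map l.hom)).paste_horiz
        (show IsPullback (pullback.fst a₀ ((sys A L).map k.hom)) (f₁ ≫ g₁) a₀ ((sys A L).map k.hom) by
          rw [show f₁ ≫ g₁ = pullback.snd a₀ ((sys A L).map k.hom) from hmk]
          exact IsPullback.of_hasPullback _ _)).paste_horiz (IsPullback.of_hasPullback u (q i))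
      convert h1 using 1
      · simp
      · show str A L l.left ≫ hU.fromSpec = _
        rw [Category.assoc, ← map_str A L l.hom, ← map_str A L k.hom]
        simp [q]
    · have h1 := ((IsPullback.of_hasPullback g₁ ((sys A L).map l.hom)).paste_horiz
        (IsPullback.of_hasPullback b₀ ((sys A L).map k.hom))).paste_horiz (IsPullback.of_hasPullback v (q i))
      convert h1 using 1
      · simp [g₁]
      · show str A L l.left ≫ hU.fromSpec = _
        rw [Category.assoc, ← map_str A L l.hom, ← map_str A L k.hom]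
        simp [q]
    · simp [AffLim.baseChangeMap]
  haveI := locallyOfFiniteType_str A L l.left
  haveI : LocallyOfFiniteType (q l.left) := inferInstanceAs (LocallyOfFiniteType (str A L l.left ≫ hU.fromSpec))
  have hmem : η ∈ Set.range (q l.left) := by
    refine ⟨c.π.app l.left (IsLocalRing.closedPoint L), ?_⟩
    rw [← Scheme.Hom.comp_apply, hq]
    have : w (IsLocalRing.closedPoint L) ∈ Set.range (S.fromSpecResidueField η) := ⟨h _, rfl⟩
    rw [Scheme.range_fromSpecResidueField] at this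
    exact this
  refine ⟨η, interior_mono ?_ (S4585.result (q l.left) hmem)⟩
  rintro _ ⟨r, rfl⟩
  show Rel P _ _
  rw [rel_iff]
  refine ⟨R.residueField r, inferInstance, Spec.map ((q l.left).residueFieldMap r), ?_⟩
  refine (wit_baseChange_iff (IsPullback.of_hasPullback u _) (IsPullback.of_hasPullback v _) _).2 ?_
  rw [Scheme.Hom.SpecMap_residueFieldMap_fromSpecResidueField]
  exact hwR.comp _

end Groth.Agent.EtAlgEasy.IndConsPair
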