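import Groth.Agent.EtAlgEasy.IndConsPair
import Groth.Agent.AffLim.DescendQA
import Groth.Agent.AffLim.DescendQF
import Groth.Agent.S2339
import Groth.Agent.S2338
import Groth.Agent.S2341
import Groth.Prelude.Def_MoreMor
import Mathlib

/-!
The properties descending along affine limits used for relations between pairs of algebraic schemes.
-/

set_option autoImplicit false
set_option backward.isDefEq.respectTransparency false

universe u

open CategoryTheory CategoryTheory.Limits AlgebraicGeometry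

namespace Groth.Agent.EtAlgEasy.IndConsPair

theorem descends_isClosedImmersion : Descends.{u} @IsClosedImmersion := by
  intro I _ _ D _ _ c hc i X₀ Y₀ f₀ g₀ _ _ _ _ _ X Y f g qY qX hY hX hf
  haveI : IsClosedImmersion f := hf
  exact AffLim.exists_isClosedImmersion_baseChange D c hc i f₀ g₀ hY hX

theorem descends_isOpenImmersion : Descends.{u} @IsOpenImmersion := by
  intro I _ _ D _ _ c hc i X₀ Y₀ f₀ g₀ _ _ _ _ _ X Y f g qY qX hY hX hf
  haveI : IsOpenImmersion f := hf
  exact AffLim.exists_isOpenImmersion_baseChange D c hc i f₀ g₀ hY hX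

theorem descends_surjective : Descends.{u} @Surjective := by
  intro I _ _ D _ _ c hc i X₀ Y₀ f₀ g₀ _ _ _ _ _ X Y f g qY qX hY hX hf
  haveI : Surjective f := hf
  exact AffLim.exists_surjective_baseChange D c hc i f₀ g₀ hY hX

theorem descends_isIso : Descends.{u} (MorphismProperty.isomorphisms Scheme.{u}) := by
  intro I _ _ D _ _ c hc i X₀ Y₀ f₀ g₀ _ _ _ _ _ X Y f g qY qX hY hX hf
  haveI : IsIso f := hf
  obtain ⟨k, hk⟩ := AffLim.exists_isOpenImmersion_baseChange D c hc i f₀ g₀ hY hX
  obtain ⟨l, φ, hl⟩ := AffLim.exists_surjective_baseChange_from D c hc i f₀ g₀ k hY hX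
  have := AffLim.prop_of_stage_map D i f₀ g₀ @IsOpenImmersion φ hk
  refine ⟨l, ?_⟩
  exact isIso_of_isOpenImmersion_of_opensRange_eq_top _
    (TopologicalSpace.Opens.ext hl.surj.range_eq)

theorem descends_isFinite : Descends.{u} @IsFinite := by
  intro I _ _ D _ _ c hc i X₀ Y₀ f₀ g₀ _ _ _ _ _ X Y f g qY qX hY hX hf
  haveI : IsFinite f := hf
  exact AffLim.exists_isFinite_baseChange D c hc i f₀ g₀ hY hX

theorem descends_isAffineHom : Descends.{u} @IsAffineHom := by
  intro I _ _ D _ _ c hc i X₀ Y₀ f₀ g₀ _ _ _ _ _ X Y f g qY qX hY hX hf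
  haveI : IsAffineHom f := hf
  exact AffLim.exists_isAffineHom_baseChange D c hc i f₀ g₀ hY hX

theorem descends_universallyInjective : Descends.{u} @UniversallyInjective := by
  intro I _ _ D _ _ c hc i X₀ Y₀ f₀ g₀ _ _ _ _ _ X Y f g qY qX hY hX hf
  haveI : UniversallyInjective f := hf
  exact AffLim.exists_universallyInjective_baseChange D c hc i f₀ g₀ hY hX

theorem descends_isImmersion : Descends.{u} @IsImmersion := by
  intro I _ _ D _ _ c hc i X₀ Y₀ f₀ g₀ _ _ _ _ _ X Y f g qY qX hY hX hf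
  haveI : IsImmersion f := hf
  exact AffLim.exists_isImmersion_baseChange D c hc i f₀ g₀ hY hX

theorem descends_mono : Descends.{u} (MorphismProperty.monomorphisms Scheme.{u}) := by
  intro I _ _ D _ _ c hc i X₀ Y₀ f₀ g₀ _ _ _ _ _ X Y f g qY qX hY hX hf
  haveI : Mono f := hf
  exact AffLim.exists_mono_baseChange D c hc i f₀ g₀ hY hX

theorem descends_isSeparated : Descends.{u} @IsSeparated := by
  intro I _ _ D _ _ c hc i X₀ Y₀ f₀ g₀ _ _ _ _ _ X Y f g qY qX hY hX hf
  haveI : IsSeparated f := hf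
  exact AffLim.exists_isSeparated_baseChange D c hc i f₀ g₀ hY hX

theorem descends_isProper : Descends.{u} @IsProper := by
  intro I _ _ D _ _ c hc i X₀ Y₀ f₀ g₀ _ _ _ _ _ X Y f g qY qX hY hX hf
  haveI : IsProper f := hf
  obtain ⟨j, φ, hk⟩ := FPModelLib.exists_proper_stage D c hc i f₀ g₀ hY hX
  exact ⟨_, hk⟩

/-- Quasi-finite morphisms. -/
def qfin : MorphismProperty Scheme.{u} :=
  fun _ _ f => LocallyOfFiniteType f ∧ QuasiCompact f ∧ LocallyQuasiFinite f

instance : (qfin.{u}).IsStableUnderBaseChange where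
  of_isPullback sq h := ⟨MorphismProperty.of_isPullback sq h.1, MorphismProperty.of_isPullback sq h.2.1,
    MorphismProperty.of_isPullback sq h.2.2⟩

theorem descends_qfin : Descends.{u} qfin.{u} := by
  intro I _ _ D _ _ c hc i X₀ Y₀ f₀ g₀ _ _ _ _ _ X Y f g qY qX hY hX hf
  haveI : LocallyQuasiFinite f := hf.2.2
  obtain ⟨k, hk⟩ := AffLim.exists_locallyQuasiFinite_baseChange D c hc i f₀ g₀ hY hX
  exact ⟨k, AffLim.prop_baseChangeMap D i f₀ g₀ @LocallyOfFiniteType inferInstance k,
    AffLim.prop_baseChangeMap D i f₀ g₀ @QuasiCompact (quasiCompact_of_compactSpace f₀) k, hk⟩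

/-- Quasi-affine morphisms. -/
def qaff : MorphismProperty Scheme.{u} := fun _ _ f => MoreMor.IsQuasiAffineHom f

instance : (qaff.{u}).IsStableUnderBaseChange where
  of_isPullback {X Y Y' S f g f' g'} sq hg := by
    have h1 : Mor2.IsQuasiAffine (pullback.snd g f) := Groth.Agent.S2339.result g hg f
    have h2 : Mor2.IsQuasiAffine sq.isoPullback.hom := by
      haveI : QuasiCompact sq.isoPullback.hom := inferInstance
      exact Groth.Agent.S2341.result _ sq.isoPullback.hom.homeomorph.isEmbedding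
    have h3 := Groth.Agent.S2338.result _ _ h2 h1
    rw [sq.isoPullback_hom_snd] at h3
    exact h3

theorem descends_qaff : Descends.{u} qaff.{u} := by
  intro I _ _ D _ _ c hc i X₀ Y₀ f₀ g₀ _ _ _ _ _ X Y f g qY qX hY hX hf
  exact AffLim.exists_isQuasiAffine_baseChange D c hc i f₀ g₀ hY hX hf

end Groth.Agent.EtAlgEasy.IndConsPair
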