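import Groth.Agent.EtAlgEasy.FibLocus
import Groth.Agent.EtAlgEasy.IndConsPairInst
import Groth.Agent.ProConsLib.Scheme
import Groth.Agent.FpqcDesc.Basic
import Groth.Agent.SchDesc.QADescends
import Groth.Prelude.Def_ProCons
import Mathlib

/-!
Loci of points over which the fibre map has a property descending along affine limits are
ind-constructible.
-/

set_option autoImplicit false
set_option backward.isDefEq.respectTransparency false
set_option linter.style.haveILetI false

universe u

open CategoryTheory CategoryTheory.Limits AlgebraicGeometry TopologicalSpace Topology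

noncomputable section

namespace Groth.Agent.EtAlgEasy.FibLocus

open FibreMapConstr

variable (P : MorphismProperty Scheme.{u}) [P.IsStableUnderBaseChange] [P.DescendsAlong fieldQ]

instance affineHom_descends : MorphismProperty.DescendsAlong @IsAffineHom fieldQ.{u} :=
  haveI := FpqcDesc.isAffineHom_descends.{u}
  MorphismProperty.DescendsAlong.of_le (P := @IsAffineHom) inf_le_left

instance qaff_descends : MorphismProperty.DescendsAlong IndConsPair.qaff.{u} fieldQ.{u} :=
  haveI : MorphismProperty.DescendsAlong IndConsPair.qaff.{u}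
      (@Surjective ⊓ @Flat ⊓ @QuasiCompact : MorphismProperty Scheme.{u}) := SchDesc.isQuasiAffine_descends
  MorphismProperty.DescendsAlong.of_le (P := IndConsPair.qaff.{u}) inf_le_left

/-- Over an affine Noetherian base every point of the locus lies in a constructible subset of it. -/
theorem exists_constructible_subset_locus (hP : IndConsPair.Descends P) {A : CommRingCat.{u}} [IsNoetherianRing A]
    {X Y : Scheme.{u}} (f : X ⟶ Y) (g : Y ⟶ Spec A) [LocallyOfFiniteType g] [QuasiCompact g] [QuasiSeparated g]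
    [LocallyOfFiniteType f] [QuasiCompact f] [QuasiSeparated f] (s : Spec A) (hs : s ∈ locus P f g) :
    ∃ C : Set (Spec A), IsConstructible C ∧ s ∈ C ∧ C ⊆ locus P f g := by
  let L : CommRingCat.{u} := (Spec A).residueField s
  let φ : A ⟶ L := Spec.preimage ((Spec A).fromSpecResidueField s)
  have hφ : Spec.map φ = (Spec A).fromSpecResidueField s := Spec.map_preimage _
  letI : Algebra A L := φ.hom.toAlgebra
  let c := IndConsPair.cone A L
  let i : (IndConsPair.Idx A L)ᵒᵖ := Opposite.op ⟨⊥, Subalgebra.fg_bot⟩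
  let q := IndConsPair.str A L i
  have hq : c.π.app i ≫ q = (Spec A).fromSpecResidueField s := (IndConsPair.π_str A L i).trans hφ
  haveI : LocallyOfFiniteType q := IndConsPair.locallyOfFiniteType_str A L i
  haveI : IsLocallyNoetherian ((IndConsPair.sys A L).obj i) := LocallyOfFiniteType.isLocallyNoetherian q
  let f₀ := pullback.snd f (pullback.fst g q)
  let g₀ := pullback.snd g q
  haveI : IsLocallyNoetherian (pullback g q) := LocallyOfFiniteType.isLocallyNoetherian g₀
  haveI : LocallyOfFinitePresentation f₀ := inferInstance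
  haveI : CompactSpace ↥(pullback g q) := QuasiCompact.compactSpace_of_compactSpace g₀
  haveI : QuasiSeparatedSpace ↥(pullback g q) := quasiSeparatedSpace_of_quasiSeparated g₀
  haveI : CompactSpace ↥(pullback f (pullback.fst g q)) := QuasiCompact.compactSpace_of_compactSpace f₀
  haveI : QuasiSeparatedSpace ↥(pullback f (pullback.fst g q)) := quasiSeparatedSpace_of_quasiSeparated f₀
  let qY : pullback g ((Spec A).fromSpecResidueField s) ⟶ pullback g q :=
    pullback.lift (pullback.fst g _) (pullback.snd g _ ≫ c.π.app i) (by rw [pullback.condition, Category.assoc, hq])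
  have hY : IsPullback qY (pullback.snd g ((Spec A).fromSpecResidueField s)) g₀ (c.π.app i) := by
    refine IsPullback.of_right ?_ (pullback.lift_snd _ _ _) (IsPullback.of_hasPullback g q)
    rw [pullback.lift_fst, hq]
    exact IsPullback.of_hasPullback _ _
  let qX : pullback (f ≫ g) ((Spec A).fromSpecResidueField s) ⟶ pullback f (pullback.fst g q) :=
    pullback.lift (pullback.fst (f ≫ g) _) (fib f g s ≫ qY) (by
      rw [Category.assoc, pullback.lift_fst]
      exact (pullback.lift_fst _ _ _).symm)
  have hfib : IsPullback (pullback.fst (f ≫ g) ((Spec A).fromSpecResidueField s)) (fib f g s) f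
      (pullback.fst g ((Spec A).fromSpecResidueField s)) := by
    refine IsPullback.of_bot ?_ (pullback.lift_fst _ _ _).symm (IsPullback.of_hasPullback g _)
    have e : fib f g s ≫ pullback.snd g ((Spec A).fromSpecResidueField s) =
        pullback.snd (f ≫ g) ((Spec A).fromSpecResidueField s) := pullback.lift_snd _ _ _
    rw [e]
    exact IsPullback.of_hasPullback _ _
  have hX : IsPullback qX (fib f g s) f₀ qY := by
    refine IsPullback.of_right ?_ (pullback.lift_snd _ _ _) (IsPullback.of_hasPullback f (pullback.fst g q))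
    rw [pullback.lift_fst, pullback.lift_fst]
    exact hfib
  obtain ⟨k, hk⟩ := hP (IndConsPair.sys A L) c (IndConsPair.isLimitCone A L) i f₀ g₀ hY hX hs
  let qk := IndConsPair.str A L k.left
  haveI : LocallyOfFiniteType qk := IndConsPair.locallyOfFiniteType_str A L k.left
  let f₁ := (AffLim.baseChangeMap (IndConsPair.sys A L) i f₀ g₀).app k
  let g₁ := pullback.snd g₀ ((IndConsPair.sys A L).map k.hom)
  have hdq : (IndConsPair.sys A L).map k.hom ≫ q = qk := IndConsPair.map_str A L k.hom
  have hY1 : IsPullback (pullback.fst g₀ ((IndConsPair.sys A L).map k.hom) ≫ pullback.fst g q) g₁ g qk := by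
    rw [← hdq]
    exact (IsPullback.of_hasPullback g₀ ((IndConsPair.sys A L).map k.hom)).paste_horiz (IsPullback.of_hasPullback g q)
  have hsq := (AffLim.isPullback_baseChangeMap (IndConsPair.sys A L) i f₀ g₀ k).paste_horiz
    (IsPullback.of_hasPullback f (pullback.fst g q))
  have hall : Set.range qk ⊆ locus P f g := by
    rintro _ ⟨r, rfl⟩
    refine (fib_iff_baseChange P (hsq.paste_vert hY1) hY1 hsq.w.symm r).1 ?_
    have h1 : IsPullback (pullback.fst (f₁ ≫ g₁) (((IndConsPair.sys A L).obj k.left).fromSpecResidueField r))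
        (fib f₁ g₁ r) f₁ (pullback.fst g₁ (((IndConsPair.sys A L).obj k.left).fromSpecResidueField r)) := by
      refine IsPullback.of_bot ?_ (pullback.lift_fst _ _ _).symm (IsPullback.of_hasPullback g₁ _)
      have e : fib f₁ g₁ r ≫ pullback.snd g₁ _ = pullback.snd (f₁ ≫ g₁) _ := pullback.lift_snd _ _ _
      rw [e]
      exact IsPullback.of_hasPullback _ _
    exact P.of_isPullback h1 hk
  haveI : IsLocallyNoetherian (Spec A) := inferInstance
  haveI : LocallyOfFinitePresentation qk := inferInstance
  refine ⟨Set.range qk, ?_, ⟨c.π.app k.left (IsLocalRing.closedPoint L), ?_⟩, hall⟩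
  · rw [← Set.image_univ]
    exact Scheme.Hom.isConstructible_image qk IsConstructible.univ
  · rw [← Scheme.Hom.comp_apply, show c.π.app k.left ≫ qk = (Spec A).fromSpecResidueField s from
      (IndConsPair.π_str A L k.left).trans hφ]
    exact Scheme.fromSpecResidueField_apply _ _

theorem isIndConstructible_of_affineOpens {S : Scheme.{u}} {E : Set S}
    (h : ∀ U : S.affineOpens, ProCons.IsIndConstructible (Subtype.val ⁻¹' E : Set ↥(U.1 : Set S))) :
    ProCons.IsIndConstructible E := by
  intro x
  obtain ⟨U₀, hU₀, hxU, -⟩ := exists_isAffineOpen_mem_and_subset (x := x) (U := (⊤ : S.Opens)) trivial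
  haveI := ProConsLib.spectralSpace_of_isAffineOpen hU₀
  obtain ⟨V, hV, hxV, T, hT, hE⟩ := h ⟨U₀, hU₀⟩ ⟨x, hxU⟩
  obtain ⟨W, hW, rfl⟩ := isOpen_induced_iff.1 hV
  refine ⟨(U₀ : Set S) ∩ W, U₀.2.inter hW, ⟨hxU, hxV⟩,
    (fun t => (fun z : ↥((U₀ : Set S) ∩ W) => (⟨⟨z.1, z.2.1⟩, z.2.2⟩ :
      ↥(Subtype.val ⁻¹' W : Set ↥(U₀ : Set S)))) ⁻¹' t) '' T, ?_, ?_⟩
  · rintro _ ⟨t, ht, rfl⟩
    let e : ↥((U₀ : Set S) ∩ W) ≃ₜ ↥(Subtype.val ⁻¹' W : Set ↥(U₀ : Set S)) :=
      { toFun := fun z => ⟨⟨z.1, z.2.1⟩, z.2.2⟩
        invFun := fun z => ⟨z.1.1, z.1.2, z.2⟩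
        left_inv := fun z => rfl
        right_inv := fun z => rfl
        continuous_toFun := by fun_prop
        continuous_invFun := by fun_prop }
    exact (hT t ht).preimage_of_isOpenEmbedding e.isOpenEmbedding
  · ext z
    have := Set.ext_iff.1 hE ⟨⟨z.1, z.2.1⟩, z.2.2⟩
    simp only [Set.mem_preimage, Set.mem_sUnion] at this ⊢
    rw [this]
    simp only [Set.mem_image, exists_exists_and_eq_and, Set.mem_preimage]

/-- The locus is ind-constructible when the property descends along affine limits. -/
theorem isIndConstructible_locus (hP : IndConsPair.Descends P) {X Y S : Scheme.{u}} (f : X ⟶ Y) (g : Y ⟶ S)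
    [LocallyOfFinitePresentation g] [QuasiCompact g] [QuasiSeparated g]
    [LocallyOfFinitePresentation (f ≫ g)] [QuasiCompact (f ≫ g)] [QuasiSeparated (f ≫ g)] :
    ProCons.IsIndConstructible (locus P f g) := by
  refine isIndConstructible_of_affineOpens fun U => ?_
  let e := U.2.isoSpec
  let f₁ := pullback.snd f (pullback.fst g U.1.ι)
  let g₁ := pullback.snd g U.1.ι
  have hX1 := (IsPullback.of_hasPullback f (pullback.fst g U.1.ι)).paste_vert (IsPullback.of_hasPullback g U.1.ι)
  have hY1 := IsPullback.of_hasPullback g U.1.ι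
  haveI : LocallyOfFinitePresentation (f₁ ≫ g₁) := MorphismProperty.of_isPullback hX1 inferInstance
  haveI : QuasiCompact (f₁ ≫ g₁) := MorphismProperty.of_isPullback hX1 inferInstance
  haveI : QuasiSeparated (f₁ ≫ g₁) := MorphismProperty.of_isPullback hX1 inferInstance
  let u := (f₁ ≫ g₁) ≫ e.hom
  let v := g₁ ≫ e.hom
  haveI : CompactSpace ↥(pullback f (pullback.fst g U.1.ι)) := QuasiCompact.compactSpace_of_compactSpace u
  haveI : QuasiSeparatedSpace ↥(pullback f (pullback.fst g U.1.ι)) := quasiSeparatedSpace_of_quasiSeparated u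
  haveI : CompactSpace ↥(pullback g U.1.ι) := QuasiCompact.compactSpace_of_compactSpace v
  haveI : QuasiSeparatedSpace ↥(pullback g U.1.ι) := quasiSeparatedSpace_of_quasiSeparated v
  let D := FPModelLib.zSys Γ(S, U.1)
  let c := FPModelLib.zCone Γ(S, U.1)
  have hc := FPModelLib.isLimitZCone Γ(S, U.1)
  obtain ⟨i, G, a, q, hG⟩ := FPModelLib.Gen.exists_model D c hc u
  obtain ⟨j, H, b, r, hH⟩ := FPModelLib.Gen.exists_model D c hc v
  have hG' := FPModelLib.IsModel.stage D c hG (Over.mk (IsCofiltered.minToLeft i j))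
  have hH' := FPModelLib.IsModel.stage D c hH (Over.mk (IsCofiltered.minToRight i j))
  obtain ⟨k, mk, hmk, hsq⟩ := FPModelLib.Gen.exists_hom_stage D c hc hG' hH' f₁ (by simp [u, v])
  have hG'' := hG'.stage D c k
  have hH'' := hH'.stage D c k
  haveI : CompactSpace ↥((AffLim.baseChange D _ (pullback.snd a (D.map (Over.mk (IsCofiltered.minToLeft i j)).hom))).obj k) :=
    hG''.compact
  haveI : CompactSpace ↥((AffLim.baseChange D _ (pullback.snd b (D.map (IsCofiltered.minToRight i j)))).obj k) :=
    hH''.compact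
  haveI : QuasiSeparatedSpace ↥((AffLim.baseChange D _ (pullback.snd b (D.map (IsCofiltered.minToRight i j)))).obj k) :=
    hH''.qs
  haveI : QuasiSeparatedSpace ↥((AffLim.baseChange D (Over.mk (IsCofiltered.minToLeft i j)).left
      (pullback.snd b (D.map (Over.mk (IsCofiltered.minToRight i j)).hom))).obj k) := hH''.qs
  haveI := hG''.lfp
  haveI : IsNoetherian (D.obj k.left) := FPModelLib.isNoetherian_zSys Γ(S, U.1) k.left
  let g₀ : (AffLim.baseChange D _ (pullback.snd b (D.map (IsCofiltered.minToRight i j)))).obj k ⟶ D.obj k.left :=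
    pullback.snd _ (D.map k.hom)
  haveI : LocallyOfFinitePresentation g₀ := hH''.lfp
  haveI : LocallyOfFiniteType (mk ≫ g₀) := (congrArg (fun m => LocallyOfFiniteType m) hmk).mpr inferInstance
  haveI : LocallyOfFiniteType mk := locallyOfFiniteType_of_comp mk g₀
  haveI : QuasiCompact mk := quasiCompact_of_compactSpace mk
  haveI : QuasiCompact g₀ := quasiCompact_of_compactSpace g₀
  haveI : QuasiSeparated g₀ := inferInstance
  haveI := hG''.qs
  haveI : QuasiSeparated mk := @QuasiSeparated.of_quasiSeparatedSpace _ _ mk hG''.qs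
  have hc1 : ProCons.IsIndConstructible (locus P mk g₀) := by
    intro s
    refine ⟨Set.univ, isOpen_univ, trivial,
      {T | ∃ C : Set (D.obj k.left), IsConstructible C ∧ C ⊆ locus P mk g₀ ∧ T = Subtype.val ⁻¹' C}, ?_, ?_⟩
    · rintro _ ⟨C, hC, -, rfl⟩
      exact hC.isLocallyConstructible.preimage_of_isOpenEmbedding isOpen_univ.isOpenEmbedding_subtypeVal
    · refine Set.Subset.antisymm (fun z hz => ?_) ?_
      · haveI : IsNoetherianRing ↑(CommRingCat.of k.left.unop.1) := by
          haveI := FPModelLib.finiteType_zSys Γ(S, U.1) k.left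
          exact Algebra.FiniteType.isNoetherianRing ℤ _
        obtain ⟨C, hC, hzC, hCl⟩ := exists_constructible_subset_locus P hP
          (A := CommRingCat.of k.left.unop.1) mk g₀ z.1 hz
        exact ⟨_, ⟨C, hC, hCl, rfl⟩, hzC⟩
      · rintro z ⟨_, ⟨C, -, hCl, rfl⟩, hz⟩
        exact hCl hz
  have e1 : locus P f₁ v = c.π.app k.left ⁻¹' locus P mk g₀ := locus_preimage P
    ((congrArg (fun m => IsPullback _ (f₁ ≫ v) m (c.π.app k.left)) hmk).mpr (by
      rw [show f₁ ≫ v = (f₁ ≫ g₁) ≫ e.hom from (Category.assoc _ _ _).symm]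
      exact hG''.isPullback))
    hH''.isPullback hsq.symm
  have e2 : locus P f₁ g₁ = e.hom ⁻¹' locus P f₁ v := locus_preimage P
    (IsPullback.of_horiz_isIso ⟨by simp [v]⟩ : IsPullback (𝟙 _) (f₁ ≫ g₁) (f₁ ≫ v) e.hom)
    (IsPullback.of_horiz_isIso ⟨by simp [v]⟩ : IsPullback (𝟙 _) g₁ v e.hom) (by simp)
  have key : ProCons.IsIndConstructible (locus P f₁ g₁) := by
    rw [e2, e1]
    exact ProConsLib.isIndConstructible_preimage e.hom (ProConsLib.isIndConstructible_preimage _ hc1)
  rw [locus_pullback P f g U.1.ι] at key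
  exact key

end Groth.Agent.EtAlgEasy.FibLocus
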