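import Mathlib

/-!
Small algebraic and topological facts.
-/

set_option autoImplicit false
set_option backward.isDefEq.respectTransparency false

universe u

open scoped TensorProduct

namespace Groth.Agent.EtAlgEasy.MiscAlgE

theorem iInf_ker_rTensor {A : Type u} [CommRing A] {M : Type u} [AddCommGroup M] [Module A M] {ι : Type u}
    (M' : ι → Type u) [∀ i, AddCommGroup (M' i)] [∀ i, Module A (M' i)] (u : ∀ i, M →ₗ[A] M' i)
    (hu : ⨅ i, LinearMap.ker (u i) = ⊥) (N : Type u) [AddCommGroup N] [Module A N] [Module.Projective A N] :
    ⨅ i, LinearMap.ker ((u i).rTensor N) = ⊥ := by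
  classical
  obtain ⟨s, hs⟩ := (inferInstance : Module.Projective A N).out
  let L := Finsupp.linearCombination A (id : N → N)
  refine (Submodule.eq_bot_iff _).2 fun x hx => ?_
  let e := TensorProduct.finsuppScalarRight A A M N
  have hz : e (s.lTensor M x) = 0 := Finsupp.ext fun n => by
    have hn : e (s.lTensor M x) n ∈ ⨅ i, LinearMap.ker (u i) := Submodule.mem_iInf _ |>.2 fun i => by
      have h1 : ∀ y : M ⊗[A] (N →₀ A), u i (e y n) = TensorProduct.finsuppScalarRight A A (M' i) N ((u i).rTensor _ y) n := by
        intro y
        induction y using TensorProduct.induction_on with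
        | zero => simp
        | tmul m a => simp [e, TensorProduct.finsuppScalarRight_apply_tmul_apply]
        | add a b ha hb => simp [map_add, ha, hb]
      rw [LinearMap.mem_ker, h1, ← LinearMap.comp_apply, LinearMap.rTensor_comp_lTensor, ← LinearMap.lTensor_comp_rTensor,
        LinearMap.comp_apply, show (u i).rTensor N x = 0 from (Submodule.mem_iInf _).1 hx i]
      simp
    rw [hu] at hn
    exact hn
  have hx0 : s.lTensor M x = 0 := e.injective (hz.trans (map_zero e).symm)
  have : (L.lTensor M) (s.lTensor M x) = x := by
    rw [← LinearMap.comp_apply, ← LinearMap.lTensor_comp, show L ∘ₗ s = LinearMap.id from LinearMap.ext hs,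
      LinearMap.lTensor_id, LinearMap.id_apply]
  rw [← this, hx0, map_zero]

end Groth.Agent.EtAlgEasy.MiscAlgE
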