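import Mathlib

/-!
Small facts: weighted orbit counts, eigenspaces of finite-order endomorphisms, trace involutions.
-/

set_option autoImplicit false
set_option linter.style.haveILetI false

universe u v w

open Polynomial

namespace Groth.Agent.EtAlgEasy.MiscFinE

open Classical in
theorem sum_div_card_stabilizer {G : Type u} {X : Type v} (𝕜 : Type w)
    [Group G] [Fintype G] [MulAction G X] [Fintype X] [Field 𝕜] [CharZero 𝕜]
    (W : Finset (MulAction.orbitRel.Quotient G X)) (f : MulAction.orbitRel.Quotient G X → 𝕜) :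
    (∑ O ∈ W, f O / (Nat.card (MulAction.stabilizer G O.out) : 𝕜)) =
      (Fintype.card G : 𝕜)⁻¹ *
        ∑ x ∈ Finset.univ.filter (fun x : X => (Quotient.mk (MulAction.orbitRel G X) x) ∈ W),
          f (Quotient.mk (MulAction.orbitRel G X) x) := by
  classical
  rw [← Finset.sum_fiberwise_of_maps_to' (g := fun x : X => (Quotient.mk (MulAction.orbitRel G X) x)) (t := W)
    (fun x hx => (Finset.mem_filter.1 hx).2) f, Finset.mul_sum]
  refine Finset.sum_congr rfl fun O hO => ?_
  rw [Finset.sum_const, nsmul_eq_mul]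
  have hfib : (Finset.univ.filter (fun x : X => (Quotient.mk (MulAction.orbitRel G X) x) ∈ W)).filter
      (fun x => (Quotient.mk (MulAction.orbitRel G X) x) = O) =
      (MulAction.orbit G O.out).toFinset := by
    ext x
    simp only [Finset.mem_filter, Finset.mem_univ, true_and, Set.mem_toFinset]
    constructor
    · rintro ⟨-, h⟩
      exact MulAction.orbitRel_apply.1 (Quotient.exact (h.trans O.out_eq.symm))
    · intro h
      have : Quotient.mk (MulAction.orbitRel G X) x = O :=
        (Quotient.sound (MulAction.orbitRel_apply.2 h)).trans O.out_eq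
      exact ⟨this.symm ▸ hO, this⟩
  rw [hfib, Set.toFinset_card]
  have h := MulAction.card_orbit_mul_card_stabilizer_eq_card_group G O.out
  have hcast : (Fintype.card (MulAction.orbit G O.out) : 𝕜) *
      (Nat.card (MulAction.stabilizer G O.out) : 𝕜) = (Fintype.card G : 𝕜) := by
    rw [← h, Nat.card_eq_fintype_card]; push_cast; rfl
  have hs : (Nat.card (MulAction.stabilizer G O.out) : 𝕜) ≠ 0 := Nat.cast_ne_zero.2 Nat.card_pos.ne'
  have hg : (Fintype.card G : 𝕜) ≠ 0 := Nat.cast_ne_zero.2 Fintype.card_ne_zero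
  field_simp
  rw [← hcast]
  ring

theorem iSup_eigenspace_eq_top {k : Type u} [Field k] [IsAlgClosed k] [CharZero k] {V : Type v} [AddCommGroup V]
    [Module k V] (g : Module.End k V) (m : ℕ) (hm : 0 < m) (hg : g ^ m = 1) :
    ⨆ μ : k, Module.End.eigenspace g μ = ⊤ := by
  classical
  let p : k[X] := X ^ m - C 1
  have hmon : p.Monic := monic_X_pow_sub_C 1 hm.ne'
  have hsep : p.Separable := separable_X_pow_sub_C 1 (Nat.cast_ne_zero.2 hm.ne') one_ne_zero
  have hp : p = ∏ a ∈ p.roots.toFinset, (X - C a) := by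
    conv_lhs => rw [(IsAlgClosed.splits p).eq_prod_roots_of_monic hmon]
    rw [Finset.prod, Multiset.toFinset_val, Multiset.dedup_eq_self.2 (nodup_roots hsep)]
  have key : ∀ s : Finset k, LinearMap.ker (aeval g (∏ a ∈ s, (X - C a))) ≤ ⨆ μ : k, Module.End.eigenspace g μ := by
    intro s
    induction s using Finset.induction_on with
    | empty => simp [Module.End.one_eq_id]
    | @insert a s ha ih =>
      rw [Finset.prod_insert ha, ← sup_ker_aeval_eq_ker_aeval_mul_of_coprime g
        (IsCoprime.prod_right fun b hb => isCoprime_X_sub_C_of_isUnit_sub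
          (sub_ne_zero.2 (fun h => ha (by rwa [h]))).isUnit)]
      refine sup_le (le_trans (le_of_eq ?_) (le_iSup _ a)) ih
      rw [Module.End.eigenspace_def, map_sub, aeval_X, aeval_C]
      rfl
  rw [eq_top_iff]
  refine le_trans ?_ (key p.roots.toFinset)
  rw [← hp]
  have : aeval g p = 0 := by simp [p, hg]
  rw [this, LinearMap.ker_zero]

theorem exists_involution {A : Type u} {B : Type v} [CommRing A] [CommRing B]
    [Algebra A B] (h2 : IsUnit (2 : A)) [Module.Free A B] [Module.Finite A B]
    (hrk : Module.finrank A B = 2)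
    [Module.Free A (LinearMap.ker (Algebra.trace A B))]
    (hker : Module.finrank A (LinearMap.ker (Algebra.trace A B)) = 1) :
    ∃ σ : B →ₐ[A] B, (∀ b : B, σ b = algebraMap A B (Algebra.trace A B b) - b) ∧
      σ ≠ AlgHom.id A B ∧ σ.comp σ = AlgHom.id A B ∧
      ∀ b : B, σ b = b ↔ b ∈ Set.range (algebraMap A B) := by
  haveI : Nontrivial A := by
    by_contra h
    haveI := not_nontrivial_iff_subsingleton.1 h
    have := Module.finrank_subsingleton (R := A) (M := B)
    omega
  let t := Algebra.trace A B
  have htalg : ∀ a : A, t (algebraMap A B a) = 2 * a := fun a => by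
    rw [show t (algebraMap A B a) = _ from Algebra.trace_algebraMap a, hrk, nsmul_eq_mul, Nat.cast_ofNat]
  obtain ⟨c, hc⟩ := h2.exists_left_inv
  haveI : Module.Finite A (LinearMap.ker t) := Module.Finite.of_surjective (M := B)
    ((LinearMap.id - c • (Algebra.linearMap A B) ∘ₗ t).codRestrict (LinearMap.ker t) fun b => by
      simp only [LinearMap.mem_ker, LinearMap.sub_apply, LinearMap.id_apply, LinearMap.smul_apply,
        LinearMap.comp_apply, Algebra.linearMap_apply, map_sub, map_smul, htalg, smul_eq_mul]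
      linear_combination (-t b) * hc)
    (fun x => ⟨x, Subtype.ext (by simp [show t (x : B) = 0 from x.2])⟩)
  let bb := Module.finBasisOfFinrankEq A (LinearMap.ker t) hker
  let w : B := (bb 0 : B)
  have hw : t w = 0 := (bb 0).2
  have hspan : ∀ b : B, ∃ s : A, b - c • algebraMap A B (t b) = s • w := by
    intro b
    have hmem : b - c • algebraMap A B (t b) ∈ LinearMap.ker t := by
      simp only [LinearMap.mem_ker, map_sub, map_smul, htalg, smul_eq_mul]
      linear_combination (-t b) * hc
    refine ⟨bb.repr ⟨_, hmem⟩ 0, ?_⟩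
    have h := congrArg Subtype.val (bb.sum_repr ⟨_, hmem⟩)
    rw [Fin.sum_univ_one] at h
    exact h.symm
  let σl : B →ₗ[A] B := (Algebra.linearMap A B) ∘ₗ t - LinearMap.id
  have hσ1 : σl 1 = 1 := by
    have := htalg 1
    rw [map_one] at this
    simp only [σl, LinearMap.sub_apply, LinearMap.comp_apply, Algebra.linearMap_apply, LinearMap.id_apply, this, mul_one]
    rw [map_ofNat]; norm_num
  have hσalg : ∀ a : A, σl (algebraMap A B a) = algebraMap A B a := fun a => by
    rw [Algebra.algebraMap_eq_smul_one, map_smul, hσ1]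
  have hσw : σl w = -w := by simp [σl, hw]
  -- the square of the trace zero generator is a scalar
  obtain ⟨s, hs⟩ := hspan (w * w)
  have hs0 : s = 0 := by
    -- multiplication by `w` in the basis `1, w` has trace `s`
    have hb : ∀ b : B, ∃ r : A, b = algebraMap A B (c * t b) + r • w := fun b => by
      obtain ⟨r, hr⟩ := hspan b
      exact ⟨r, by rw [← hr, map_mul, Algebra.smul_def]; abel⟩
    have hgen : Submodule.span A (Set.range ![(1 : B), w]) = ⊤ := eq_top_iff.2 fun b _ => by
      obtain ⟨r, hr⟩ := hb b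
      rw [hr, Algebra.algebraMap_eq_smul_one]
      exact add_mem (Submodule.smul_mem _ _ (Submodule.subset_span ⟨0, rfl⟩))
        (Submodule.smul_mem _ _ (Submodule.subset_span ⟨1, rfl⟩))
    let β : Module.Basis (Fin 2) A B := basisOfTopLeSpanOfCardEqFinrank _ hgen.ge (by rw [hrk, Fintype.card_fin])
    have hβ0 : β 0 = 1 := by simp [β]
    have hβ1 : β 1 = w := by simp [β]
    have ht := Algebra.trace_eq_matrix_trace β w
    rw [Matrix.trace_fin_two] at ht
    have hw2 : w * w = algebraMap A B (c * t (w * w)) + s • w := by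
      rw [← hs, map_mul, Algebra.smul_def]; abel
    have h00 : Algebra.leftMulMatrix β w 0 0 = 0 := by
      rw [Algebra.leftMulMatrix_eq_repr_mul, hβ0, mul_one, ← hβ1, β.repr_self]; simp
    have h11 : Algebra.leftMulMatrix β w 1 1 = s := by
      rw [Algebra.leftMulMatrix_eq_repr_mul, hβ1, hw2, Algebra.algebraMap_eq_smul_one, map_add, map_smul, map_smul,
        ← hβ0, ← hβ1, β.repr_self, β.repr_self]
      simp
    rw [h00, h11, zero_add] at ht
    rw [← ht]; exact hw
  rw [hs0, zero_smul, sub_eq_zero] at hs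
  have hdec : ∀ b : B, ∃ a r : A, b = algebraMap A B a + r • w := fun b => by
    obtain ⟨r, hr⟩ := hspan b
    exact ⟨c * t b, r, by rw [← hr, map_mul, Algebra.smul_def]; abel⟩
  have hmul : ∀ a b : B, σl (a * b) = σl a * σl b := by
    intro a b
    obtain ⟨a₀, a₁, rfl⟩ := hdec a
    obtain ⟨b₀, b₁, rfl⟩ := hdec b
    have e : (algebraMap A B a₀ + a₁ • w) * (algebraMap A B b₀ + b₁ • w) =
        algebraMap A B (a₀ * b₀ + a₁ * b₁ * (c * t (w * w))) + (a₀ * b₁ + a₁ * b₀) • w := by
      conv_rhs => rw [map_add, map_mul _ (a₁ * b₁), map_mul _ c, ← Algebra.smul_def c, ← hs]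
      simp only [Algebra.smul_def, map_mul, map_add]
      ring
    rw [e]
    simp only [map_add σl, map_smul σl, hσalg, hσw]
    conv_lhs => rw [map_add, map_mul _ (a₁ * b₁), map_mul _ c, ← Algebra.smul_def c, ← hs]
    simp only [Algebra.smul_def, map_mul, map_add]
    ring
  let σ : B →ₐ[A] B := AlgHom.ofLinearMap σl hσ1 hmul
  refine ⟨σ, fun b => rfl, fun h => ?_, AlgHom.ext fun b => ?_, fun b => ⟨fun h => ?_, ?_⟩⟩
  · have h1 : σ w = w := by rw [h]; rfl
    change σl w = w at h1
    rw [hσw] at h1
    have h3 : (2 : A) • w = 0 := by rw [two_smul]; nth_rewrite 1 [← h1]; abel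
    have hw0 : w = 0 := by
      have := congrArg (fun z => c • z) h3
      simpa [smul_smul, hc] using this
    exact bb.ne_zero 0 (Subtype.ext hw0)
  · show σl (σl b) = b
    obtain ⟨a, r, rfl⟩ := hdec b
    rw [map_add, map_smul, hσalg, hσw, map_add, map_smul, hσalg, map_neg, hσw, neg_neg]
  · refine ⟨c * t b, ?_⟩
    change algebraMap A B (t b) - b = b at h
    have hc' : algebraMap A B c * 2 = 1 := by
      rw [← map_ofNat (algebraMap A B) 2, ← map_mul, hc, map_one]
    rw [map_mul]
    linear_combination (algebraMap A B c) * h + b * hc'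
  · rintro ⟨a, rfl⟩
    exact hσalg a

end Groth.Agent.EtAlgEasy.MiscFinE
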