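import Groth.Prelude.Def_W4ega4s0809p4Pair
import Groth.Prelude.Def_ProCons
import Groth.Agent.ConstrNoeth.Basic
import Groth.Agent.FPModelLib.ZSys
import Groth.Agent.FPModelLib.Model2
import Groth.Agent.ProConsLib.Scheme
import Groth.Agent.DevLib.Closed
import Mathlib

/-!
Loci of constructible and ind-constructible properties of pairs of fibres.
-/

set_option autoImplicit false
set_option backward.isDefEq.respectTransparency false
set_option linter.style.haveILetI false

universe u

open CategoryTheory CategoryTheory.Limits AlgebraicGeometry TopologicalSpace Topology ConsPropPair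

noncomputable section

namespace Groth.Agent.EtAlgEasy.PairLocus

variable {P : ∀ ⦃X Y T : Scheme.{u}⦄, (X ⟶ T) → (Y ⟶ T) → Prop} (hP : IsFieldStablePair P)

include hP in
/-- The locus is compatible with base change. -/
theorem locusPair_preimage {X Y S X' Y' S' : Scheme.{u}} {u : X ⟶ S} {v : Y ⟶ S} {u' : X' ⟶ S'} {v' : Y' ⟶ S'}
    [LocallyOfFiniteType u] [QuasiCompact u] [LocallyOfFiniteType v] [QuasiCompact v]
    {g : S' ⟶ S} {gX : X' ⟶ X} {gY : Y' ⟶ Y} (hX : IsPullback gX u' u g) (hY : IsPullback gY v' v g) :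
    locusPair P u' v' = g ⁻¹' locusPair P u v := by
  ext s
  haveI : LocallyOfFiniteType (u.fiberToSpecResidueField (g s)) := MorphismProperty.pullback_snd _ _ inferInstance
  haveI : QuasiCompact (u.fiberToSpecResidueField (g s)) := MorphismProperty.pullback_snd _ _ inferInstance
  haveI : LocallyOfFiniteType (v.fiberToSpecResidueField (g s)) := MorphismProperty.pullback_snd _ _ inferInstance
  haveI : QuasiCompact (v.fiberToSpecResidueField (g s)) := MorphismProperty.pullback_snd _ _ inferInstance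
  haveI : Subsingleton ↥(Spec (S.residueField (g s))) := inferInstanceAs (Subsingleton (PrimeSpectrum _))
  haveI : Subsingleton ↥(Spec (S'.residueField s)) := inferInstanceAs (Subsingleton (PrimeSpectrum _))
  exact (hP _ _ _ _ _ _ _ (isPullback_fiberToSpecResidueField_of_isPullback hX s)
    (isPullback_fiberToSpecResidueField_of_isPullback hY s)).symm

/-- An irreducible closed subset as an integral closed subscheme. -/
theorem exists_integral (S : Scheme.{u}) (Z : Set S) (hZ : IsClosed Z) (hirr : IsIrreducible Z) :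
    ∃ (W : Scheme.{u}) (i : W ⟶ S) (_ : IsClosedImmersion i) (_ : IsIntegral W),
      Set.range i = Z ∧ Z ⊆ closure {i (genericPoint W)} := by
  haveI := (QuasiSober.sober (α := S) hirr hZ)
  obtain ⟨ξ, hξ⟩ := QuasiSober.sober (α := S) hirr hZ
  obtain ⟨W, i, hi, hW, hr, he⟩ := DevLib.exists_integral_closed (X := S) ξ
  refine ⟨W, i, hi, hW, hr.trans hξ.def, ?_⟩
  rw [he, hξ.def]

/-- Images of open subsets of a closed subscheme. -/
theorem exists_open_inter {W S : Scheme.{u}} (i : W ⟶ S) [IsClosedImmersion i] {E : Set S} {O : Set W}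
    (hO : IsOpen O) (h : O ⊆ i ⁻¹' E) (hne : O.Nonempty) :
    ∃ U : Set S, IsOpen U ∧ (U ∩ Set.range i).Nonempty ∧ U ∩ Set.range i ⊆ E ∧ i '' O = U ∩ Set.range i := by
  obtain ⟨U, hU, hUO⟩ := i.isClosedEmbedding.isInducing.isOpen_iff.1 hO
  have he : i '' O = U ∩ Set.range i := by rw [← hUO, Set.image_preimage_eq_inter_range]
  refine ⟨U, hU, he ▸ hne.image _, ?_, he⟩
  rw [← he]
  rintro _ ⟨w, hw, rfl⟩
  exact h hw

theorem isConstructible_locus_noetherian (hc : IsConsPair P) {X Y S : Scheme.{u}} (u : X ⟶ S) (v : Y ⟶ S)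
    [IsNoetherian S] [LocallyOfFiniteType u] [QuasiCompact u] [LocallyOfFiniteType v] [QuasiCompact v] :
    IsConstructible (locusPair P u v) := by
  refine ConstrNoeth.isConstructible_of_irreducible fun Z hZ hirr hd => ?_
  obtain ⟨W, i, _, _, hr, hξ⟩ := exists_integral S Z hZ hirr
  haveI : IsNoetherian W := {
    toIsLocallyNoetherian := LocallyOfFiniteType.isLocallyNoetherian i
    toCompactSpace := QuasiCompact.compactSpace_of_compactSpace i }
  have hb := locusPair_preimage hc.1 (IsPullback.of_hasPullback u i) (IsPullback.of_hasPullback v i)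
  rcases hc.2 (pullback.snd u i) (pullback.snd v i) with h | h
  · obtain ⟨U, hU, hne, hsub, -⟩ := exists_open_inter i isOpen_interior (E := locusPair P u v) (interior_subset.trans hb.le) h
    exact ⟨U, hU, hr ▸ hne, hr ▸ hsub⟩
  · exfalso
    obtain ⟨U, hU, hne, hsub, -⟩ := exists_open_inter i isOpen_interior (E := (locusPair P u v)ᶜ)
      (interior_subset.trans (by rw [hb]; rfl)) h
    obtain ⟨z, hzU, hz⟩ := hne
    obtain ⟨y, hyU, hy⟩ := mem_closure_iff.1 (hd (hr ▸ hz)) U hU hzU
    exact hsub ⟨hyU, hr ▸ hy.2⟩ hy.1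

theorem exists_constructible_of_mem (hc : IsIndConsPair P) {X Y S : Scheme.{u}} (u : X ⟶ S) (v : Y ⟶ S)
    [IsNoetherian S] [LocallyOfFiniteType u] [QuasiCompact u] [LocallyOfFiniteType v] [QuasiCompact v]
    {s : S} (hs : s ∈ locusPair P u v) :
    ∃ T : Set S, IsConstructible T ∧ s ∈ T ∧ T ⊆ locusPair P u v := by
  obtain ⟨W, i, _, _, hr, he⟩ := DevLib.exists_integral_closed (X := S) s
  haveI : IsNoetherian W := {
    toIsLocallyNoetherian := LocallyOfFiniteType.isLocallyNoetherian i
    toCompactSpace := QuasiCompact.compactSpace_of_compactSpace i }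
  have hb := locusPair_preimage hc.1 (IsPullback.of_hasPullback u i) (IsPullback.of_hasPullback v i)
  obtain ⟨U, hU, ⟨z, hzU, hz⟩, hsub, -⟩ := exists_open_inter i isOpen_interior (E := locusPair P u v) (interior_subset.trans hb.le)
    (hc.2 (pullback.snd u i) (pullback.snd v i) (by rw [hb]; show i (genericPoint W) ∈ locusPair P u v; rwa [he]))
  refine ⟨U ∩ Set.range i, (ConstrNoeth.isConstructible_of_isOpen hU).inter
    (ConstrNoeth.isConstructible_of_isClosed i.isClosedMap.isClosed_range), ⟨?_, ?_⟩, hsub⟩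
  · rw [hr] at hz
    obtain ⟨y, hyU, rfl⟩ := mem_closure_iff.1 hz U hU hzU
    exact hyU
  · rw [hr]; exact subset_closure rfl

include hP in
/-- A pair of finitely presented schemes over an affine scheme comes from a Noetherian base. -/
theorem exists_noetherian_model (A : CommRingCat.{u}) {X Y : Scheme.{u}} (u : X ⟶ Spec A) (v : Y ⟶ Spec A)
    [LocallyOfFinitePresentation u] [QuasiCompact u] [QuasiSeparated u]
    [LocallyOfFinitePresentation v] [QuasiCompact v] [QuasiSeparated v] :
    ∃ (S₀ X₀ Y₀ : Scheme.{u}) (_ : IsNoetherian S₀) (π : Spec A ⟶ S₀) (u₀ : X₀ ⟶ S₀) (v₀ : Y₀ ⟶ S₀),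
      LocallyOfFiniteType u₀ ∧ QuasiCompact u₀ ∧ LocallyOfFiniteType v₀ ∧ QuasiCompact v₀ ∧
        locusPair P u v = π ⁻¹' locusPair P u₀ v₀ := by
  haveI : CompactSpace X := QuasiCompact.compactSpace_of_compactSpace u
  haveI : CompactSpace Y := QuasiCompact.compactSpace_of_compactSpace v
  haveI : QuasiSeparatedSpace X := quasiSeparatedSpace_of_quasiSeparated u
  haveI : QuasiSeparatedSpace Y := quasiSeparatedSpace_of_quasiSeparated v
  let D := FPModelLib.zSys A
  let c := FPModelLib.zCone A
  have hc := FPModelLib.isLimitZCone A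
  obtain ⟨i, G, g, q, hG⟩ := FPModelLib.Gen.exists_model D c hc u
  obtain ⟨j, H, h, r, hH⟩ := FPModelLib.Gen.exists_model D c hc v
  let k := IsCofiltered.min i j
  have hG' := FPModelLib.IsModel.stage D c hG (Over.mk (IsCofiltered.minToLeft i j))
  have hH' := FPModelLib.IsModel.stage D c hH (Over.mk (IsCofiltered.minToRight i j))
  haveI := hG'.compact
  haveI := hH'.compact
  haveI := hG'.lfp
  haveI := hH'.lfp
  haveI : IsNoetherian (D.obj k) := FPModelLib.isNoetherian_zSys A k
  haveI hqG : QuasiCompact (pullback.snd g (D.map (IsCofiltered.minToLeft i j))) := by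
    haveI := hG.compact
    exact MorphismProperty.pullback_snd _ _ (quasiCompact_of_compactSpace g)
  haveI hqH : QuasiCompact (pullback.snd h (D.map (IsCofiltered.minToRight i j))) := by
    haveI := hH.compact
    exact MorphismProperty.pullback_snd _ _ (quasiCompact_of_compactSpace h)
  haveI hlG : LocallyOfFiniteType (pullback.snd g (D.map (IsCofiltered.minToLeft i j))) := by
    haveI := hG.lfp
    exact MorphismProperty.pullback_snd _ _ inferInstance
  haveI hlH : LocallyOfFiniteType (pullback.snd h (D.map (IsCofiltered.minToRight i j))) := by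
    haveI := hH.lfp
    exact MorphismProperty.pullback_snd _ _ inferInstance
  exact ⟨D.obj k, _, _, inferInstance, c.π.app k, _, _, hlG, hqG, hlH, hqH,
    locusPair_preimage hP hG'.isPullback hH'.isPullback⟩

theorem isLocallyConstructible_locus (hc : IsConsPair P) {X Y S : Scheme.{u}} (u : X ⟶ S) (v : Y ⟶ S)
    [LocallyOfFinitePresentation u] [QuasiCompact u] [QuasiSeparated u]
    [LocallyOfFinitePresentation v] [QuasiCompact v] [QuasiSeparated v] :
    IsLocallyConstructible (locusPair P u v) := by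
  refine IsLocallyConstructible.of_isOpenCover (U := fun U : S.affineOpens => (U : S.Opens))
    (iSup_affineOpens_eq_top S) fun U => ?_
  have hb := locusPair_preimage hc.1 (IsPullback.of_hasPullback u U.1.ι) (IsPullback.of_hasPullback v U.1.ι)
  let e := U.2.isoSpec
  have sqX := (IsPullback.of_hasPullback u U.1.ι)
  haveI : LocallyOfFinitePresentation (pullback.snd u U.1.ι ≫ e.hom) := inferInstance
  obtain ⟨S₀, X₀, Y₀, _, π, u₀, v₀, _, _, _, _, he⟩ :=
    exists_noetherian_model hc.1 Γ(S, U.1) (pullback.snd u U.1.ι ≫ e.hom) (pullback.snd v U.1.ι ≫ e.hom)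
  have h2 : locusPair P (pullback.snd u U.1.ι) (pullback.snd v U.1.ι) =
      e.hom ⁻¹' locusPair P (pullback.snd u U.1.ι ≫ e.hom) (pullback.snd v U.1.ι ≫ e.hom) :=
    locusPair_preimage hc.1 (IsPullback.of_horiz_isIso ⟨by simp⟩ : IsPullback (𝟙 _) _ _ e.hom)
      (IsPullback.of_horiz_isIso ⟨by simp⟩ : IsPullback (𝟙 _) _ _ e.hom)
  have key : IsConstructible (locusPair P (pullback.snd u U.1.ι) (pullback.snd v U.1.ι)) := by
    rw [h2, he]
    exact Scheme.Hom.isConstructible_preimage e.hom (Scheme.Hom.isConstructible_preimage π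
      (isConstructible_locus_noetherian hc u₀ v₀))
  rw [hb] at key
  exact key.isLocallyConstructible

theorem isIndConstructible_locus (hc : IsIndConsPair P) {X Y S : Scheme.{u}} (u : X ⟶ S) (v : Y ⟶ S)
    [LocallyOfFinitePresentation u] [QuasiCompact u] [QuasiSeparated u]
    [LocallyOfFinitePresentation v] [QuasiCompact v] [QuasiSeparated v] :
    ProCons.IsIndConstructible (locusPair P u v) := by
  intro x
  obtain ⟨U, hU, hxU, -⟩ := exists_isAffineOpen_mem_and_subset (Opens.mem_top x)
  let e := hU.isoSpec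
  obtain ⟨S₀, X₀, Y₀, _, π, u₀, v₀, _, _, _, _, he⟩ :=
    exists_noetherian_model hc.1 Γ(S, U) (pullback.snd u U.ι ≫ e.hom) (pullback.snd v U.ι ≫ e.hom)
  have hb := locusPair_preimage hc.1 (IsPullback.of_hasPullback u U.ι) (IsPullback.of_hasPullback v U.ι)
  have h2 : locusPair P (pullback.snd u U.ι) (pullback.snd v U.ι) =
      e.hom ⁻¹' locusPair P (pullback.snd u U.ι ≫ e.hom) (pullback.snd v U.ι ≫ e.hom) :=
    locusPair_preimage hc.1 (IsPullback.of_horiz_isIso ⟨by simp⟩ : IsPullback (𝟙 _) _ _ e.hom)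
      (IsPullback.of_horiz_isIso ⟨by simp⟩ : IsPullback (𝟙 _) _ _ e.hom)
  refine ⟨U, U.2, hxU, {T : Set ↥(U : Set S) | IsLocallyConstructible T ∧ T ⊆ Subtype.val ⁻¹' locusPair P u v},
    fun T hT => hT.1, Set.Subset.antisymm (fun s hs => ?_) (Set.sUnion_subset fun T hT => hT.2)⟩
  have hs' : (s : U.toScheme) ∈ locusPair P (pullback.snd u U.ι) (pullback.snd v U.ι) := by
    rw [hb]; exact hs
  rw [h2, he] at hs'
  obtain ⟨T, hT, hsT, hsub⟩ := exists_constructible_of_mem hc u₀ v₀ hs'
  refine ⟨e.hom ⁻¹' (π ⁻¹' T), ⟨(Scheme.Hom.isConstructible_preimage e.hom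
    (Scheme.Hom.isConstructible_preimage π hT)).isLocallyConstructible, fun t ht => ?_⟩, hsT⟩
  have : (t : U.toScheme) ∈ locusPair P (pullback.snd u U.ι) (pullback.snd v U.ι) := by
    rw [h2, he]; exact hsub ht
  rw [hb] at this
  exact this

end Groth.Agent.EtAlgEasy.PairLocus
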