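import Groth.Prelude.Def_EGA4Misc
import Groth.Prelude.Def_ProCons
import Groth.Agent.EtAlgEasy.PairLocus
import Groth.Agent.GeomRk.FibSmooth
import Groth.Agent.LimHom.Quot
import Groth.Agent.QCohLib.Coherent
import Groth.Agent.QCohLib.FiniteType
import Mathlib

/-!
Loci of constructible and ind-constructible properties of a fibre with a coherent module.
-/

set_option autoImplicit false
set_option backward.isDefEq.respectTransparency false
set_option linter.style.haveILetI false

universe u

open CategoryTheory CategoryTheory.Limits AlgebraicGeometry TopologicalSpace Topology ConsProp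

noncomputable section

namespace Groth.Agent.EtAlgEasy.ModLocus

variable {P : ∀ ⦃Y T : Scheme.{u}⦄, (Y ⟶ T) → Y.Modules → Prop}

variable (hP : IsFieldStableMod P)

include hP in
/-- The locus is compatible with base change. -/
theorem locusMod_preimage {X S X' S' : Scheme.{u}} {u : X ⟶ S} {u' : X' ⟶ S'}
    [LocallyOfFiniteType u] [QuasiCompact u] {g : S' ⟶ S} {gX : X' ⟶ X} (hX : IsPullback gX u' u g)
    {F : X.Modules} (hF : Coh.IsCoh F) {F' : X'.Modules} (e : F' ≅ (Scheme.Modules.pullback gX).obj F) :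
    locusMod P u' F' = g ⁻¹' locusMod P u F := by
  ext s
  obtain ⟨a, ha, hsq⟩ := GeomRk.exists_fibre_square hX s
  haveI : Subsingleton ↥(Spec (S.residueField (g s))) := inferInstanceAs (Subsingleton (PrimeSpectrum _))
  haveI : Subsingleton ↥(Spec (S'.residueField s)) := inferInstanceAs (Subsingleton (PrimeSpectrum _))
  haveI : LocallyOfFiniteType (u.fiberToSpecResidueField (g s)) := MorphismProperty.pullback_snd _ _ inferInstance
  haveI : QuasiCompact (u.fiberToSpecResidueField (g s)) := MorphismProperty.pullback_snd _ _ inferInstance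
  refine (hP _ _ _ _ hsq _ _ (PullbackMod.isCoh_pullback (u.fiberι (g s)) F hF) ?_).symm
  exact (Scheme.Modules.pullback (u'.fiberι s)).mapIso e ≪≫
    (Scheme.Modules.pullbackComp (u'.fiberι s) gX).app F ≪≫
    (Scheme.Modules.pullbackCongr ha.symm).app F ≪≫
    ((Scheme.Modules.pullbackComp a (u.fiberι (g s))).app F).symm

theorem isConstructible_noetherian (hc : IsConsMod P) {X S : Scheme.{u}} (u : X ⟶ S)
    [IsNoetherian S] [LocallyOfFiniteType u] [QuasiCompact u] {F : X.Modules} (hF : Coh.IsCoh F) :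
    IsConstructible (locusMod P u F) := by
  refine ConstrNoeth.isConstructible_of_irreducible fun Z hZ hirr hd => ?_
  obtain ⟨W, i, _, _, hr, hξ⟩ := PairLocus.exists_integral S Z hZ hirr
  haveI : IsNoetherian W := {
    toIsLocallyNoetherian := LocallyOfFiniteType.isLocallyNoetherian i
    toCompactSpace := QuasiCompact.compactSpace_of_compactSpace i }
  let F' := (Scheme.Modules.pullback (pullback.fst u i)).obj F
  have hb := locusMod_preimage hc.1 (IsPullback.of_hasPullback u i) hF (F' := F') (Iso.refl _)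
  rcases hc.2 (pullback.snd u i) F' (PullbackMod.isCoh_pullback _ F hF) with h | h
  · obtain ⟨U, hU, hne, hsub, -⟩ := PairLocus.exists_open_inter i isOpen_interior (E := locusMod P u F)
      (interior_subset.trans hb.le) h
    exact ⟨U, hU, hr ▸ hne, hr ▸ hsub⟩
  · exfalso
    obtain ⟨U, hU, hne, hsub, -⟩ := PairLocus.exists_open_inter i isOpen_interior (E := (locusMod P u F)ᶜ)
      (interior_subset.trans (by rw [hb]; rfl)) h
    obtain ⟨z, hzU, hz⟩ := hne
    obtain ⟨y, hyU, hy⟩ := mem_closure_iff.1 (hd (hr ▸ hz)) U hU hzU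
    exact hsub ⟨hyU, hr ▸ hy.2⟩ hy.1

theorem exists_constructible_of_mem (hc : IsIndConsMod P) {X S : Scheme.{u}} (u : X ⟶ S)
    [IsNoetherian S] [LocallyOfFiniteType u] [QuasiCompact u] {F : X.Modules} (hF : Coh.IsCoh F)
    {s : S} (hs : s ∈ locusMod P u F) :
    ∃ T : Set S, IsConstructible T ∧ s ∈ T ∧ T ⊆ locusMod P u F := by
  obtain ⟨W, i, _, _, hr, he⟩ := DevLib.exists_integral_closed (X := S) s
  haveI : IsNoetherian W := {
    toIsLocallyNoetherian := LocallyOfFiniteType.isLocallyNoetherian i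
    toCompactSpace := QuasiCompact.compactSpace_of_compactSpace i }
  let F' := (Scheme.Modules.pullback (pullback.fst u i)).obj F
  have hb := locusMod_preimage hc.1 (IsPullback.of_hasPullback u i) hF (F' := F') (Iso.refl _)
  obtain ⟨U, hU, ⟨z, hzU, hz⟩, hsub, -⟩ := PairLocus.exists_open_inter i isOpen_interior (E := locusMod P u F)
    (interior_subset.trans hb.le) (hc.2 (pullback.snd u i) F' (PullbackMod.isCoh_pullback _ F hF)
      (by rw [hb]; show i (genericPoint W) ∈ locusMod P u F; rwa [he]))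
  refine ⟨U ∩ Set.range i, (ConstrNoeth.isConstructible_of_isOpen hU).inter
    (ConstrNoeth.isConstructible_of_isClosed i.isClosedMap.isClosed_range), ⟨?_, ?_⟩, hsub⟩
  · rw [hr] at hz
    obtain ⟨y, hyU, rfl⟩ := mem_closure_iff.1 hz U hU hzU
    exact hyU
  · rw [hr]; exact subset_closure rfl

include hP in
/-- A finitely presented scheme with a finitely presented module over an affine scheme comes from a
Noetherian base. -/
theorem exists_noetherian_model (A : CommRingCat.{u}) {X : Scheme.{u}} (u : X ⟶ Spec A)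
    [LocallyOfFinitePresentation u] [QuasiCompact u] [QuasiSeparated u] (F : X.Modules) [Coh.IsQCoh F]
    (hF : CohB1.IsFP F) :
    ∃ (S₀ X₀ : Scheme.{u}) (_ : IsNoetherian S₀) (π : Spec A ⟶ S₀) (u₀ : X₀ ⟶ S₀) (F₀ : X₀.Modules),
      LocallyOfFiniteType u₀ ∧ QuasiCompact u₀ ∧ Coh.IsCoh F₀ ∧
        locusMod P u F = π ⁻¹' locusMod P u₀ F₀ := by
  haveI : CompactSpace X := QuasiCompact.compactSpace_of_compactSpace u
  haveI : QuasiSeparatedSpace X := quasiSeparatedSpace_of_quasiSeparated u
  let D := FPModelLib.zSys A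
  let c := FPModelLib.zCone A
  have hc := FPModelLib.isLimitZCone A
  obtain ⟨i, G, g, q, hG⟩ := FPModelLib.Gen.exists_model D c hc u
  haveI := hG.compact
  haveI := hG.qs
  haveI := hG.lfp
  obtain ⟨hcX⟩ := FlatStage.nonempty_isLimit_vCone D c i g hG.isPullback hc
  haveI : ∀ (a b : Over i) (f : a ⟶ b), IsAffineHom ((AffLim.baseChange D i g).map f) :=
    fun a b f => AffLim.isAffineHom_baseChange_map D i g f
  have hT := hG.stage D c (Over.mk (𝟙 i))
  haveI : CompactSpace ((AffLim.baseChange D i g).obj (Over.mk (𝟙 i))) := hT.compact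
  haveI : QuasiSeparatedSpace ((AffLim.baseChange D i g).obj (Over.mk (𝟙 i))) := hT.qs
  haveI : Coh.IsQCoh (X := (FlatStage.vCone D c i g hG.isPullback).pt) F := ‹_›
  obtain ⟨k, -, Fk, hFk, hFkfp, ⟨e⟩⟩ := LimHom.exists_stage_module (AffLim.baseChange D i g)
    (FlatStage.vCone D c i g hG.isPullback) hcX (Over.mk (𝟙 i)) F hF
  have hk := hG.stage D c k
  haveI := hk.compact
  haveI := hk.lfp
  haveI : IsNoetherian (D.obj k.left) := FPModelLib.isNoetherian_zSys A k.left
  haveI hq : QuasiCompact (pullback.snd g (D.map k.hom)) :=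
    MorphismProperty.pullback_snd _ _ (quasiCompact_of_compactSpace g)
  haveI hl : LocallyOfFiniteType (pullback.snd g (D.map k.hom)) :=
    MorphismProperty.pullback_snd _ _ inferInstance
  haveI := hFk
  exact ⟨D.obj k.left, _, inferInstance, c.π.app k.left, _, Fk, hl, hq,
    ⟨hFk, ExactConstrLib.isFT_of_isFP hFkfp⟩,
    locusMod_preimage hP hk.isPullback ⟨hFk, ExactConstrLib.isFT_of_isFP hFkfp⟩ e.symm⟩

theorem locusMod_isoSpec {X S : Scheme.{u}} (u : X ⟶ S) (U : S.affineOpens) (hP : IsFieldStableMod P)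
    [LocallyOfFinitePresentation u] [QuasiCompact u] [QuasiSeparated u] (F : X.Modules) [Coh.IsQCoh F]
    (hF : CohB1.IsFP F) :
    U.1.ι ⁻¹' locusMod P u F = U.2.isoSpec.hom ⁻¹' locusMod P (pullback.snd u U.1.ι ≫ U.2.isoSpec.hom)
      ((Scheme.Modules.pullback (pullback.fst u U.1.ι)).obj F) := by
  have hFc : Coh.IsCoh F := ⟨inferInstance, ExactConstrLib.isFT_of_isFP hF⟩
  rw [← locusMod_preimage hP (IsPullback.of_hasPullback u U.1.ι) hFc (Iso.refl _)]
  exact locusMod_preimage hP (IsPullback.of_horiz_isIso ⟨by simp⟩ : IsPullback (𝟙 _) _ _ U.2.isoSpec.hom)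
    (PullbackMod.isCoh_pullback _ F hFc) ((Scheme.Modules.pullbackId _).app _).symm

theorem isLocallyConstructible_locus (hc : IsConsMod P) {X S : Scheme.{u}} (u : X ⟶ S)
    [LocallyOfFinitePresentation u] [QuasiCompact u] [QuasiSeparated u]
    (F : X.Modules) [Coh.IsQCoh F] (hF : CohB1.IsFP F) :
    IsLocallyConstructible (locusMod P u F) := by
  refine IsLocallyConstructible.of_isOpenCover (U := fun U : S.affineOpens => (U : S.Opens))
    (iSup_affineOpens_eq_top S) fun U => ?_
  haveI : Coh.IsQCoh ((Scheme.Modules.pullback (pullback.fst u U.1.ι)).obj F) := PullbackMod.isQCoh_pullback _ F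
  obtain ⟨S₀, X₀, _, π, u₀, F₀, _, _, hF₀, he⟩ :=
    exists_noetherian_model hc.1 Γ(S, U.1) (pullback.snd u U.1.ι ≫ U.2.isoSpec.hom)
      ((Scheme.Modules.pullback (pullback.fst u U.1.ι)).obj F) (PullbackMod.isFP_pullback _ F hF)
  have key : IsConstructible (U.1.ι ⁻¹' locusMod P u F) := by
    rw [locusMod_isoSpec u U hc.1 F hF, he]
    exact Scheme.Hom.isConstructible_preimage U.2.isoSpec.hom (Scheme.Hom.isConstructible_preimage π
      (isConstructible_noetherian hc u₀ hF₀))
  exact key.isLocallyConstructible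

theorem isIndConstructible_locus (hc : IsIndConsMod P) {X S : Scheme.{u}} (u : X ⟶ S)
    [LocallyOfFinitePresentation u] [QuasiCompact u] [QuasiSeparated u]
    (F : X.Modules) [Coh.IsQCoh F] (hF : CohB1.IsFP F) :
    ProCons.IsIndConstructible (locusMod P u F) := by
  intro x
  obtain ⟨U, hU, hxU, -⟩ := exists_isAffineOpen_mem_and_subset (Opens.mem_top x)
  haveI : Coh.IsQCoh ((Scheme.Modules.pullback (pullback.fst u U.ι)).obj F) := PullbackMod.isQCoh_pullback _ F
  obtain ⟨S₀, X₀, _, π, u₀, F₀, _, _, hF₀, he⟩ :=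
    exists_noetherian_model hc.1 Γ(S, U) (pullback.snd u U.ι ≫ hU.isoSpec.hom)
      ((Scheme.Modules.pullback (pullback.fst u U.ι)).obj F) (PullbackMod.isFP_pullback _ F hF)
  have h2 := locusMod_isoSpec u ⟨U, hU⟩ hc.1 F hF
  refine ⟨U, U.2, hxU, {T : Set ↥(U : Set S) | IsLocallyConstructible T ∧ T ⊆ Subtype.val ⁻¹' locusMod P u F},
    fun T hT => hT.1, Set.Subset.antisymm (fun s hs => ?_) (Set.sUnion_subset fun T hT => hT.2)⟩
  have hs' : (s : U.toScheme) ∈ U.ι ⁻¹' locusMod P u F := hs
  rw [h2, he] at hs'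
  obtain ⟨T, hT, hsT, hsub⟩ := exists_constructible_of_mem hc u₀ hF₀ hs'
  refine ⟨hU.isoSpec.hom ⁻¹' (π ⁻¹' T), ⟨(Scheme.Hom.isConstructible_preimage hU.isoSpec.hom
    (Scheme.Hom.isConstructible_preimage π hT)).isLocallyConstructible, fun t ht => ?_⟩, hsT⟩
  have : (t : U.toScheme) ∈ U.ι ⁻¹' locusMod P u F := by
    rw [h2, he]; exact hsub ht
  exact this

end Groth.Agent.EtAlgEasy.ModLocus
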