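import Groth.Agent.EtAlgEasy.MorLocus
import Groth.Agent.AffLim.Constructible
import Groth.Agent.ProConsLib.Scheme
import Mathlib

/-!
An ind-constructible set which is everything in a limit is everything at some stage.
-/

set_option autoImplicit false
set_option backward.isDefEq.respectTransparency false
set_option backward.defeqAttrib.useBackward true
set_option linter.style.haveILetI false

universe u

open CategoryTheory CategoryTheory.Limits AlgebraicGeometry TopologicalSpace Topology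

noncomputable section

namespace Groth.Agent.EtAlgEasy.MorLimit

variable {I : Type u} [SmallCategory I] [IsCofiltered I] (D : I ⥤ Scheme.{u}) (c : Cone D) (hc : IsLimit c)
  [∀ (i j : I) (a : i ⟶ j), IsAffineHom (D.map a)]

include hc in
theorem exists_stage_univ {i : I} [CompactSpace (D.obj i)] {E : Set (D.obj i)} (hE : ProCons.IsIndConstructible E)
    (h : c.π.app i ⁻¹' E = Set.univ) : ∃ (j : I) (φ : j ⟶ i), D.map φ ⁻¹' E = Set.univ := by
  haveI : ∀ {a b : I} (f : a ⟶ b), IsAffineHom (D.map f) := fun {a b} f => inferInstance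
  suffices hs : ∃ (j : I) (φ : j ⟶ i), D.map φ ⁻¹' ((⊤ : (D.obj i).Opens) : Set (D.obj i)) ⊆ D.map φ ⁻¹' E by
    obtain ⟨j, φ, hj⟩ := hs
    exact ⟨j, φ, Set.univ_subset_iff.1 hj⟩
  refine compact_open_induction_on (P := fun V => ∃ (j : I) (φ : j ⟶ i), D.map φ ⁻¹' (V : Set (D.obj i)) ⊆ D.map φ ⁻¹' E)
    (⊤ : (D.obj i).Opens) isCompact_univ ⟨i, 𝟙 i, by simp⟩ ?_
  intro S _ W hS
  obtain ⟨j, φ, hj⟩ := hS
  let E' := opensDiagram D i W.1
  let c' := opensCone D c i W.1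
  have hc' : IsLimit c' := isLimitOpensCone D c hc i W.1
  haveI : IsAffine (E'.obj (Over.mk (𝟙 i))) := W.2.preimage _
  let ι₀ := (opensDiagramι D i W.1).app (Over.mk (𝟙 i))
  haveI : QuasiSeparatedSpace ↥(E'.obj (Over.mk (𝟙 i))) := inferInstance
  obtain ⟨T, hT, hTe⟩ := ProConsLib.exists_sUnion_eq
    ((ProConsLib.isIndConstructible_iff_isOpen _).1 (ProConsLib.isIndConstructible_preimage ι₀ hE))
  haveI : IsAffineHom (c.π.app i) := isAffineHom_π_app D c hc i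
  haveI : CompactSpace ↥c'.pt := isCompact_iff_compactSpace.1 ((W.2.preimage (c.π.app i)).isCompact)
  have hfac : c'.π.app (Over.mk (𝟙 i)) ≫ ι₀ = (c.π.app i ⁻¹ᵁ W.1).ι ≫ c.π.app i := by
    simp [c', ι₀, opensCone]
  obtain ⟨J, hJ⟩ := ProConsLib.exists_finset_iInter_eq_empty (X := c'.pt)
    (fun U : T => c'.π.app (Over.mk (𝟙 i)) ⁻¹' U.1ᶜ) (fun U =>
      ((ProConsLib.isLocallyConstructible_iff_pro_and_ind _).1
        (Scheme.Hom.isConstructible_preimage _ (hT U.1 U.2).compl).isLocallyConstructible).1) (by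
      refine Set.eq_empty_iff_forall_notMem.2 fun x hx => ?_
      have hxE : c'.π.app (Over.mk (𝟙 i)) x ∈ ι₀ ⁻¹' E := by
        show (c'.π.app (Over.mk (𝟙 i)) ≫ ι₀) x ∈ E
        rw [hfac]
        exact (h.ge (Set.mem_univ ((c.π.app i ⁻¹ᵁ W.1).ι x)) :)
      rw [hTe] at hxE
      obtain ⟨U, hU, hxU⟩ := hxE
      exact Set.mem_iInter.1 hx ⟨U, hU⟩ hxU)
  let Z : Set ↥(E'.obj (Over.mk (𝟙 i))) := (⋃ U ∈ J, U.1)ᶜ
  have hZ : IsConstructible Z := (IsConstructible.biUnion J.finite_toSet fun U _ => hT U.1 U.2).compl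
  haveI : CompactSpace ↥(E'.obj (Over.mk (𝟙 i))) := inferInstance
  obtain ⟨k, f, hk⟩ := AffLim.exists_preimage_eq_empty E' c' hc' hZ (by
    refine Eq.trans ?_ hJ
    simp only [Z, Set.preimage_compl, Set.preimage_iUnion₂, Set.compl_iUnion₂, Set.preimage_iInter₂]
    rfl)
  obtain ⟨l, a, b, e⟩ := IsCofiltered.cospan φ k.hom
  refine ⟨l, a ≫ φ, ?_⟩
  rintro y (hy | hy)
  · rw [D.map_comp] at hy ⊢
    exact hj hy
  · rw [e, D.map_comp] at hy ⊢
    by_contra hyE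
    have hf : f.left = k.hom := by simpa using Over.w f
    have hmem : (⟨D.map b y, hy⟩ : (D.map k.hom ⁻¹ᵁ W.1).toScheme) ∈ E'.map f ⁻¹' Z := by
      intro hU
      obtain ⟨U, hU, hyU⟩ := Set.mem_iUnion₂.1 hU
      have h1 : E'.map f (⟨D.map b y, hy⟩ : (D.map k.hom ⁻¹ᵁ W.1).toScheme) ∈ ι₀ ⁻¹' E := by
        rw [hTe]; exact ⟨U.1, U.2, hyU⟩
      have hfac' : E'.map f ≫ ι₀ = (D.map k.hom ⁻¹ᵁ W.1).ι ≫ D.map k.hom := by
        simp [E', ι₀, hf]
      change (E'.map f ≫ ι₀) _ ∈ E at h1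
      rw [hfac'] at h1
      exact hyE h1
    rw [hk] at hmem
    exact hmem

include hc in
/-- The property holds everywhere in the limit iff it holds everywhere at some stage. -/
theorem forall_locusMor_iff {P : ∀ ⦃X Y T : Scheme.{u}⦄, (X ⟶ Y) → (Y ⟶ T) → Prop} (hP : ConsProp.IsIndConsMor P)
    (i₀ : I) [CompactSpace ↥(D.obj i₀)]
    {X₀ Y₀ : Scheme.{u}} (f₀ : X₀ ⟶ Y₀) (g₀ : Y₀ ⟶ D.obj i₀)
    [LocallyOfFinitePresentation g₀] [QuasiCompact g₀] [QuasiSeparated g₀]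
    [LocallyOfFinitePresentation (f₀ ≫ g₀)] [QuasiCompact (f₀ ≫ g₀)] [QuasiSeparated (f₀ ≫ g₀)]
    {X Y : Scheme.{u}} (f : X ⟶ Y) (g : Y ⟶ c.pt) (qY : Y ⟶ Y₀) (qX : X ⟶ X₀)
    (hY : IsPullback qY g g₀ (c.π.app i₀)) (hX : IsPullback qX f f₀ qY) :
    (∀ s : ↥c.pt, s ∈ ConsProp.locusMor P f g) ↔
      ∃ (j : I) (φ : j ⟶ i₀) (Xj Yj : Scheme.{u}) (fj : Xj ⟶ Yj) (gj : Yj ⟶ D.obj j)
        (pY : Yj ⟶ Y₀) (pX : Xj ⟶ X₀), IsPullback pY gj g₀ (D.map φ) ∧ IsPullback pX fj f₀ pY ∧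
          ∀ t : ↥(D.obj j), t ∈ ConsProp.locusMor P fj gj := by
  have e : ConsProp.locusMor P f g = c.π.app i₀ ⁻¹' ConsProp.locusMor P f₀ g₀ :=
    MorLocus.locusMor_preimage hP.1 (hX.paste_vert hY) hY hX.w.symm
  constructor
  · intro h
    obtain ⟨j, φ, hj⟩ := exists_stage_univ D c hc (MorLocus.isIndConstructible_locus hP f₀ g₀)
      (Set.eq_univ_of_forall fun s => e.le (h s))
    refine ⟨j, φ, _, _, pullback.snd f₀ (pullback.fst g₀ (D.map φ)), pullback.snd g₀ (D.map φ),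
      pullback.fst g₀ (D.map φ), pullback.fst f₀ (pullback.fst g₀ (D.map φ)), IsPullback.of_hasPullback _ _,
      IsPullback.of_hasPullback _ _, fun t => ?_⟩
    rw [MorLocus.locusMor_pullback hP.1 f₀ g₀ (D.map φ), hj]
    trivial
  · rintro ⟨j, φ, Xj, Yj, fj, gj, pY, pX, h1, h2, h⟩ s
    have ej : ConsProp.locusMor P fj gj = D.map φ ⁻¹' ConsProp.locusMor P f₀ g₀ :=
      MorLocus.locusMor_preimage hP.1 (h2.paste_vert h1) h1 h2.w.symm
    refine e.ge ?_
    have := ej.le (h (c.π.app j s))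
    rw [Set.mem_preimage, ← c.w φ, Scheme.Hom.comp_apply]
    exact this

end Groth.Agent.EtAlgEasy.MorLimit
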