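import Groth.Agent.EtAlgEasy.FibLocus
import Mathlib

/-!
Loci of constructible and ind-constructible properties of morphisms of fibres.
-/

set_option autoImplicit false
set_option backward.isDefEq.respectTransparency false
set_option linter.style.haveILetI false

universe u

open CategoryTheory CategoryTheory.Limits AlgebraicGeometry TopologicalSpace Topology ConsProp

noncomputable section

namespace Groth.Agent.EtAlgEasy.MorLocus

theorem fiberMap_eq_fib {X Y S : Scheme.{u}} (f : X ⟶ Y) (g : Y ⟶ S) (s : S) :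
    MoreMor.fiberMap f g s = FibreMapConstr.fib f g s := by
  apply pullback.hom_ext
  · exact (pullback.lift_fst _ _ _).trans (pullback.lift_fst _ _ _).symm
  · exact ((pullback.lift_snd _ _ _).trans (Category.comp_id _)).trans (pullback.lift_snd _ _ _).symm

/-- A morphism of spectra of fields, in intrinsic form, is flat. -/
theorem flat_onePoint {T T' : Scheme.{u}} (h : T' ⟶ T) [IsIntegral T] [Subsingleton T] : Flat h := by
  refine (Flat.iff_flat_stalkMap h).2 fun x => ?_
  have hK : IsField (T.presheaf.stalk (h x)) := by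
    rw [Subsingleton.elim (h x) (genericPoint T)]
    exact Field.toIsField T.functionField
  letI := hK.toField
  letI := (h.stalkMap x).hom.toAlgebra
  exact RingHom.flat_algebraMap_iff.2 inferInstance

theorem surjective_onePoint {T T' : Scheme.{u}} (h : T' ⟶ T) [Nonempty T'] [Subsingleton T] : Surjective h :=
  ⟨fun t => ⟨(inferInstance : Nonempty ↥T').some, Subsingleton.elim _ _⟩⟩

theorem quasiCompact_onePoint {T T' : Scheme.{u}} (h : T' ⟶ T) [Subsingleton T'] : QuasiCompact h :=
  ⟨fun _ _ _ => (Set.toFinite _).isCompact⟩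

variable {P : ∀ ⦃X Y T : Scheme.{u}⦄, (X ⟶ Y) → (Y ⟶ T) → Prop} (hP : IsFieldStableMor P)

include hP in
/-- The locus is compatible with base change. -/
theorem locusMor_preimage {X Y S X' Y' S' : Scheme.{u}} {f : X ⟶ Y} {g : Y ⟶ S} {f' : X' ⟶ Y'} {g' : Y' ⟶ S'}
    [LocallyOfFiniteType g] [QuasiCompact g] [LocallyOfFiniteType (f ≫ g)] [QuasiCompact (f ≫ g)]
    {gS : S' ⟶ S} {gX : X' ⟶ X} {gY : Y' ⟶ Y} (hX : IsPullback gX (f' ≫ g') (f ≫ g) gS)
    (hY : IsPullback gY g' g gS) (hc : f' ≫ gY = gX ≫ f) : locusMor P f' g' = gS ⁻¹' locusMor P f g := by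
  ext s'
  have hXY : IsPullback gX f' f gY := IsPullback.of_bot hX hc.symm hY
  obtain ⟨a, ha, hsq⟩ := GeomRk.exists_fibre_square hY s'
  have h1 : IsPullback (pullback.fst (f' ≫ g') (S'.fromSpecResidueField s') ≫ gX) (FibreMapConstr.fib f' g' s') f
      (a ≫ pullback.fst g (S.fromSpecResidueField (gS s'))) := by
    have := (FibreMorph.isPullback_fib f' g' s').paste_horiz hXY
    convert this using 1
    exact ha
  have h0 := FibreMorph.isPullback_fib f g (gS s')
  have hw := h1.w
  rw [← Category.assoc (FibreMapConstr.fib f' g' s')] at hw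
  have h2 : IsPullback (h0.lift _ _ hw) (FibreMapConstr.fib f' g' s') (FibreMapConstr.fib f g (gS s')) a :=
    IsPullback.of_right (by rw [h0.lift_fst]; exact h1) (h0.lift_snd _ _ _) h0
  have h3 : IsPullback (h0.lift _ _ hw) (MoreMor.fiberMap f' g' s') (MoreMor.fiberMap f g (gS s')) a := by
    rw [fiberMap_eq_fib f g (gS s'), fiberMap_eq_fib f' g' s']
    exact h2
  haveI : Subsingleton ↥(Spec (S.residueField (gS s'))) := inferInstanceAs (Subsingleton (PrimeSpectrum _))
  haveI : Subsingleton ↥(Spec (S'.residueField s')) := inferInstanceAs (Subsingleton (PrimeSpectrum _))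
  haveI : LocallyOfFiniteType (g.fiberToSpecResidueField (gS s')) := MorphismProperty.pullback_snd _ _ inferInstance
  haveI : QuasiCompact (g.fiberToSpecResidueField (gS s')) := MorphismProperty.pullback_snd _ _ inferInstance
  have hcomp : MoreMor.fiberMap f g (gS s') ≫ g.fiberToSpecResidueField (gS s') =
      (f ≫ g).fiberToSpecResidueField (gS s') := pullback.lift_snd _ _ _
  haveI : LocallyOfFiniteType (MoreMor.fiberMap f g (gS s') ≫ g.fiberToSpecResidueField (gS s')) := by
    rw [hcomp]; exact MorphismProperty.pullback_snd _ _ inferInstance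
  haveI : QuasiCompact (MoreMor.fiberMap f g (gS s') ≫ g.fiberToSpecResidueField (gS s')) := by
    rw [hcomp]; exact MorphismProperty.pullback_snd _ _ inferInstance
  exact (hP _ _ _ _ _ _ _ hsq h3).symm

include hP in
theorem locusMor_pullback {X Y S S' : Scheme.{u}} (f : X ⟶ Y) (g : Y ⟶ S) [LocallyOfFiniteType g] [QuasiCompact g]
    [LocallyOfFiniteType (f ≫ g)] [QuasiCompact (f ≫ g)] (i : S' ⟶ S) :
    locusMor P (pullback.snd f (pullback.fst g i)) (pullback.snd g i) = i ⁻¹' locusMor P f g :=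
  locusMor_preimage hP ((IsPullback.of_hasPullback f (pullback.fst g i)).paste_vert (IsPullback.of_hasPullback g i))
    (IsPullback.of_hasPullback g i) pullback.condition.symm

theorem isConstructible_noetherian (hc : IsConsMor P) {X Y S : Scheme.{u}} (f : X ⟶ Y) (g : Y ⟶ S) [IsNoetherian S]
    [LocallyOfFiniteType g] [QuasiCompact g] [LocallyOfFiniteType (f ≫ g)] [QuasiCompact (f ≫ g)] :
    IsConstructible (locusMor P f g) := by
  refine ConstrNoeth.isConstructible_of_irreducible fun Z hZ hirr hd => ?_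
  obtain ⟨W, i, _, _, hr, hξ⟩ := PairLocus.exists_integral S Z hZ hirr
  haveI : IsNoetherian W := {
    toIsLocallyNoetherian := LocallyOfFiniteType.isLocallyNoetherian i
    toCompactSpace := QuasiCompact.compactSpace_of_compactSpace i }
  have hb := locusMor_pullback hc.1 f g i
  have hsq := (IsPullback.of_hasPullback f (pullback.fst g i)).paste_vert (IsPullback.of_hasPullback g i)
  haveI : LocallyOfFiniteType (pullback.snd f (pullback.fst g i) ≫ pullback.snd g i) :=
    MorphismProperty.of_isPullback hsq inferInstance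
  haveI : QuasiCompact (pullback.snd f (pullback.fst g i) ≫ pullback.snd g i) :=
    MorphismProperty.of_isPullback hsq inferInstance
  rcases hc.2 (pullback.snd f (pullback.fst g i)) (pullback.snd g i) with h | h
  · obtain ⟨U, hU, hne, hsub, -⟩ := PairLocus.exists_open_inter i isOpen_interior (E := locusMor P f g) (interior_subset.trans hb.le) h
    exact ⟨U, hU, hr ▸ hne, hr ▸ hsub⟩
  · exfalso
    obtain ⟨U, hU, hne, hsub, -⟩ := PairLocus.exists_open_inter i isOpen_interior (E := (locusMor P f g)ᶜ)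
      (interior_subset.trans (by rw [hb]; rfl)) h
    obtain ⟨z, hzU, hz⟩ := hne
    obtain ⟨y, hyU, hy⟩ := mem_closure_iff.1 (hd (hr ▸ hz)) U hU hzU
    exact hsub ⟨hyU, hr ▸ hy.2⟩ hy.1

theorem exists_constructible_of_mem (hc : IsIndConsMor P) {X Y S : Scheme.{u}} (f : X ⟶ Y) (g : Y ⟶ S)
    [IsNoetherian S] [LocallyOfFiniteType g] [QuasiCompact g] [LocallyOfFiniteType (f ≫ g)] [QuasiCompact (f ≫ g)]
    {s : S} (hs : s ∈ locusMor P f g) :
    ∃ T : Set S, IsConstructible T ∧ s ∈ T ∧ T ⊆ locusMor P f g := by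
  obtain ⟨W, i, _, _, hr, he⟩ := DevLib.exists_integral_closed (X := S) s
  haveI : IsNoetherian W := {
    toIsLocallyNoetherian := LocallyOfFiniteType.isLocallyNoetherian i
    toCompactSpace := QuasiCompact.compactSpace_of_compactSpace i }
  have hb := locusMor_pullback hc.1 f g i
  have hsq := (IsPullback.of_hasPullback f (pullback.fst g i)).paste_vert (IsPullback.of_hasPullback g i)
  haveI : LocallyOfFiniteType (pullback.snd f (pullback.fst g i) ≫ pullback.snd g i) :=
    MorphismProperty.of_isPullback hsq inferInstance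
  haveI : QuasiCompact (pullback.snd f (pullback.fst g i) ≫ pullback.snd g i) :=
    MorphismProperty.of_isPullback hsq inferInstance
  obtain ⟨U, hU, ⟨z, hzU, hz⟩, hsub, -⟩ := PairLocus.exists_open_inter i isOpen_interior (E := locusMor P f g)
    (interior_subset.trans hb.le)
    (hc.2 (pullback.snd f (pullback.fst g i)) (pullback.snd g i) (by
      rw [hb]; show i (genericPoint W) ∈ locusMor P f g; rwa [he]))
  refine ⟨U ∩ Set.range i, (ConstrNoeth.isConstructible_of_isOpen hU).inter
    (ConstrNoeth.isConstructible_of_isClosed i.isClosedMap.isClosed_range), ⟨?_, ?_⟩, hsub⟩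
  · rw [hr] at hz
    obtain ⟨y, hyU, rfl⟩ := mem_closure_iff.1 hz U hU hzU
    exact hyU
  · rw [hr]; exact subset_closure rfl

include hP in
/-- Over an affine open the morphism comes from a Noetherian base. -/
theorem exists_noetherian_model {X Y S : Scheme.{u}} (f : X ⟶ Y) (g : Y ⟶ S)
    [LocallyOfFinitePresentation g] [QuasiCompact g] [QuasiSeparated g]
    [LocallyOfFinitePresentation (f ≫ g)] [QuasiCompact (f ≫ g)] [QuasiSeparated (f ≫ g)]
    {U : S.Opens} (hU : IsAffineOpen U) :
    ∃ (S₀ X₀ Y₀ : Scheme.{u}) (_ : IsNoetherian S₀) (π : U.toScheme ⟶ S₀) (f₀ : X₀ ⟶ Y₀) (g₀ : Y₀ ⟶ S₀),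
      LocallyOfFiniteType g₀ ∧ QuasiCompact g₀ ∧ LocallyOfFiniteType (f₀ ≫ g₀) ∧ QuasiCompact (f₀ ≫ g₀) ∧
        U.ι ⁻¹' locusMor P f g = π ⁻¹' locusMor P f₀ g₀ := by
  let e := hU.isoSpec
  let f₁ := pullback.snd f (pullback.fst g U.ι)
  let g₁ := pullback.snd g U.ι
  have hX1 := (IsPullback.of_hasPullback f (pullback.fst g U.ι)).paste_vert (IsPullback.of_hasPullback g U.ι)
  haveI : LocallyOfFinitePresentation (f₁ ≫ g₁) := MorphismProperty.of_isPullback hX1 inferInstance
  haveI : QuasiCompact (f₁ ≫ g₁) := MorphismProperty.of_isPullback hX1 inferInstance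
  haveI : QuasiSeparated (f₁ ≫ g₁) := MorphismProperty.of_isPullback hX1 inferInstance
  let u := (f₁ ≫ g₁) ≫ e.hom
  let v := g₁ ≫ e.hom
  haveI : CompactSpace ↥(pullback f (pullback.fst g U.ι)) := QuasiCompact.compactSpace_of_compactSpace u
  haveI : QuasiSeparatedSpace ↥(pullback f (pullback.fst g U.ι)) := quasiSeparatedSpace_of_quasiSeparated u
  haveI : CompactSpace ↥(pullback g U.ι) := QuasiCompact.compactSpace_of_compactSpace v
  haveI : QuasiSeparatedSpace ↥(pullback g U.ι) := quasiSeparatedSpace_of_quasiSeparated v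
  let D := FPModelLib.zSys Γ(S, U)
  let c := FPModelLib.zCone Γ(S, U)
  have hc := FPModelLib.isLimitZCone Γ(S, U)
  obtain ⟨i, G, a, q, hG⟩ := FPModelLib.Gen.exists_model D c hc u
  obtain ⟨j, H, b, r, hH⟩ := FPModelLib.Gen.exists_model D c hc v
  have hG' := FPModelLib.IsModel.stage D c hG (Over.mk (IsCofiltered.minToLeft i j))
  have hH' := FPModelLib.IsModel.stage D c hH (Over.mk (IsCofiltered.minToRight i j))
  obtain ⟨k, mk, hmk, hsq⟩ := FPModelLib.Gen.exists_hom_stage D c hc hG' hH' f₁ (by simp [u, v])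
  have hG'' := hG'.stage D c k
  have hH'' := hH'.stage D c k
  haveI : CompactSpace ↥((AffLim.baseChange D _ (pullback.snd a (D.map (Over.mk (IsCofiltered.minToLeft i j)).hom))).obj k) :=
    hG''.compact
  haveI : CompactSpace ↥((AffLim.baseChange D _ (pullback.snd b (D.map (IsCofiltered.minToRight i j)))).obj k) :=
    hH''.compact
  haveI : QuasiSeparatedSpace ↥((AffLim.baseChange D (Over.mk (IsCofiltered.minToLeft i j)).left
      (pullback.snd b (D.map (Over.mk (IsCofiltered.minToRight i j)).hom))).obj k) := hH''.qs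
  haveI := hG''.lfp
  haveI : IsNoetherian (D.obj k.left) := FPModelLib.isNoetherian_zSys Γ(S, U) k.left
  let g₀ : (AffLim.baseChange D _ (pullback.snd b (D.map (IsCofiltered.minToRight i j)))).obj k ⟶ D.obj k.left :=
    pullback.snd _ (D.map k.hom)
  haveI : LocallyOfFinitePresentation g₀ := hH''.lfp
  haveI : LocallyOfFiniteType (mk ≫ g₀) := (congrArg (fun m => LocallyOfFiniteType m) hmk).mpr inferInstance
  haveI hq1 : QuasiCompact g₀ := quasiCompact_of_compactSpace g₀
  haveI hq2 : QuasiCompact (mk ≫ g₀) := quasiCompact_of_compactSpace (mk ≫ g₀)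
  have e1 : locusMor P f₁ v = c.π.app k.left ⁻¹' locusMor P mk g₀ := locusMor_preimage hP
    ((congrArg (fun m => IsPullback _ (f₁ ≫ v) m (c.π.app k.left)) hmk).mpr (by
      rw [show f₁ ≫ v = (f₁ ≫ g₁) ≫ e.hom from (Category.assoc _ _ _).symm]
      exact hG''.isPullback))
    hH''.isPullback hsq.symm
  haveI : LocallyOfFiniteType (f₁ ≫ v) := by
    rw [show f₁ ≫ v = (f₁ ≫ g₁) ≫ e.hom from (Category.assoc _ _ _).symm]; infer_instance
  haveI : QuasiCompact (f₁ ≫ v) := by
    rw [show f₁ ≫ v = (f₁ ≫ g₁) ≫ e.hom from (Category.assoc _ _ _).symm]; infer_instance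
  have e2 : locusMor P f₁ g₁ = e.hom ⁻¹' locusMor P f₁ v := locusMor_preimage hP
    (IsPullback.of_horiz_isIso ⟨by simp [v]⟩ : IsPullback (𝟙 _) (f₁ ≫ g₁) (f₁ ≫ v) e.hom)
    (IsPullback.of_horiz_isIso ⟨by simp [v]⟩ : IsPullback (𝟙 _) g₁ v e.hom) (by simp)
  refine ⟨D.obj k.left, _, _, inferInstance, e.hom ≫ c.π.app k.left, mk, g₀, inferInstance, hq1, inferInstance,
    hq2, ?_⟩
  rw [← locusMor_pullback hP f g U.ι, e2, e1]
  rfl

theorem isLocallyConstructible_locus (hc : IsConsMor P) {X Y S : Scheme.{u}} (f : X ⟶ Y) (g : Y ⟶ S)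
    [LocallyOfFinitePresentation g] [QuasiCompact g] [QuasiSeparated g]
    [LocallyOfFinitePresentation (f ≫ g)] [QuasiCompact (f ≫ g)] [QuasiSeparated (f ≫ g)] :
    IsLocallyConstructible (locusMor P f g) := by
  refine IsLocallyConstructible.of_isOpenCover (U := fun U : S.affineOpens => (U : S.Opens))
    (iSup_affineOpens_eq_top S) fun U => ?_
  obtain ⟨S₀, X₀, Y₀, _, π, f₀, g₀, _, _, _, _, he⟩ := exists_noetherian_model hc.1 f g U.2
  haveI : CompactSpace ↥(U.1.toScheme) := isCompact_iff_compactSpace.1 U.2.isCompact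
  have key := Scheme.Hom.isConstructible_preimage π (isConstructible_noetherian hc f₀ g₀)
  rw [← he] at key
  exact key.isLocallyConstructible

theorem isIndConstructible_locus (hc : IsIndConsMor P) {X Y S : Scheme.{u}} (f : X ⟶ Y) (g : Y ⟶ S)
    [LocallyOfFinitePresentation g] [QuasiCompact g] [QuasiSeparated g]
    [LocallyOfFinitePresentation (f ≫ g)] [QuasiCompact (f ≫ g)] [QuasiSeparated (f ≫ g)] :
    ProCons.IsIndConstructible (locusMor P f g) := by
  intro x
  obtain ⟨U, hU, hxU, -⟩ := exists_isAffineOpen_mem_and_subset (Opens.mem_top x)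
  obtain ⟨S₀, X₀, Y₀, _, π, f₀, g₀, _, _, _, _, he⟩ := exists_noetherian_model hc.1 f g hU
  refine ⟨U, U.2, hxU, {T : Set ↥(U : Set S) | IsLocallyConstructible T ∧ T ⊆ Subtype.val ⁻¹' locusMor P f g},
    fun T hT => hT.1, Set.Subset.antisymm (fun s hs => ?_) (Set.sUnion_subset fun T hT => hT.2)⟩
  have hs' : π (s : U.toScheme) ∈ locusMor P f₀ g₀ := he.le (show (s : U.toScheme) ∈ U.ι ⁻¹' _ from hs)
  obtain ⟨T, hT, hsT, hsub⟩ := exists_constructible_of_mem hc f₀ g₀ hs'
  exact ⟨π ⁻¹' T, ⟨(Scheme.Hom.isConstructible_preimage π hT).isLocallyConstructible,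
    fun t ht => he.ge (show (t : U.toScheme) ∈ π ⁻¹' _ from hsub ht)⟩, hsT⟩

end Groth.Agent.EtAlgEasy.MorLocus
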