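import Groth.Agent.EtAlgEasy.PrinPartO
import Mathlib

/-!
Principal parts over affine schemes.
-/

set_option autoImplicit false
set_option backward.isDefEq.respectTransparency false

universe u

open CategoryTheory CategoryTheory.Limits AlgebraicGeometry TopologicalSpace Opposite
open scoped TensorProduct

namespace Groth.Agent.EtAlgEasy.PrinPartAff

theorem isIso_ι_coborderRange {X Y : Scheme.{u}} (i : X ⟶ Y) [IsClosedImmersion i] :
    IsIso (i.coborderRange).ι := by
  have h : i.coborderRange = ⊤ := by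
    refine TopologicalSpace.Opens.ext ?_
    show coborder (Set.range i) = Set.univ
    exact coborder_eq_univ_iff.2 i.isClosedEmbedding.isClosed_range
  rw [h]
  exact inferInstanceAs (IsIso (Scheme.topIso Y).hom)

variable (A B : Type u) [CommRing A] [CommRing B] [Algebra A B] (n : ℕ)

/-- `Spec B → Spec A`. -/
noncomputable abbrev base : Spec (CommRingCat.of B) ⟶ Spec (CommRingCat.of A) :=
  Spec.map (CommRingCat.ofHom (algebraMap A B))

/-- `B ⊗ B → B`. -/
noncomputable abbrev mulHom : CommRingCat.of (B ⊗[A] B) ⟶ CommRingCat.of B :=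
  CommRingCat.ofHom (Algebra.TensorProduct.lmul' A : B ⊗[A] B →ₐ[A] B).toRingHom

theorem diagonal_eq : Spec.map (mulHom A B) ≫ (pullbackSpecIso A B B).inv = pullback.diagonal (base A B) := by
  have h1 : CommRingCat.ofHom Algebra.TensorProduct.includeLeftRingHom ≫ mulHom A B = 𝟙 (CommRingCat.of B) :=
    CommRingCat.hom_ext (RingHom.ext fun b => by
      show (Algebra.TensorProduct.lmul' A : B ⊗[A] B →ₐ[A] B) (b ⊗ₜ[A] 1) = b
      simp)
  have h2 : CommRingCat.ofHom ((Algebra.TensorProduct.includeRight : B →ₐ[A] B ⊗[A] B) : B →+* B ⊗[A] B) ≫ mulHom A B =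
      𝟙 (CommRingCat.of B) :=
    CommRingCat.hom_ext (RingHom.ext fun b => by
      show (Algebra.TensorProduct.lmul' A : B ⊗[A] B →ₐ[A] B) (1 ⊗ₜ[A] b) = b
      simp)
  apply pullback.hom_ext
  · rw [Category.assoc, pullbackSpecIso_inv_fst, ← Spec.map_comp, h1, Spec.map_id, pullback.diagonal_fst]
  · rw [Category.assoc, pullbackSpecIso_inv_snd, ← Spec.map_comp, h2, Spec.map_id, pullback.diagonal_snd]

/-- `N → Spec (B ⊗ B)`. -/
noncomputable def h : PrinPart.nbhd (base A B) n ⟶ Spec (CommRingCat.of (B ⊗[A] B)) :=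
  PrinPart.nbhdι (base A B) n ≫ (pullbackSpecIso A B B).hom

/-- `B ⊗ B → Γ(N)`. -/
noncomputable def Θ : B ⊗[A] B →+* Γ(PrinPart.nbhd (base A B) n, ⊤) :=
  ((Scheme.ΓSpecIso (CommRingCat.of (B ⊗[A] B))).inv ≫ (h A B n).appTop).hom

theorem Θ_spec : Function.Surjective (Θ A B n) ∧
    RingHom.ker (Θ A B n) = KaehlerDifferential.ideal A B ^ (n + 1) := by
  let f := base A B
  let W := (pullback.diagonal f).coborderRange
  haveI : IsIso W.ι := isIso_ι_coborderRange (pullback.diagonal f)
  let j : (W : Scheme.{u}) ⟶ Spec (CommRingCat.of (B ⊗[A] B)) := W.ι ≫ (pullbackSpecIso A B B).hom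
  let i0 := Spec.map (mulHom A B)
  have hmul : Function.Surjective (mulHom A B).hom := fun b => ⟨b ⊗ₜ 1, by
    show (Algebra.TensorProduct.lmul' A : B ⊗[A] B →ₐ[A] B) (b ⊗ₜ[A] 1) = b
    simp⟩
  haveI : IsClosedImmersion i0 := IsClosedImmersion.spec_of_surjective _ hmul
  have hw : PrinPart.diagCl f ≫ j = 𝟙 (Spec (CommRingCat.of B)) ≫ i0 := by
    show (pullback.diagonal f).liftCoborder ≫ W.ι ≫ _ = _
    rw [Scheme.Hom.liftCoborder_ι_assoc, ← diagonal_eq, Category.assoc, Iso.inv_hom_id, Category.comp_id, Category.id_comp]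
  have hw' : i0 ≫ inv j = 𝟙 (Spec (CommRingCat.of B)) ≫ PrinPart.diagCl f := by
    rw [IsIso.comp_inv_eq, Category.id_comp, hw, Category.id_comp]
  obtain ⟨σ, hσ⟩ := PrinPartSym.exists_infNbhd_map (PrinPart.diagCl f) i0 j (𝟙 _) hw n
  obtain ⟨τ, hτ⟩ := PrinPartSym.exists_infNbhd_map i0 (PrinPart.diagCl f) (inv j) (𝟙 _) hw' n
  haveI : IsClosedImmersion (PrinPart.infNbhdι i0 n) := by unfold PrinPart.infNbhdι; infer_instance
  haveI : IsClosedImmersion (PrinPart.infNbhdι (PrinPart.diagCl f) n) := by unfold PrinPart.infNbhdι; infer_instance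
  haveI : IsIso σ := ⟨τ, by
    rw [← cancel_mono (PrinPart.infNbhdι (PrinPart.diagCl f) n), Category.assoc, hτ, ← Category.assoc, hσ,
      Category.assoc, IsIso.hom_inv_id, Category.comp_id, Category.id_comp], by
    rw [← cancel_mono (PrinPart.infNbhdι i0 n), Category.assoc, hσ, ← Category.assoc, hτ,
      Category.assoc, IsIso.inv_hom_id, Category.comp_id, Category.id_comp]⟩
  have hh : h A B n = σ ≫ PrinPart.infNbhdι i0 n := by
    rw [hσ, h, PrinPart.nbhdι, Category.assoc]
  let K := i0.ker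
  let top : (Spec (CommRingCat.of (B ⊗[A] B))).affineOpens := ⟨⊤, isAffineOpen_top _⟩
  have hι_surj : Function.Surjective (PrinPart.infNbhdι i0 n).appTop :=
    (PrinPart.infNbhdι i0 n).app_surjective ⊤ (isAffineOpen_top _)
  have hι_ker : RingHom.ker (PrinPart.infNbhdι i0 n).appTop.hom = RingHom.ker i0.appTop.hom ^ (n + 1) := by
    have h1 := (K ^ (n + 1)).ker_subschemeι_app top
    refine h1.trans ?_
    rw [Scheme.IdealSheafData.ideal_pow, Pi.pow_apply, Scheme.Hom.ker_apply]
  have hσb : Function.Bijective σ.appTop := ConcreteCategory.bijective_of_isIso _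
  let e := (Scheme.ΓSpecIso (CommRingCat.of (B ⊗[A] B))).commRingCatIsoToRingEquiv
  have hΘ : ∀ t, Θ A B n t = σ.appTop ((PrinPart.infNbhdι i0 n).appTop (e.symm t)) := fun t => by
    show (h A B n).appTop _ = _
    rw [hh, Scheme.Hom.comp_appTop]
    rfl
  refine ⟨fun y => ?_, ?_⟩
  · obtain ⟨y, rfl⟩ := hσb.2 y
    obtain ⟨y, rfl⟩ := hι_surj y
    exact ⟨e y, by rw [hΘ, e.symm_apply_apply]⟩
  · have hmulker : (RingHom.ker i0.appTop.hom).map e.toRingHom = KaehlerDifferential.ideal A B := by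
      have hnat := Scheme.ΓSpecIso_naturality (mulHom A B)
      refine le_antisymm (Ideal.map_le_iff_le_comap.2 fun s hs => ?_) (fun t ht => ?_)
      · rw [Ideal.mem_comap]
        show (mulHom A B).hom (e s) = 0
        have := ConcreteCategory.congr_hom hnat s
        refine this.symm.trans ?_
        show (Scheme.ΓSpecIso (CommRingCat.of B)).hom (i0.appTop s) = 0
        rw [show i0.appTop s = 0 from hs, map_zero]
      · rw [show t = e.toRingHom (e.symm t) from (e.apply_symm_apply t).symm]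
        refine Ideal.mem_map_of_mem _ ?_
        rw [RingHom.mem_ker]
        apply (ConcreteCategory.bijective_of_isIso (Scheme.ΓSpecIso (CommRingCat.of B)).hom).1
        rw [map_zero]
        refine (ConcreteCategory.congr_hom hnat (e.symm t)).trans ?_
        show (mulHom A B).hom (e (e.symm t)) = 0
        rw [e.apply_symm_apply]
        exact ht
    rw [← hmulker, ← Ideal.map_pow, ← hι_ker]
    ext t
    rw [RingHom.mem_ker, hΘ, ← map_zero σ.appTop.hom]
    constructor
    · intro h0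
      rw [show t = e.toRingHom (e.symm t) from (e.apply_symm_apply t).symm]
      exact Ideal.mem_map_of_mem _ (RingHom.mem_ker.2 (hσb.1 h0))
    · intro ht
      obtain ⟨s, hs, rfl⟩ := (Ideal.mem_map_iff_of_surjective e.toRingHom e.surjective).1 ht
      show σ.appTop ((PrinPart.infNbhdι i0 n).appTop (e.symm (e s))) = _
      rw [e.symm_apply_apply, show (PrinPart.infNbhdι i0 n).appTop s = 0 from hs]

theorem Θ_tmul (b b' : B) : Θ A B n (b ⊗ₜ[A] b') =
    (PrinPart.pr1 (base A B) n).appTop ((Scheme.ΓSpecIso (CommRingCat.of B)).inv b) *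
      (PrinPart.pr2 (base A B) n).appTop ((Scheme.ΓSpecIso (CommRingCat.of B)).inv b') := by
  have key : ∀ (φ : CommRingCat.of B ⟶ CommRingCat.of (B ⊗[A] B)) (p : PrinPart.nbhd (base A B) n ⟶ Spec (CommRingCat.of B))
      (_ : h A B n ≫ Spec.map φ = p) (c : B), Θ A B n (φ c) = p.appTop ((Scheme.ΓSpecIso (CommRingCat.of B)).inv c) := by
    intro φ p hp c
    subst hp
    rw [Scheme.Hom.comp_appTop]
    show (h A B n).appTop _ = (h A B n).appTop ((Spec.map φ).appTop _)
    exact congrArg _ (ConcreteCategory.congr_hom (Scheme.ΓSpecIso_inv_naturality φ) c)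
  have h1 := key (CommRingCat.ofHom Algebra.TensorProduct.includeLeftRingHom) _
    (show _ = PrinPart.pr1 (base A B) n by rw [h, Category.assoc, pullbackSpecIso_hom_fst]; rfl) b
  have h2 := key (CommRingCat.ofHom ((Algebra.TensorProduct.includeRight : B →ₐ[A] B ⊗[A] B) : B →+* B ⊗[A] B)) _
    (show _ = PrinPart.pr2 (base A B) n by rw [h, Category.assoc, pullbackSpecIso_hom_snd]; rfl) b'
  rw [← h1, ← h2, ← map_mul]
  congr 1
  show b ⊗ₜ[A] b' = (b ⊗ₜ[A] (1 : B)) * ((1 : B) ⊗ₜ[A] b')
  rw [Algebra.TensorProduct.tmul_mul_tmul, mul_one, one_mul]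

theorem surjective_and_ker
    (ψ : B ⊗[A] B →+
      Γ(PrinPart.P (base A B) n, (⊤ : (Spec (CommRingCat.of B)).Opens)))
    (hψ : ∀ b b' : B, ψ (b ⊗ₜ[A] b') =
      (Scheme.ΓSpecIso (CommRingCat.of B)).inv b •
        PrinPart.dn (base A B) n ⊤
          ((Scheme.ΓSpecIso (CommRingCat.of B)).inv b')) :
    Function.Surjective ψ ∧ ψ.ker = (KaehlerDifferential.ideal A B ^ (n + 1)).toAddSubgroup := by
  obtain ⟨hs, hk⟩ := Θ_spec A B n
  have hb := PrinPartO.bijective_αP (base A B) n ⊤
  let α : Γ(PrinPart.P (base A B) n, ⊤) →+ Γ(PrinPart.nbhd (base A B) n, ⊤) :=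
    (OmegaSh.fnSect (PrinPart.nbhd (base A B) n) ⊤).comp ((PrinPartO.αP (base A B) n).hom.app ⊤).hom
  have hα : Function.Bijective α := hb
  have key : ∀ t, α (ψ t) = Θ A B n t := by
    intro t
    induction t using TensorProduct.induction_on with
    | zero => rw [map_zero, map_zero, map_zero]
    | tmul b b' =>
      rw [hψ, Θ_tmul]
      refine (PrinPartO.αP_smul_dn (base A B) n ⊤ _ _).trans (congrArg _ ?_)
      rw [show (homOfLE (PrinPart.preimage_pr1 (base A B) n ⊤).le).op = 𝟙 _ from rfl, CategoryTheory.Functor.map_id]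
      rfl
    | add u v hu hv => rw [map_add, map_add, map_add, hu, hv]
  refine ⟨fun y => ?_, ?_⟩
  · obtain ⟨t, ht⟩ := hs (α y)
    exact ⟨t, hα.1 ((key t).trans ht)⟩
  · ext t
    rw [AddMonoidHom.mem_ker, ← hk]
    constructor
    · intro ht
      show Θ A B n t = 0
      rw [← key, ht, map_zero]
    · intro ht
      exact hα.1 ((key t).trans (ht.trans (map_zero α).symm))

end Groth.Agent.EtAlgEasy.PrinPartAff
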