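import Groth.Agent.EtAlgEasy.PrinPartOp
import Groth.Agent.DiffOp.Basic
import Mathlib

/-!
Linearity over the base of differential operators; composition.
-/

set_option autoImplicit false
set_option backward.isDefEq.respectTransparency false

universe u

open CategoryTheory CategoryTheory.Limits AlgebraicGeometry TopologicalSpace Opposite

namespace Groth.Agent.EtAlgEasy.PrinPartComp

open PrinPartOp

variable {X S : Scheme.{u}} (f : X ⟶ S)

theorem pullSect_smul (n : ℕ) (F : X.Modules) (U : X.Opens) (a : Γ(X, U)) (t : Γ(F, U)) :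
    PrinPart.dP f n F U (a • t) =
      (PrinPart.nbhd f n).presheaf.map (homOfLE (PrinPart.preimage_pr1 f n U).le).op ((PrinPart.pr2 f n).app U a) •
        (show Γ((Scheme.Modules.pullback (PrinPart.pr2 f n)).obj F, PrinPart.pr1 f n ⁻¹ᵁ U) from PrinPart.dP f n F U t) := by
  rw [PrinPart.dP_apply, PrinPart.dP_apply]
  have h1 : OmegaSh.pullSect (PrinPart.pr2 f n) F U (a • t) =
      (PrinPart.pr2 f n).app U a • OmegaSh.pullSect (PrinPart.pr2 f n) F U t :=
    Scheme.Modules.Hom.app_smul ((Scheme.Modules.pullbackPushforwardAdjunction (PrinPart.pr2 f n)).unit.app F) a t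
  rw [h1, Scheme.Modules.map_smul]

theorem dP_smul_base (n : ℕ) (F : X.Modules) (V : S.Opens) (s : Γ(S, V)) (U : X.Opens) (hU : U ≤ f ⁻¹ᵁ V) (t : Γ(F, U)) :
    PrinPart.dP f n F U (X.presheaf.map (homOfLE hU).op (f.app V s) • t) =
      X.presheaf.map (homOfLE hU).op (f.app V s) • PrinPart.dP f n F U t := by
  rw [pullSect_smul]
  have key : ∀ (p q : PrinPart.nbhd f n ⟶ X) (_ : p ≫ f = q ≫ f) (h : p ⁻¹ᵁ U ≤ q ⁻¹ᵁ U),
      (PrinPart.nbhd f n).presheaf.map (homOfLE h).op (q.app U (X.presheaf.map (homOfLE hU).op (f.app V s))) =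
        p.app U (X.presheaf.map (homOfLE hU).op (f.app V s)) := by
    intro p q e h
    have l1 : q.appLE U (p ⁻¹ᵁ U) h (f.appLE V U hU s) = p.appLE U (p ⁻¹ᵁ U) le_rfl (f.appLE V U hU s) := by
      rw [← CommRingCat.comp_apply, ← CommRingCat.comp_apply, Scheme.Hom.appLE_comp_appLE, Scheme.Hom.appLE_comp_appLE]
      simp only [e]
    rw [Scheme.Hom.appLE, Scheme.Hom.appLE, Scheme.Hom.appLE] at l1
    simp only [homOfLE_refl, op_id, CategoryTheory.Functor.map_id, Category.comp_id, CommRingCat.comp_apply] at l1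
    exact l1
  rw [key _ _ (PrinPart.pr1_comp f n) _]
  rfl

theorem isLin_of_isDiffOpLE {n : ℕ} {F G : X.Modules} {D : F.presheaf ⟶ G.presheaf}
    (hD : PrinPart.IsDiffOpLE f F G n D) : IsLin f F G D := by
  obtain ⟨v, hv⟩ := hD
  intro V s U hU t
  rw [hv U, hv U, dP_smul_base, Scheme.Modules.Hom.app_smul]

/-- Operators on a module of sections. -/
theorem sum_comp {B : Type u} [CommRing B] {M N P : Type u} [AddCommGroup M] [Module B M] [AddCommGroup N] [Module B N]
    [AddCommGroup P] [Module B P] (D : M →+ N) (D' : N →+ P) {n n' : ℕ}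
    (hD : ∀ (a : Fin (n + 1) → B) (t : M),
      ∑ H : Finset (Fin (n + 1)), ((-1 : ℤ) ^ H.card) • ((∏ i ∈ H, a i) • D ((∏ i ∈ Hᶜ, a i) • t)) = 0)
    (hD' : ∀ (a : Fin (n' + 1) → B) (t : N),
      ∑ H : Finset (Fin (n' + 1)), ((-1 : ℤ) ^ H.card) • ((∏ i ∈ H, a i) • D' ((∏ i ∈ Hᶜ, a i) • t)) = 0)
    (a : Fin (n + n' + 1) → B) (t : M) :
    ∑ H : Finset (Fin (n + n' + 1)), ((-1 : ℤ) ^ H.card) • ((∏ i ∈ H, a i) • D' (D ((∏ i ∈ Hᶜ, a i) • t))) = 0 := by
  let A := (⊥ : Subring B)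
  let l : M →ₗ[A] N :=
    { D with
      map_smul' := fun r m => by
        obtain ⟨k, hk⟩ := Subring.mem_bot.1 r.2
        show D ((r : B) • m) = (r : B) • D m
        rw [← hk, Int.cast_smul_eq_zsmul, Int.cast_smul_eq_zsmul, map_zsmul] }
  let l' : N →ₗ[A] P :=
    { D' with
      map_smul' := fun r m => by
        obtain ⟨k, hk⟩ := Subring.mem_bot.1 r.2
        show D' ((r : B) • m) = (r : B) • D' m
        rw [← hk, Int.cast_smul_eq_zsmul, Int.cast_smul_eq_zsmul, map_zsmul] }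
  have h1 : Diff16.IsDiffOpLE A B M N n l := (DiffOp.isDiffOpLE_iff_prod n l).2 fun b => LinearMap.ext fun m => by
    rw [DiffOp.act_prod_delta_apply]; exact hD b m
  have h2 : Diff16.IsDiffOpLE A B N P n' l' := (DiffOp.isDiffOpLE_iff_prod n' l').2 fun b => LinearMap.ext fun m => by
    rw [DiffOp.act_prod_delta_apply]; exact hD' b m
  have h := congr($((DiffOp.isDiffOpLE_iff_prod (n + n') _).1 (h1.comp h2) a) t)
  rw [DiffOp.act_prod_delta_apply] at h
  exact h

theorem isDiffOpLE_comp (F G H : X.Modules) (n n' : ℕ)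
    (D : F.presheaf ⟶ G.presheaf) (D' : G.presheaf ⟶ H.presheaf)
    (hD : PrinPart.IsDiffOpLE f F G n D) (hD' : PrinPart.IsDiffOpLE f G H n' D') :
    PrinPart.IsDiffOpLE f F H (n + n') (D ≫ D') := by
  have l1 := isLin_of_isDiffOpLE f hD
  have l2 := isLin_of_isDiffOpLE f hD'
  refine isDiffOpLE_of_sum f F H (n + n') (D ≫ D') (fun V s U hU t => ?_) fun U a t => ?_
  · show D'.app (op U) (D.app (op U) _) = _
    rw [l1 V s U hU t, l2 V s U hU]
    rfl
  · exact sum_comp (D.app (op U)).hom (D'.app (op U)).hom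
      (fun a t => isDiffOpLE_imp f F G n D l1 hD U a t)
      (fun a t => isDiffOpLE_imp f G H n' D' l2 hD' U a t) a t

end Groth.Agent.EtAlgEasy.PrinPartComp
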