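import Groth.Agent.EtAlgEasy.PrinPartGen
import Mathlib

/-!
Maps of sheaves of principal parts induced by maps of neighbourhoods over the same scheme.
-/

set_option autoImplicit false
set_option backward.isDefEq.respectTransparency false

universe u

open CategoryTheory CategoryTheory.Limits AlgebraicGeometry TopologicalSpace Opposite

namespace Groth.Agent.EtAlgEasy.PrinPartMap

theorem map_map {Z : Scheme.{u}} (M : Z.Modules) {A B C : Z.Opens} (i : op A ⟶ op B) (j : op B ⟶ op C)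
    (k : op A ⟶ op C) (s : Γ(M, A)) : M.presheaf.map j (M.presheaf.map i s) = M.presheaf.map k s := by
  rw [← ConcreteCategory.comp_apply, ← Functor.map_comp]
  rfl

variable {X S S' : Scheme.{u}} (f : X ⟶ S) (f' : X ⟶ S') (m n : ℕ) (w : PrinPart.nbhd f' n ⟶ PrinPart.nbhd f m)
  (h1 : w ≫ PrinPart.pr1 f m = PrinPart.pr1 f' n) (h2 : w ≫ PrinPart.pr2 f m = PrinPart.pr2 f' n)

include h1 h2 in
theorem exists_map (F : X.Modules) :
    ∃ π : PrinPart.PMod f m F ⟶ PrinPart.PMod f' n F,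
      ∀ (U : X.Opens) (t : Γ(F, U)), π.app U (PrinPart.dP f m F U t) = PrinPart.dP f' n F U t := by
  let L := (Scheme.Modules.pullback (PrinPart.pr2 f' n)).obj F
  let adj := Scheme.Modules.pullbackPushforwardAdjunction (PrinPart.pr2 f m)
  let ψ0 : F ⟶ (Scheme.Modules.pushforward (PrinPart.pr2 f m)).obj ((Scheme.Modules.pushforward w).obj L) :=
    (Scheme.Modules.pullbackPushforwardAdjunction (PrinPart.pr2 f' n)).unit.app F ≫
      (Scheme.Modules.pushforwardCongr h2).inv.app L ≫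
      (Scheme.Modules.pushforwardComp w (PrinPart.pr2 f m)).inv.app L
  let ψ := (adj.homEquiv F ((Scheme.Modules.pushforward w).obj L)).symm ψ0
  refine ⟨(Scheme.Modules.pushforward (PrinPart.pr1 f m)).map ψ ≫
    (Scheme.Modules.pushforwardComp w (PrinPart.pr1 f m)).hom.app L ≫
    (Scheme.Modules.pushforwardCongr h1).hom.app L, fun U t => ?_⟩
  have hψ : adj.unit.app F ≫ (Scheme.Modules.pushforward (PrinPart.pr2 f m)).map ψ = ψ0 := by
    exact (adj.homEquiv_unit _ _ ψ).symm.trans (Equiv.apply_symm_apply _ _)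
  have hψ' : ψ.app (PrinPart.pr2 f m ⁻¹ᵁ U) (OmegaSh.pullSect (PrinPart.pr2 f m) F U t) = ψ0.app U t := by
    rw [← hψ]
    rfl
  have hψ0 : ψ0.app U t = L.presheaf.map (eqToHom (by rw [← h2]; rfl)).op
      (OmegaSh.pullSect (PrinPart.pr2 f' n) F U t) := rfl
  show L.presheaf.map (eqToHom (show PrinPart.pr1 f' n ⁻¹ᵁ U = w ⁻¹ᵁ (PrinPart.pr1 f m ⁻¹ᵁ U) by rw [← h1]; rfl)).op (ψ.app (PrinPart.pr1 f m ⁻¹ᵁ U) (PrinPart.dP f m F U t)) = _
  rw [PrinPart.dP_apply, PrinPart.dP_apply]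
  have hnat := ConcreteCategory.congr_hom (ψ.mapPresheaf.naturality (homOfLE (PrinPart.preimage_pr1 f m U).le).op)
    (OmegaSh.pullSect (PrinPart.pr2 f m) F U t)
  simp only [ConcreteCategory.comp_apply] at hnat
  refine (congrArg _ hnat).trans ?_
  refine (congrArg (fun s => L.presheaf.map _ (((Scheme.Modules.pushforward w).obj L).presheaf.map
    (homOfLE (PrinPart.preimage_pr1 f m U).le).op s)) (hψ'.trans hψ0)).trans ?_
  refine (congrArg _ (map_map L _ _ (homOfLE (show w ⁻¹ᵁ (PrinPart.pr1 f m ⁻¹ᵁ U) ≤ PrinPart.pr2 f' n ⁻¹ᵁ U by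
    rw [PrinPart.preimage_pr1, ← h2]; exact le_rfl)).op _)).trans ?_
  exact map_map L _ _ _ _

omit h1 h2 in
/-- A differential operator of order `≤ n` has order `≤ m` for `n ≤ m`. -/
theorem isDiffOpLE_mono {n m : ℕ} (h : n ≤ m) {F G : X.Modules} {D : F.presheaf ⟶ G.presheaf}
    (hD : PrinPart.IsDiffOpLE f F G n D) : PrinPart.IsDiffOpLE f F G m D := by
  obtain ⟨v, hv⟩ := hD
  have e : PrinPart.infNbhdMap (PrinPart.diagCl f) h ≫ PrinPart.nbhdι f m = PrinPart.nbhdι f n :=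
    PrinPart.infNbhdMap_ι_assoc _ h _
  obtain ⟨π, hπ⟩ := exists_map f f m n (PrinPart.infNbhdMap (PrinPart.diagCl f) h)
    (by rw [PrinPart.pr1, ← Category.assoc, e]; rfl) (by rw [PrinPart.pr2, ← Category.assoc, e]; rfl) F
  refine ⟨π ≫ v, fun U t => ?_⟩
  rw [hv U t, ← hπ U t]
  rfl

end Groth.Agent.EtAlgEasy.PrinPartMap
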