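import Groth.Agent.EtAlgEasy.PrinPartStalkMod
import Mathlib

/-!
A homomorphism is a differential operator of order at most `n` if and only if its iterated commutators of
length `n + 1` vanish.
-/

set_option autoImplicit false
set_option backward.isDefEq.respectTransparency false

universe u

open CategoryTheory CategoryTheory.Limits AlgebraicGeometry TopologicalSpace Opposite
open scoped TensorProduct

namespace Groth.Agent.EtAlgEasy.PrinPartOp

open PrinPartStalk PrinPartStalkMod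

section alg

variable {R A : Type u} [CommRing R] [CommRing A] [Algebra R A]

theorem prod_delta {m : ℕ} (a : Fin m → A) :
    ∏ i, ((1 : A) ⊗ₜ[R] a i - a i ⊗ₜ[R] (1 : A)) =
      ∑ H : Finset (Fin m), ((-1 : ℤ) ^ H.card) • ((∏ i ∈ H, a i) ⊗ₜ[R] (∏ i ∈ Hᶜ, a i)) := by
  have h1 : ∀ H : Finset (Fin m), ∏ i ∈ H, (a i ⊗ₜ[R] (1 : A)) = (∏ i ∈ H, a i) ⊗ₜ[R] (1 : A) := fun H =>
    (map_prod (Algebra.TensorProduct.includeLeftRingHom : A →+* A ⊗[R] A) a H).symm
  have h2 : ∀ H : Finset (Fin m), ∏ i ∈ H, ((1 : A) ⊗ₜ[R] a i) = (1 : A) ⊗ₜ[R] (∏ i ∈ H, a i) := fun H =>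
    (map_prod (Algebra.TensorProduct.includeRight : A →ₐ[R] A ⊗[R] A) a H).symm
  calc ∏ i, ((1 : A) ⊗ₜ[R] a i - a i ⊗ₜ[R] (1 : A))
      = ∏ i, (-(a i ⊗ₜ[R] (1 : A)) + (1 : A) ⊗ₜ[R] a i) := Finset.prod_congr rfl fun i _ => by abel
    _ = ∑ H : Finset (Fin m), (∏ i ∈ H, -(a i ⊗ₜ[R] (1 : A))) * ∏ i ∈ Finset.univ \ H, (1 : A) ⊗ₜ[R] a i := by
      rw [Finset.prod_add, Finset.powerset_univ]
    _ = _ := Finset.sum_congr rfl fun H _ => by
      rw [Finset.prod_neg, h1, ← Finset.compl_eq_univ_sdiff, h2, zsmul_eq_mul, mul_assoc,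
        Algebra.TensorProduct.tmul_mul_tmul, mul_one, one_mul]
      push_cast
      rfl

theorem mem_ideal_pow_induction {m : ℕ} {p : A ⊗[R] A → Prop} (h0 : p 0) (hadd : ∀ u v, p u → p v → p (u + v))
    (hmem : ∀ (w : A ⊗[R] A) (a : Fin m → A), p (w * ∏ i, ((1 : A) ⊗ₜ[R] a i - a i ⊗ₜ[R] (1 : A))))
    {t : A ⊗[R] A} (ht : t ∈ KaehlerDifferential.ideal R A ^ m) : p t := by
  rw [← KaehlerDifferential.span_range_eq_ideal] at ht
  unfold Ideal.span at ht
  rw [Submodule.span_pow] at ht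
  suffices H : ∀ w, p (w * t) by simpa using H 1
  induction ht using Submodule.span_induction with
  | mem x hx =>
    intro w
    obtain ⟨l, rfl⟩ := Set.mem_pow.1 hx
    choose a ha using fun i => (l i).2
    have : (List.ofFn fun i => ((l i : A ⊗[R] A))).prod = ∏ i, ((1 : A) ⊗ₜ[R] a i - a i ⊗ₜ[R] (1 : A)) := by
      rw [List.prod_ofFn]
      exact Finset.prod_congr rfl fun i _ => (ha i).symm
    rw [this]
    exact hmem w a
  | zero => intro w; rw [mul_zero]; exact h0
  | add u v _ _ hu hv => intro w; rw [mul_add]; exact hadd _ _ (hu w) (hv w)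
  | smul r u _ hu => intro w; rw [smul_eq_mul, ← mul_assoc]; exact hu _

end alg

variable {X S : Scheme.{u}} (f : X ⟶ S) (F G : X.Modules) (n : ℕ) (D : F.presheaf ⟶ G.presheaf)

/-- `D` is linear over the functions of `S`. -/
def IsLin : Prop :=
  ∀ (V : S.Opens) (s : Γ(S, V)) (U : X.Opens) (hU : U ≤ f ⁻¹ᵁ V) (t : Γ(F, U)),
    D.app (op U) (X.presheaf.map (homOfLE hU).op (f.app V s) • t) =
      X.presheaf.map (homOfLE hU).op (f.app V s) • D.app (op U) t

/-- The map on stalks. -/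
noncomputable def Dx (x : X) : F.presheaf.stalk x →+ G.presheaf.stalk x :=
  ((TopCat.Presheaf.stalkFunctor Ab x).map D).hom

theorem Dx_germ {U : X.Opens} {x : X} (hx : x ∈ U) (t : Γ(F, U)) :
    Dx F G D x (F.presheaf.germ U x hx t) = G.presheaf.germ U x hx (D.app (op U) t) :=
  TopCat.Presheaf.stalkFunctor_map_germ_apply U x hx D t

variable {f F G D}

theorem Dx_smul_base (hlin : IsLin f F G D) (x : X) (r : S.presheaf.stalk (f x)) (t : F.presheaf.stalk x) :
    Dx F G D x (f.stalkMap x r • t) = f.stalkMap x r • Dx F G D x t := by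
  obtain ⟨V, hV, s, rfl⟩ := TopCat.Presheaf.exists_germ_eq S.presheaf r
  obtain ⟨U, hU, t, rfl⟩ := TopCat.Presheaf.exists_germ_eq F.presheaf t
  have hx : x ∈ f ⁻¹ᵁ V ⊓ U := ⟨hV, hU⟩
  rw [Scheme.Hom.germ_stalkMap_apply,
    ← X.presheaf.germ_res_apply (homOfLE (inf_le_left : f ⁻¹ᵁ V ⊓ U ≤ f ⁻¹ᵁ V)) x hx (f.app V s),
    ← F.presheaf.germ_res_apply (homOfLE (inf_le_right : f ⁻¹ᵁ V ⊓ U ≤ U)) x hx t]
  erw [← PresheafOfModules.germ_smul (R := X.presheaf) F.val x (f ⁻¹ᵁ V ⊓ U) hx]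
  rw [Dx_germ]
  refine (Dx_germ F G D hx _).trans ?_
  refine (congrArg _ (hlin V s (f ⁻¹ᵁ V ⊓ U) inf_le_left _)).trans ?_
  exact PresheafOfModules.germ_smul (R := X.presheaf) G.val x (f ⁻¹ᵁ V ⊓ U) hx _ _

variable (f F G D)

/-- The bilinearisation of `D` on `O_x ⊗ O_x`. -/
noncomputable def Φ₀ (hlin : IsLin f F G D) (x : X) : T f x →+ (F.presheaf.stalk x →+ G.presheaf.stalk x) :=
  letI := algStalk f x
  TensorProduct.liftAddHom (R := S.presheaf.stalk (f x))
    { toFun := fun a =>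
        { toFun := fun b =>
            { toFun := fun t => a • Dx F G D x (b • t)
              map_zero' := by rw [smul_zero, map_zero, smul_zero]
              map_add' := fun s t => by rw [smul_add, map_add, smul_add] }
          map_zero' := by ext t; show a • Dx F G D x ((0 : X.presheaf.stalk x) • t) = 0; rw [zero_smul, map_zero, smul_zero]
          map_add' := fun b b' => by
            ext t; show a • Dx F G D x ((b + b') • t) = a • Dx F G D x (b • t) + a • Dx F G D x (b' • t)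
            rw [add_smul, map_add, smul_add] }
      map_zero' := by ext b t; show (0 : X.presheaf.stalk x) • Dx F G D x (b • t) = 0; rw [zero_smul]
      map_add' := fun a a' => by
        ext b t; show (a + a') • Dx F G D x (b • t) = a • Dx F G D x (b • t) + a' • Dx F G D x (b • t)
        rw [add_smul] }
    fun r a b => by
      ext t
      show (f.stalkMap x r * a) • Dx F G D x (b • t) = a • Dx F G D x ((f.stalkMap x r * b) • t)
      rw [mul_smul (f.stalkMap x r) b, Dx_smul_base hlin, smul_smul, mul_comm]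

theorem Φ₀_tmul (hlin : IsLin f F G D) (x : X) (a b : X.presheaf.stalk x) (t : F.presheaf.stalk x) :
    letI := algStalk f x
    Φ₀ f F G D hlin x (a ⊗ₜ[S.presheaf.stalk (f x)] b) t = a • Dx F G D x (b • t) := rfl

/-- The alternating sum at a stalk. -/
theorem Φ₀_prod (hlin : IsLin f F G D) (x : X) (c d : X.presheaf.stalk x) (a : Fin (n + 1) → X.presheaf.stalk x)
    (t : F.presheaf.stalk x) :
    letI := algStalk f x
    Φ₀ f F G D hlin x ((c ⊗ₜ[S.presheaf.stalk (f x)] d) *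
        ∏ i, ((1 : X.presheaf.stalk x) ⊗ₜ[S.presheaf.stalk (f x)] a i - a i ⊗ₜ[S.presheaf.stalk (f x)] 1)) t =
      c • ∑ H : Finset (Fin (n + 1)), ((-1 : ℤ) ^ H.card) •
        ((∏ i ∈ H, a i) • Dx F G D x ((∏ i ∈ Hᶜ, a i) • d • t)) := by
  letI := algStalk f x
  rw [prod_delta, Finset.mul_sum, map_sum, AddMonoidHom.finsetSum_apply, Finset.smul_sum]
  refine Finset.sum_congr rfl fun H _ => ?_
  rw [mul_zsmul_assoc_helper, map_zsmul, AddMonoidHom.zsmul_apply, Φ₀_tmul, smul_comm c, smul_smul c,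
    smul_smul _ d, mul_comm (∏ i ∈ Hᶜ, a i) d]
where
  mul_zsmul_assoc_helper {A : Type u} [CommRing A] {R : Type u} [CommRing R] [Algebra R A] {c d p q : A} {k : ℤ} :
      (c ⊗ₜ[R] d) * k • (p ⊗ₜ[R] q) = k • ((c * p) ⊗ₜ[R] (d * q)) := by
    rw [mul_smul_comm, Algebra.TensorProduct.tmul_mul_tmul]

theorem sum_germ (x : X) (U : X.Opens) (hx : x ∈ U) (a : Fin (n + 1) → Γ(X, U)) (t : Γ(F, U)) :
    G.presheaf.germ U x hx (∑ H : Finset (Fin (n + 1)),
          ((-1 : ℤ) ^ H.card) • ((∏ i ∈ H, a i) • D.app (op U) ((∏ i ∈ Hᶜ, a i) • t))) =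
      ∑ H : Finset (Fin (n + 1)), ((-1 : ℤ) ^ H.card) • ((∏ i ∈ H, X.presheaf.germ U x hx (a i)) •
        Dx F G D x ((∏ i ∈ Hᶜ, X.presheaf.germ U x hx (a i)) • F.presheaf.germ U x hx t)) := by
  rw [map_sum]
  refine Finset.sum_congr rfl fun H _ => ?_
  rw [map_zsmul]
  congr 1
  refine (PresheafOfModules.germ_smul (R := X.presheaf) G.val x U hx _ _).trans ?_
  refine congr_arg₂ (· • ·) (map_prod (X.presheaf.germ U x hx).hom a H) ?_
  refine (Dx_germ F G D hx _).symm.trans ?_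
  refine congrArg (Dx F G D x) ?_
  refine (PresheafOfModules.germ_smul (R := X.presheaf) F.val x U hx _ _).trans ?_
  exact congrArg (· • _) (map_prod (X.presheaf.germ U x hx).hom a Hᶜ)

theorem isDiffOpLE_imp (hlin : IsLin f F G D) (hD : PrinPart.IsDiffOpLE f F G n D) (U : X.Opens)
    (a : Fin (n + 1) → Γ(X, U)) (t : Γ(F, U)) :
    (∑ H : Finset (Fin (n + 1)),
          ((-1 : ℤ) ^ H.card) • ((∏ i ∈ H, a i) • D.app (op U) ((∏ i ∈ Hᶜ, a i) • t))) = 0 := by
  obtain ⟨v, hv⟩ := hD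
  refine TopCat.Presheaf.section_ext (⟨G.presheaf, G.isSheaf⟩ : TopCat.Sheaf Ab X) U _ _ fun x hx => ?_
  show G.presheaf.germ U x hx _ = G.presheaf.germ U x hx _
  rw [map_zero, sum_germ]
  letI := algStalk f x
  letI := Module.compHom ((L f n F).presheaf.stalk (PrinPart.toNbhd f n x))
    (X.presheaf.stalkSpecializes (specializes_of_eq (pr2_toNbhd_apply f n x)) ≫
      (PrinPart.pr2 f n).stalkMap (PrinPart.toNbhd f n x)).hom
  obtain ⟨l, -, hl⟩ := isBaseChange_of_eq (PrinPart.pr2 f n) F (PrinPart.toNbhd f n x) (pr2_toNbhd_apply f n x)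
  obtain ⟨ρ, hρb, hρlin, hρg⟩ := exists_ρ f n F x
  let ρe := AddEquiv.ofBijective ρ hρb
  have key : ∀ (w : T f x) (s : F.presheaf.stalk x),
      Φ₀ f F G D hlin x w s = PullbackMod.stalkLin v x (ρe.symm (θ₀ f n x w • l s)) := by
    intro w
    induction w using TensorProduct.induction_on with
    | zero => intro s; rw [map_zero, map_zero, zero_smul, map_zero, map_zero]; rfl
    | tmul a b =>
      intro s
      rw [Φ₀_tmul, θ₀_tmul, mul_smul]
      have h1 : σ₂ f n x b • l s = l (b • s) := (l.map_smul b s).symm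
      rw [h1]
      have h2 : ρe.symm (σ₁ f n x a • l (b • s)) = a • ρe.symm (l (b • s)) := by
        apply ρe.injective
        rw [AddEquiv.apply_symm_apply]
        show _ = ρ (a • ρe.symm (l (b • s)))
        rw [hρlin]
        exact congrArg _ (ρe.apply_symm_apply _).symm
      rw [h2, LinearMap.map_smul]
      congr 1
      generalize b • s = s'
      obtain ⟨V, hV, s', rfl⟩ := TopCat.Presheaf.exists_germ_eq F.presheaf s'
      have h3 : ρe.symm (l (F.presheaf.germ V x hV s')) =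
          (PrinPart.PMod f n F).presheaf.germ V x hV (PrinPart.dP f n F V s') := by
        apply ρe.injective
        rw [AddEquiv.apply_symm_apply]
        show _ = ρ _
        rw [hρg, germ_dP f n F x V hV, hl V hV]
      rw [h3, Dx_germ, PullbackMod.stalkLin_germ, hv]
    | add w₁ w₂ h₁ h₂ =>
      intro s
      rw [map_add, map_add, add_smul, map_add, map_add, AddMonoidHom.add_apply, h₁, h₂]
  have hmem : (∏ i, ((1 : X.presheaf.stalk x) ⊗ₜ[S.presheaf.stalk (f x)] (X.presheaf.germ U x hx (a i)) -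
      (X.presheaf.germ U x hx (a i)) ⊗ₜ[S.presheaf.stalk (f x)] 1)) ∈ RingHom.ker (θ₀ f n x) := by
    rw [ker_θ₀]
    have := Ideal.prod_mem_prod (s := Finset.univ)
      (I := fun _ : Fin (n + 1) => KaehlerDifferential.ideal (S.presheaf.stalk (f x)) (X.presheaf.stalk x))
      (x := fun i => (1 : X.presheaf.stalk x) ⊗ₜ[S.presheaf.stalk (f x)] (X.presheaf.germ U x hx (a i)) -
        (X.presheaf.germ U x hx (a i)) ⊗ₜ[S.presheaf.stalk (f x)] 1)
      (fun i _ => KaehlerDifferential.one_smul_sub_smul_one_mem_ideal _ _)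
    simpa using this
  have h := Φ₀_prod f F G n D hlin x 1 1 (fun i => X.presheaf.germ U x hx (a i)) (F.presheaf.germ U x hx t)
  rw [one_smul, one_smul] at h
  rw [← h, ← Algebra.TensorProduct.one_def, one_mul, key, RingHom.mem_ker.1 hmem, zero_smul, map_zero, map_zero]

/-- The alternating sums vanish on stalks. -/
theorem sum_stalk (hsum : ∀ (U : X.Opens) (a : Fin (n + 1) → Γ(X, U)) (t : Γ(F, U)),
    (∑ H : Finset (Fin (n + 1)),
          ((-1 : ℤ) ^ H.card) • ((∏ i ∈ H, a i) • D.app (op U) ((∏ i ∈ Hᶜ, a i) • t))) = 0)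
    (x : X) (a : Fin (n + 1) → X.presheaf.stalk x) (t : F.presheaf.stalk x) :
    ∑ H : Finset (Fin (n + 1)), ((-1 : ℤ) ^ H.card) • ((∏ i ∈ H, a i) • Dx F G D x ((∏ i ∈ Hᶜ, a i) • t)) = 0 := by
  choose V hV s hs using fun i => TopCat.Presheaf.exists_germ_eq X.presheaf (a i)
  obtain ⟨U', hU', t, rfl⟩ := TopCat.Presheaf.exists_germ_eq F.presheaf t
  let W : X.Opens := ⟨(⋂ i, (V i : Set X)) ∩ U', (isOpen_iInter_of_finite fun i => (V i).2).inter U'.2⟩
  have hxW : x ∈ W := ⟨Set.mem_iInter.2 hV, hU'⟩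
  have hWV : ∀ i, W ≤ V i := fun i y hy => Set.mem_iInter.1 hy.1 i
  have hWU : W ≤ U' := fun y hy => hy.2
  have ha : ∀ i, a i = X.presheaf.germ W x hxW (X.presheaf.map (homOfLE (hWV i)).op (s i)) := fun i => by
    rw [TopCat.Presheaf.germ_res_apply]; exact (hs i).symm
  have h := congrArg (G.presheaf.germ W x hxW)
    (hsum W (fun i => X.presheaf.map (homOfLE (hWV i)).op (s i)) (F.presheaf.map (homOfLE hWU).op t))
  rw [sum_germ, map_zero, TopCat.Presheaf.germ_res_apply] at h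
  simp only [← ha] at h
  exact h

theorem isDiffOpLE_of_sum (hlin : IsLin f F G D)
    (hsum : ∀ (U : X.Opens) (a : Fin (n + 1) → Γ(X, U)) (t : Γ(F, U)),
    (∑ H : Finset (Fin (n + 1)),
          ((-1 : ℤ) ^ H.card) • ((∏ i ∈ H, a i) • D.app (op U) ((∏ i ∈ Hᶜ, a i) • t))) = 0) :
    PrinPart.IsDiffOpLE f F G n D := by
  let N := PrinPart.nbhd f n
  let z := fun x : X => PrinPart.toNbhd f n x
  let P := PrinPart.PMod f n F
  have hker : ∀ x, (θ₀ f n x).toAddMonoidHom.ker ≤ (Φ₀ f F G D hlin x).ker := by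
    intro x w hw
    letI := algStalk f x
    have hw' : w ∈ RingHom.ker (θ₀ f n x) := hw
    rw [ker_θ₀] at hw'
    refine mem_ideal_pow_induction (p := fun w => w ∈ (Φ₀ f F G D hlin x).ker) (zero_mem _)
      (fun u v hu hv => add_mem hu hv) (fun u a => ?_) hw'
    induction u using TensorProduct.induction_on with
    | zero => rw [zero_mul]; exact zero_mem _
    | tmul c d =>
      rw [AddMonoidHom.mem_ker]
      ext t
      rw [Φ₀_prod, sum_stalk F G n D hsum x a (d • t), smul_zero, AddMonoidHom.zero_apply]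
    | add u v hu hv => rw [add_mul]; exact add_mem hu hv
  have hφ : ∀ x : X, ∃ φ : P.presheaf.stalk x →ₗ[X.presheaf.stalk x] G.presheaf.stalk x,
      (∀ (U : X.Opens) (hU : x ∈ U) (t : Γ(F, U)), φ (P.presheaf.germ U x hU (PrinPart.dP f n F U t)) =
        G.presheaf.germ U x hU (D.app (op U) t)) ∧
      ∀ w, w ∈ Submodule.span (X.presheaf.stalk x) {w | ∃ (U : X.Opens) (hU : x ∈ U) (t : Γ(F, U)),
        w = P.presheaf.germ U x hU (PrinPart.dP f n F U t)} := by
    intro x
    letI := algStalk f x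
    letI : Algebra (X.presheaf.stalk x) (N.presheaf.stalk (z x)) :=
      (X.presheaf.stalkSpecializes (specializes_of_eq (pr2_toNbhd_apply f n x)) ≫
        (PrinPart.pr2 f n).stalkMap (z x)).hom.toAlgebra
    letI := Module.compHom ((L f n F).presheaf.stalk (z x))
      (X.presheaf.stalkSpecializes (specializes_of_eq (pr2_toNbhd_apply f n x)) ≫
        (PrinPart.pr2 f n).stalkMap (z x)).hom
    haveI : IsScalarTower (X.presheaf.stalk x) (N.presheaf.stalk (z x)) ((L f n F).presheaf.stalk (z x)) :=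
      .of_algebraMap_smul fun _ _ => rfl
    obtain ⟨l, hbc, hl⟩ := isBaseChange_of_eq (PrinPart.pr2 f n) F (z x) (pr2_toNbhd_apply f n x)
    obtain ⟨ρ, hρb, hρlin, hρg⟩ := exists_ρ f n F x
    let Φ := AddMonoidHom.liftOfSurjective (θ₀ f n x).toAddMonoidHom (θ₀_surjective f n x) ⟨_, hker x⟩
    have hΦ : ∀ w, Φ (θ₀ f n x w) = Φ₀ f F G D hlin x w := fun w =>
      AddMonoidHom.liftOfRightInverse_comp_apply _ _ _ ⟨_, hker x⟩ w
    have hbal : ∀ (b : X.presheaf.stalk x) (s : N.presheaf.stalk (z x)) (t : F.presheaf.stalk x),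
        Φ (b • s) t = Φ s (b • t) := by
      intro b s t
      obtain ⟨w, rfl⟩ := θ₀_surjective f n x s
      have : b • θ₀ f n x w = θ₀ f n x ((1 ⊗ₜ[S.presheaf.stalk (f x)] b) * w) := by
        rw [map_mul, θ₀_tmul, map_one, one_mul]; rfl
      rw [this, hΦ, hΦ]
      clear this
      induction w using TensorProduct.induction_on with
      | zero => rw [mul_zero, map_zero]; rfl
      | tmul a c => rw [Algebra.TensorProduct.tmul_mul_tmul, one_mul, Φ₀_tmul, Φ₀_tmul, smul_smul c b, mul_comm b c]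
      | add w₁ w₂ h₁ h₂ => rw [mul_add, map_add, map_add, AddMonoidHom.add_apply, AddMonoidHom.add_apply, h₁, h₂]
    let e := hbc.equiv
    let φ' : (L f n F).presheaf.stalk (z x) →+ G.presheaf.stalk x :=
      (TensorProduct.liftAddHom (R := X.presheaf.stalk x) Φ (fun b s t => hbal b s t)).comp e.symm.toAddMonoidHom
    have hφ' : ∀ s t, φ' (s • l t) = Φ s t := fun s t => by
      show (TensorProduct.liftAddHom (R := X.presheaf.stalk x) Φ (fun b s t => hbal b s t)) (e.symm (s • l t)) = _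
      rw [map_smul, hbc.equiv_symm_apply, TensorProduct.smul_tmul', smul_eq_mul, mul_one]
      rfl
    have hσ : ∀ (a : X.presheaf.stalk x) (w : (L f n F).presheaf.stalk (z x)), φ' (σ₁ f n x a • w) = a • φ' w := by
      intro a w
      suffices h : ∀ s : N.presheaf.stalk (z x), φ' (σ₁ f n x a • s • w) = a • φ' (s • w) by simpa using h 1
      induction w using hbc.inductionOn with
      | zero => intro s; rw [smul_zero, smul_zero, map_zero, smul_zero]
      | tmul t =>
        intro s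
        rw [smul_smul, hφ', hφ']
        obtain ⟨u, rfl⟩ := θ₀_surjective f n x s
        have : σ₁ f n x a * θ₀ f n x u = θ₀ f n x ((a ⊗ₜ[S.presheaf.stalk (f x)] 1) * u) := by
          rw [map_mul, θ₀_tmul, map_one, mul_one]
        rw [this, hΦ, hΦ]
        clear this
        induction u using TensorProduct.induction_on with
        | zero => rw [mul_zero, map_zero, AddMonoidHom.zero_apply, smul_zero]
        | tmul c d => rw [Algebra.TensorProduct.tmul_mul_tmul, one_mul, Φ₀_tmul, Φ₀_tmul, mul_smul]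
        | add u₁ u₂ h₁ h₂ =>
          rw [mul_add, map_add, map_add, AddMonoidHom.add_apply, AddMonoidHom.add_apply, h₁, h₂, smul_add]
      | smul r w hw => intro s; rw [smul_smul s r]; exact hw _
      | add w₁ w₂ h₁ h₂ => intro s; rw [smul_add, smul_add, map_add, map_add, h₁, h₂, smul_add]
    refine ⟨{ toFun := fun w => φ' (ρ w), map_add' := fun u v => by rw [map_add, map_add],
              map_smul' := fun a w => by rw [hρlin, hσ]; rfl }, fun U hU t => ?_, fun w => ?_⟩
    · show φ' (ρ (P.presheaf.germ U x hU _)) = _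
      rw [hρg, germ_dP f n F x U hU, ← hl U hU t, ← one_smul (N.presheaf.stalk (z x)) (l (F.presheaf.germ U x hU t)), hφ',
        ← map_one (θ₀ f n x), hΦ, Algebra.TensorProduct.one_def, Φ₀_tmul, one_smul, one_smul, Dx_germ]
    · let M := Submodule.span (X.presheaf.stalk x) {w | ∃ (U : X.Opens) (hU : x ∈ U) (t : Γ(F, U)),
        w = P.presheaf.germ U x hU (PrinPart.dP f n F U t)}
      suffices h : ∀ (y : (L f n F).presheaf.stalk (z x)) (s : N.presheaf.stalk (z x)), ∃ w ∈ M, ρ w = s • y by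
        obtain ⟨w', hw', he⟩ := h (ρ w) 1
        rw [one_smul] at he
        exact hρb.1 he ▸ hw'
      intro y
      induction y using hbc.inductionOn with
      | zero => intro s; exact ⟨0, M.zero_mem, by rw [map_zero, smul_zero]⟩
      | tmul t =>
        intro s
        obtain ⟨u, rfl⟩ := θ₀_surjective f n x s
        induction u using TensorProduct.induction_on with
        | zero => exact ⟨0, M.zero_mem, by rw [map_zero, map_zero, zero_smul]⟩
        | tmul a b =>
          rw [θ₀_tmul, mul_smul, show σ₂ f n x b • l t = l (b • t) from (l.map_smul b t).symm]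
          obtain ⟨V, hV, t', ht'⟩ := TopCat.Presheaf.exists_germ_eq F.presheaf (b • t)
          rw [← ht']
          refine ⟨a • P.presheaf.germ V x hV (PrinPart.dP f n F V t'),
            M.smul_mem _ (Submodule.subset_span ⟨V, hV, t', rfl⟩), ?_⟩
          rw [hρlin, hρg, germ_dP f n F x V hV, hl V hV]
        | add u₁ u₂ h₁ h₂ =>
          obtain ⟨w₁, hm₁, e₁⟩ := h₁
          obtain ⟨w₂, hm₂, e₂⟩ := h₂
          exact ⟨w₁ + w₂, M.add_mem hm₁ hm₂, by rw [map_add, map_add, add_smul, e₁, e₂]⟩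
      | smul r y hy => intro s; rw [smul_smul]; exact hy _
      | add y₁ y₂ h₁ h₂ =>
        intro s
        obtain ⟨w₁, hm₁, e₁⟩ := h₁ s
        obtain ⟨w₂, hm₂, e₂⟩ := h₂ s
        exact ⟨w₁ + w₂, M.add_mem hm₁ hm₂, by rw [map_add, smul_add, e₁, e₂]⟩
  choose φ hφd hspan using hφ
  have hgood : ∀ (x : X) (w : P.presheaf.stalk x), ∃ (V : X.Opens) (hV : x ∈ V) (g : Γ(P, V)) (h : Γ(G, V)),
      P.presheaf.germ V x hV g = w ∧ ∀ (y : X) (hy : y ∈ V), φ y (P.presheaf.germ V y hy g) = G.presheaf.germ V y hy h := by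
    intro x w
    induction hspan x w using Submodule.span_induction with
    | mem w hw =>
      obtain ⟨U, hU, t, rfl⟩ := hw
      exact ⟨U, hU, _, _, rfl, fun y hy => hφd y U hy t⟩
    | zero => exact ⟨⊤, trivial, 0, 0, map_zero _, fun y hy => by rw [map_zero, map_zero, map_zero]⟩
    | add u v _ _ hu hv =>
      obtain ⟨V₁, hV₁, g₁, h₁, rfl, e₁⟩ := hu
      obtain ⟨V₂, hV₂, g₂, h₂, rfl, e₂⟩ := hv
      refine ⟨V₁ ⊓ V₂, ⟨hV₁, hV₂⟩, P.presheaf.map (homOfLE inf_le_left).op g₁ + P.presheaf.map (homOfLE inf_le_right).op g₂,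
        G.presheaf.map (homOfLE inf_le_left).op h₁ + G.presheaf.map (homOfLE inf_le_right).op h₂, ?_, fun y hy => ?_⟩
      · rw [map_add, TopCat.Presheaf.germ_res_apply, TopCat.Presheaf.germ_res_apply]
      · rw [map_add, map_add, map_add, TopCat.Presheaf.germ_res_apply, TopCat.Presheaf.germ_res_apply,
          TopCat.Presheaf.germ_res_apply, TopCat.Presheaf.germ_res_apply, e₁ y hy.1, e₂ y hy.2]
    | smul a u _ hu =>
      obtain ⟨V₁, hV₁, g₁, h₁, rfl, e₁⟩ := hu
      obtain ⟨V₂, hV₂, a, rfl⟩ := TopCat.Presheaf.exists_germ_eq X.presheaf a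
      let a' : Γ(X, V₂ ⊓ V₁) := X.presheaf.map (homOfLE (inf_le_left : V₂ ⊓ V₁ ≤ V₂)).op a
      let g' : Γ(P, V₂ ⊓ V₁) := P.presheaf.map (homOfLE (inf_le_right : V₂ ⊓ V₁ ≤ V₁)).op g₁
      let h' : Γ(G, V₂ ⊓ V₁) := G.presheaf.map (homOfLE (inf_le_right : V₂ ⊓ V₁ ≤ V₁)).op h₁
      refine ⟨V₂ ⊓ V₁, ⟨hV₂, hV₁⟩, a' • g', a' • h', ?_, fun y hy => ?_⟩
      · refine (PresheafOfModules.germ_smul (R := X.presheaf) P.val x (V₂ ⊓ V₁) ⟨hV₂, hV₁⟩ _ _).trans ?_
        exact congr_arg₂ (· • ·) (X.presheaf.germ_res_apply _ _ _ _) (P.presheaf.germ_res_apply _ _ _ _)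
      · refine (congrArg (φ y) (PresheafOfModules.germ_smul (R := X.presheaf) P.val y (V₂ ⊓ V₁) hy _ _)).trans ?_
        refine ((φ y).map_smul _ _).trans ?_
        refine Eq.trans ?_ (PresheafOfModules.germ_smul (R := X.presheaf) G.val y _ hy _ _).symm
        refine congrArg (X.presheaf.germ _ y hy _ • ·) ?_
        exact (congrArg (φ y) (P.presheaf.germ_res_apply _ _ _ _)).trans
          ((e₁ y hy.2).trans (G.presheaf.germ_res_apply _ _ _ _).symm)
  obtain ⟨u, hu⟩ := exists_hom_of_stalk φ (fun U m x hx => by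
    obtain ⟨V, hV, g, h, hg, he⟩ := hgood x (P.presheaf.germ U x hx m)
    obtain ⟨W, hxW, i₁, i₂, hW⟩ := P.presheaf.germ_eq x hV hx g m hg
    refine ⟨W, i₂.le, hxW, G.presheaf.map i₁.op h, fun y hy => ?_⟩
    rw [TopCat.Presheaf.germ_res_apply, ← he y (i₁.le hy), ← P.presheaf.germ_res_apply i₂ y hy m, ← hW,
      TopCat.Presheaf.germ_res_apply])
  refine ⟨u, fun U t => ?_⟩
  refine TopCat.Presheaf.section_ext (⟨G.presheaf, G.isSheaf⟩ : TopCat.Sheaf Ab X) U _ _ fun x hx => ?_
  show G.presheaf.germ U x hx _ = G.presheaf.germ U x hx (u.app U _)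
  rw [hu, hφd]

end Groth.Agent.EtAlgEasy.PrinPartOp
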