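import Groth.Agent.EtAlgEasy.PrinPartComp
import Mathlib

/-!
Operators of order one on the structure sheaf; the maps `P^(n+n') → P^n'(P^n)`.
-/

set_option autoImplicit false
set_option backward.isDefEq.respectTransparency false

universe u

open CategoryTheory CategoryTheory.Limits AlgebraicGeometry TopologicalSpace Opposite

namespace Groth.Agent.EtAlgEasy.PrinPartOrdOne

open PrinPartOp PrinPartComp

variable {X S : Scheme.{u}} (f : X ⟶ S)

theorem existsUnique_delta (n n' : ℕ) :
    ∃! δ : PrinPart.P f (n + n') ⟶ PrinPart.PMod f n' (PrinPart.P f n),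
      ∀ (U : X.Opens) (t : Γ(X, U)),
        δ.app U (PrinPart.dn f (n + n') U t) = PrinPart.dP f n' (PrinPart.P f n) U (PrinPart.dn f n U t) := by
  have h1 : PrinPart.IsDiffOpLE f (Coh.structureModule X) (PrinPart.P f n) n (PrinPart.dPHom f n _) :=
    ⟨𝟙 _, fun U t => rfl⟩
  have h2 : PrinPart.IsDiffOpLE f (PrinPart.P f n) (PrinPart.PMod f n' (PrinPart.P f n)) n' (PrinPart.dPHom f n' _) :=
    ⟨𝟙 _, fun U t => rfl⟩
  obtain ⟨δ, hδ⟩ := isDiffOpLE_comp f _ _ _ n n' _ _ h1 h2
  refine ⟨δ, fun U t => (hδ U (OmegaSh.strSect X U t)).symm, fun δ' hδ' => PrinPartGen.hom_ext f _ δ' δ fun U t => ?_⟩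
  exact (hδ' U (OmegaSh.fnSect X U t)).trans (hδ U t)

theorem strSect_smul (U : X.Opens) (a b : Γ(X, U)) :
    a • OmegaSh.strSect X U b = OmegaSh.strSect X U (a * b) := rfl

variable (G : X.Modules) (D : (Coh.structureModule X).presheaf ⟶ G.presheaf)

/-- `D` on functions. -/
noncomputable def Dfn (U : X.Opens) : Γ(X, U) →+ Γ(G, U) := (D.app (op U)).hom.comp (OmegaSh.strSect X U)

theorem Dfn_map {U V : X.Opens} (i : V ⟶ U) (a : Γ(X, U)) :
    Dfn G D V (X.presheaf.map i.op a) = G.presheaf.map i.op (Dfn G D U a) :=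
  ConcreteCategory.congr_hom (D.naturality i.op) (OmegaSh.strSect X U a)

/-- The linear part `a ↦ a • D 1`. -/
noncomputable def linPart : Coh.structureModule X ⟶ G where
  val := PresheafOfModules.homMk
    { app := fun U => AddCommGrpCat.ofHom
        ({ toFun := fun a => OmegaSh.fnSect X U.unop a • Dfn G D U.unop 1
           map_zero' := by rw [map_zero, zero_smul]
           map_add' := fun a b => by rw [map_add, add_smul] } : Γ(Coh.structureModule X, U.unop) →+ Γ(G, U.unop))
      naturality := fun U V i => AddCommGrpCat.hom_ext (AddMonoidHom.ext fun a => by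
        show (show Γ(X, V.unop) from X.presheaf.map i a) • Dfn G D V.unop 1 =
          G.presheaf.map i.unop.op (OmegaSh.fnSect X U.unop a • Dfn G D U.unop 1)
        rw [Scheme.Modules.map_smul, ← Dfn_map G D i.unop, map_one (X.presheaf.map i.unop.op).hom]
        rfl) }
    fun U (r : Γ(X, U.unop)) (a : Γ(Coh.structureModule X, U.unop)) => by
      show (r * OmegaSh.fnSect X U.unop a) • Dfn G D U.unop 1 = r • (OmegaSh.fnSect X U.unop a • Dfn G D U.unop 1)
      rw [mul_smul]

theorem linPart_app (U : X.Opens) (a : Γ(X, U)) :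
    (linPart G D).app U (OmegaSh.strSect X U a) = a • Dfn G D U 1 := rfl

variable {G D}

theorem leibniz (hD : PrinPart.IsDiffOpLE f (Coh.structureModule X) G 1 D) (U : X.Opens) (a b : Γ(X, U)) :
    Dfn G D U (a * b) - (a * b) • Dfn G D U 1 =
      a • (Dfn G D U b - b • Dfn G D U 1) + b • (Dfn G D U a - a • Dfn G D U 1) := by
  have h := isDiffOpLE_imp f _ G 1 D (isLin_of_isDiffOpLE f hD) hD U ![a, b] (OmegaSh.strSect X U 1)
  have e : (Finset.univ : Finset (Finset (Fin 2))) = {∅, {0}, {1}, {0, 1}} := by decide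
  rw [e, Finset.sum_insert (by decide), Finset.sum_insert (by decide), Finset.sum_insert (by decide),
    Finset.sum_singleton] at h
  have c0 : (∅ : Finset (Fin 2))ᶜ = {0, 1} := by decide
  have c1 : ({0} : Finset (Fin 2))ᶜ = {1} := by decide
  have c2 : ({1} : Finset (Fin 2))ᶜ = {0} := by decide
  have c3 : ({0, 1} : Finset (Fin 2))ᶜ = ∅ := by decide
  simp only [c0, c1, c2, c3, Finset.prod_empty, Finset.prod_singleton, Finset.prod_pair (by decide : (0 : Fin 2) ≠ 1),
    Finset.card_empty, Finset.card_singleton, Finset.card_pair (by decide : (0 : Fin 2) ≠ 1), Matrix.cons_val_zero,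
    Matrix.cons_val_one, strSect_smul, mul_one, one_smul, pow_zero, pow_one, neg_smul] at h
  replace h : Dfn G D U (a * b) + (-(a • Dfn G D U b) + (-(b • Dfn G D U a) + (a * b) • Dfn G D U 1)) = 0 := by
    simpa [Dfn] using h
  rw [smul_sub, smul_sub, smul_smul, smul_smul, mul_comm b a, ← sub_eq_zero]
  refine Eq.trans ?_ h
  abel

theorem Dfn_base (hD : PrinPart.IsDiffOpLE f (Coh.structureModule X) G 1 D) (U : X.Opens) (V : S.Opens) (hU : U ≤ f ⁻¹ᵁ V)
    (s : Γ(S, V)) :
    Dfn G D U (X.presheaf.map (homOfLE hU).op (f.app V s)) =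
      X.presheaf.map (homOfLE hU).op (f.app V s) • Dfn G D U 1 := by
  have h := isLin_of_isDiffOpLE f hD V s U hU (OmegaSh.strSect X U 1)
  rw [strSect_smul, mul_one] at h
  exact h

variable (G D) in
/-- The derivation part. -/
noncomputable def derPart (hD : PrinPart.IsDiffOpLE f (Coh.structureModule X) G 1 D) : OmegaSh.Der f G where
  d {U} :=
    ({ toFun := fun a => Dfn G D U.unop a - a • Dfn G D U.unop 1
       map_zero' := by rw [map_zero, zero_smul, sub_self]
       map_add' := fun a b => by rw [map_add, add_smul]; abel } : Γ(X, U.unop) →+ Γ(G, U.unop))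
  d_mul {U} a b := leibniz f hD U.unop a b
  d_map {U V} i x := by
    show Dfn G D V.unop (X.presheaf.map i.unop.op x) - (X.presheaf.map i.unop.op x) • Dfn G D V.unop 1 =
      G.presheaf.map i.unop.op (Dfn G D U.unop x - (show Γ(X, U.unop) from x) • Dfn G D U.unop 1)
    rw [map_sub, Scheme.Modules.map_smul, ← Dfn_map G D i.unop, ← Dfn_map G D i.unop, map_one (X.presheaf.map i.unop.op).hom]
  d_app {V} s := by
    show Dfn G D (f ⁻¹ᵁ V.unop) (f.app V.unop s) - (show Γ(X, f ⁻¹ᵁ V.unop) from f.app V.unop s) • Dfn G D (f ⁻¹ᵁ V.unop) 1 = 0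
    have h := Dfn_base f hD (f ⁻¹ᵁ V.unop) V.unop le_rfl s
    simp only [homOfLE_refl, op_id, CategoryTheory.Functor.map_id, CommRingCat.id_apply] at h
    rw [h, sub_self]

theorem existsUnique_decomp (hD : PrinPart.IsDiffOpLE f (Coh.structureModule X) G 1 D) :
    ∃! p : (Coh.structureModule X ⟶ G) × OmegaSh.Der f G,
      ∀ (U : X.Opens) (a : Γ(X, U)),
        D.app (op U) (OmegaSh.strSect X U a) = p.1.app U (OmegaSh.strSect X U a) + p.2.app U a := by
  refine ⟨(linPart G D, derPart f G D hD), fun U a => ?_, ?_⟩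
  · show Dfn G D U a = (linPart G D).app U (OmegaSh.strSect X U a) + (Dfn G D U a - a • Dfn G D U 1)
    rw [linPart_app]
    abel
  · rintro ⟨v, d⟩ h
    have hd1 : ∀ U : X.Opens, d.app U 1 = 0 := fun U => PresheafOfModules.Derivation.d_one d (op U)
    have hv : ∀ (U : X.Opens) (a : Γ(X, U)), v.app U (OmegaSh.strSect X U a) = a • Dfn G D U 1 := by
      intro U a
      have h1 : Dfn G D U 1 = v.app U (OmegaSh.strSect X U 1) := by
        have := h U 1
        rw [hd1, add_zero] at this
        exact this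
      rw [h1, ← Scheme.Modules.Hom.app_smul, strSect_smul, mul_one]
    refine Prod.ext ?_ ?_
    · refine Scheme.Modules.hom_ext _ _ fun U => AddCommGrpCat.hom_ext (AddMonoidHom.ext fun a => ?_)
      exact (hv U (OmegaSh.fnSect X U a)).trans (linPart_app G D U _).symm
    · refine PresheafOfModules.Derivation.ext (funext fun U => ?_)
      refine AddMonoidHom.ext fun a => ?_
      show d.app U.unop a = Dfn G D U.unop a - (show Γ(X, U.unop) from a) • Dfn G D U.unop 1
      have := h U.unop a
      rw [eq_sub_iff_add_eq', ← hv U.unop a]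
      exact this.symm

end Groth.Agent.EtAlgEasy.PrinPartOrdOne
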