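import Groth.Agent.EtAlgEasy.PrinPartMap
import Mathlib

/-!
Order zero operators; the maps of principal parts along a closed immersion are surjective.
-/

set_option autoImplicit false
set_option backward.isDefEq.respectTransparency false

universe u

open CategoryTheory CategoryTheory.Limits AlgebraicGeometry TopologicalSpace Opposite

namespace Groth.Agent.EtAlgEasy.PrinPartRows

variable {X S : Scheme.{u}} (f : X ⟶ S)

theorem isIso_toNbhd_zero : IsIso (PrinPart.toNbhd f 0) := by
  have hle : (PrinPart.diagCl f).ker ^ (0 + 1) = (PrinPart.diagCl f).ker := pow_one _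
  haveI : IsIso (Scheme.IdealSheafData.inclusion (PrinPart.ker_pow_succ_le (PrinPart.diagCl f) 0)) := by
    generalize PrinPart.ker_pow_succ_le (PrinPart.diagCl f) 0 = h
    revert h
    rw [hle]
    intro h
    rw [Scheme.IdealSheafData.inclusion_id]
    infer_instance
  unfold PrinPart.toNbhd PrinPart.toInfNbhd
  infer_instance

theorem pr_zero : PrinPart.pr2 f 0 = PrinPart.pr1 f 0 := by
  haveI := isIso_toNbhd_zero f
  rw [← cancel_epi (PrinPart.toNbhd f 0), PrinPart.toNbhd_pr1, PrinPart.toNbhd_pr2]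

theorem dP_zero_smul (F : X.Modules) (U : X.Opens) (a : Γ(X, U)) (t : Γ(F, U)) :
    PrinPart.dP f 0 F U (a • t) = a • PrinPart.dP f 0 F U t := by
  rw [PrinPart.dP_apply, PrinPart.dP_apply]
  have h1 : OmegaSh.pullSect (PrinPart.pr2 f 0) F U (a • t) =
      (PrinPart.pr2 f 0).app U a • OmegaSh.pullSect (PrinPart.pr2 f 0) F U t :=
    Scheme.Modules.Hom.app_smul ((Scheme.Modules.pullbackPushforwardAdjunction (PrinPart.pr2 f 0)).unit.app F) a t
  rw [h1, Scheme.Modules.map_smul]
  have h2 : (PrinPart.nbhd f 0).presheaf.map (homOfLE (PrinPart.preimage_pr1 f 0 U).le).op ((PrinPart.pr2 f 0).app U a) =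
      (PrinPart.pr1 f 0).app U a := by
    have key : ∀ (p q : PrinPart.nbhd f 0 ⟶ X) (hpq : q = p) (h : p ⁻¹ᵁ U ≤ q ⁻¹ᵁ U),
        (PrinPart.nbhd f 0).presheaf.map (homOfLE h).op (q.app U a) = p.app U a := by
      intro p q hpq h
      subst hpq
      rw [show (homOfLE h).op = 𝟙 _ from rfl, CategoryTheory.Functor.map_id]
      rfl
    exact key _ _ (pr_zero f) _
  rw [h2]
  rfl

/-- `d^0` as a linear map. -/
noncomputable def d0 (F : X.Modules) : F ⟶ PrinPart.PMod f 0 F where
  val := PresheafOfModules.homMk (PrinPart.dPHom f 0 F) fun U r m => dP_zero_smul f F U.unop r m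

theorem isDiffOpLE_zero_iff (hbij : ∀ (F : X.Modules) (U : X.Opens), Function.Bijective (PrinPart.dP f 0 F U))
    (F G : X.Modules) (D : F.presheaf ⟶ G.presheaf) :
    PrinPart.IsDiffOpLE f F G 0 D ↔
      ∀ (U : X.Opens) (a : Γ(X, U)) (t : Γ(F, U)), D.app (op U) (a • t) = a • D.app (op U) t := by
  constructor
  · rintro ⟨v, hv⟩ U a t
    rw [hv U (a • t), hv U t, dP_zero_smul, Scheme.Modules.Hom.app_smul]
  · intro h
    haveI : IsIso (d0 f F) := Scheme.Modules.Hom.isIso_iff_isIso_app.2 fun U =>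
      (ConcreteCategory.isIso_iff_bijective _).2 (hbij F U)
    let D' : F ⟶ G := { val := PresheafOfModules.homMk D fun U r m => h U.unop r m }
    refine ⟨inv (d0 f F) ≫ D', fun U t => ?_⟩
    have h1 : (inv (d0 f F)).app U (PrinPart.dP f 0 F U t) = t := by
      show (inv (d0 f F)).app U ((d0 f F).app U t) = t
      rw [← ConcreteCategory.comp_apply, ← Scheme.Modules.Hom.comp_app, IsIso.hom_inv_id]
      rfl
    show _ = D'.app U ((inv (d0 f F)).app U (PrinPart.dP f 0 F U t))
    rw [h1]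
    rfl

theorem dn_eq_dP (n : ℕ) (U : X.Opens) (t : Γ(Coh.structureModule X, U)) :
    PrinPart.dP f n (Coh.structureModule X) U t = PrinPart.dn f n U (OmegaSh.fnSect X U t) := rfl

/-- A compatible map from the principal parts along a closed immersion is epi. -/
theorem epi_of_isPMap {X' S' : Scheme.{u}} (f' : X' ⟶ S') (j : X' ⟶ X) [IsPreimmersion j] (n : ℕ)
    (φ : (Scheme.Modules.pullback j).obj (PrinPart.P f n) ⟶ PrinPart.P f' n)
    (hφ : PrinPart.IsPMap f f' j n φ) : Epi φ := by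
  refine ⟨fun {G} a b hab => PrinPartGen.hom_ext f' n a b fun V t => ?_⟩
  refine TopCat.Presheaf.section_ext ⟨G.presheaf, G.isSheaf⟩ V _ _ fun x hx => ?_
  obtain ⟨s, hs⟩ := j.stalkMap_surjective x (X'.presheaf.germ V x hx (OmegaSh.fnSect X' V t))
  obtain ⟨U, hU, b', rfl⟩ := TopCat.Presheaf.exists_germ_eq X.presheaf s
  rw [Scheme.Hom.germ_stalkMap_apply] at hs
  obtain ⟨W, hxW, i1, i2, hW⟩ := X'.presheaf.germ_eq x hU hx _ _ hs
  have key : ∀ c : PrinPart.P f' n ⟶ G,
      G.presheaf.germ V x hx (c.app V (PrinPart.dP f' n _ V t)) =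
        G.presheaf.germ (j ⁻¹ᵁ U) x hU ((φ ≫ c).app (j ⁻¹ᵁ U) (OmegaSh.pullSect j (PrinPart.P f n) U (PrinPart.dn f n U b'))) := by
    intro c
    rw [← G.presheaf.germ_res_apply i2 x hxW, ← G.presheaf.germ_res_apply i1 x hxW]
    congr 1
    show _ = G.presheaf.map i1.op (c.app (j ⁻¹ᵁ U) (φ.app (j ⁻¹ᵁ U) _))
    rw [hφ U b']
    have n1 := ConcreteCategory.congr_hom (c.mapPresheaf.naturality i2.op) (PrinPart.dP f' n _ V t)
    have n2 := ConcreteCategory.congr_hom (c.mapPresheaf.naturality i1.op) (PrinPart.dn f' n (j ⁻¹ᵁ U) (j.app U b'))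
    simp only [ConcreteCategory.comp_apply] at n1 n2
    refine n1.symm.trans (Eq.trans (congrArg (c.app W) ?_) n2)
    refine (PrinPart.dP_map f' n (Coh.structureModule X') i2.le t).symm.trans
      (Eq.trans ?_ (PrinPart.dP_map f' n (Coh.structureModule X') i1.le (OmegaSh.strSect X' (j ⁻¹ᵁ U) (j.app U b'))))
    exact congrArg (PrinPart.dP f' n (Coh.structureModule X') W) hW.symm
  show G.presheaf.germ V x hx (a.app V (PrinPart.dP f' n _ V t)) = G.presheaf.germ V x hx (b.app V (PrinPart.dP f' n _ V t))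
  rw [key a, key b, hab]

end Groth.Agent.EtAlgEasy.PrinPartRows
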