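import Groth.Agent.EtAlgEasy.PrinPartOrdOne
import Groth.Agent.OmegaUnivLib.Univ
import Mathlib

/-!
`P^1 = O ⊕ Ω`.
-/

set_option autoImplicit false
set_option backward.isDefEq.respectTransparency false

universe u

open CategoryTheory CategoryTheory.Limits AlgebraicGeometry TopologicalSpace Opposite

namespace Groth.Agent.EtAlgEasy.PrinPartSplit

open PrinPartOp PrinPartComp PrinPartOrdOne

variable {X S : Scheme.{u}} (f : X ⟶ S)

theorem sum_two {B M N : Type u} [CommRing B] [AddCommGroup M] [Module B M] [AddCommGroup N] [Module B N]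
    (D : M → N) (a : Fin 2 → B) (t : M) :
    ∑ H : Finset (Fin 2), ((-1 : ℤ) ^ H.card) • ((∏ i ∈ H, a i) • D ((∏ i ∈ Hᶜ, a i) • t)) =
      D ((a 0 * a 1) • t) - a 0 • D (a 1 • t) - a 1 • D (a 0 • t) + (a 0 * a 1) • D t := by
  have e : (Finset.univ : Finset (Finset (Fin 2))) = {∅, {0}, {1}, {0, 1}} := by decide
  rw [e, Finset.sum_insert (by decide), Finset.sum_insert (by decide), Finset.sum_insert (by decide),
    Finset.sum_singleton]
  have c0 : (∅ : Finset (Fin 2))ᶜ = {0, 1} := by decide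
  have c1 : ({0} : Finset (Fin 2))ᶜ = {1} := by decide
  have c2 : ({1} : Finset (Fin 2))ᶜ = {0} := by decide
  have c3 : ({0, 1} : Finset (Fin 2))ᶜ = ∅ := by decide
  simp only [c0, c1, c2, c3, Finset.prod_empty, Finset.prod_singleton, Finset.prod_pair (by decide : (0 : Fin 2) ≠ 1),
    Finset.card_empty, Finset.card_singleton, Finset.card_pair (by decide : (0 : Fin 2) ≠ 1), one_smul, pow_zero,
    pow_one, neg_smul, neg_sq, one_pow]
  abel

variable [QuasiSeparated f]

/-- `a ↦ (a, d a)`. -/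
noncomputable def splitD : (Coh.structureModule X).presheaf ⟶ (Coh.structureModule X ⨿ Omega.sheaf f).presheaf :=
  (coprod.inl : Coh.structureModule X ⟶ Coh.structureModule X ⨿ Omega.sheaf f).mapPresheaf +
    { app := fun U => AddCommGrpCat.ofHom
        (((coprod.inr : Omega.sheaf f ⟶ Coh.structureModule X ⨿ Omega.sheaf f).app U.unop).hom.comp
          (((OmegaSh.dOmega f).app U.unop).comp (OmegaSh.fnSect X U.unop)))
      naturality := fun U V i => AddCommGrpCat.hom_ext (AddMonoidHom.ext fun a => by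
        show (coprod.inr : Omega.sheaf f ⟶ Coh.structureModule X ⨿ Omega.sheaf f).app V.unop
            ((OmegaSh.dOmega f).app V.unop (X.presheaf.map i.unop.op (OmegaSh.fnSect X U.unop a))) =
          (Coh.structureModule X ⨿ Omega.sheaf f).presheaf.map i.unop.op
            ((coprod.inr : Omega.sheaf f ⟶ Coh.structureModule X ⨿ Omega.sheaf f).app U.unop
              ((OmegaSh.dOmega f).app U.unop (OmegaSh.fnSect X U.unop a)))
        rw [OmegaUnivLib.app_res, OmegaUnivLib.hom_natural]) }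

theorem splitD_apply (U : X.Opens) (a : Γ(X, U)) :
    (splitD f).app (op U) (OmegaSh.strSect X U a) =
      (coprod.inl : Coh.structureModule X ⟶ Coh.structureModule X ⨿ Omega.sheaf f).app U (OmegaSh.strSect X U a) +
      (coprod.inr : Omega.sheaf f ⟶ Coh.structureModule X ⨿ Omega.sheaf f).app U ((OmegaSh.dOmega f).app U a) := rfl

theorem isDiffOp_splitD :
    PrinPart.IsDiffOpLE f (Coh.structureModule X) (Coh.structureModule X ⨿ Omega.sheaf f) 1 (splitD f) := by
  set ι₁ : Coh.structureModule X ⟶ Coh.structureModule X ⨿ Omega.sheaf f := coprod.inl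
  set ι₂ : Omega.sheaf f ⟶ Coh.structureModule X ⨿ Omega.sheaf f := coprod.inr
  refine isDiffOpLE_of_sum f _ _ 1 _ (fun V s U hU t => ?_) fun U a t => ?_
  · obtain ⟨t, rfl⟩ : ∃ t', OmegaSh.strSect X U t' = t := ⟨OmegaSh.fnSect X U t, rfl⟩
    rw [strSect_smul, splitD_apply, splitD_apply, smul_add, ← Scheme.Modules.Hom.app_smul, ← Scheme.Modules.Hom.app_smul,
      strSect_smul, OmegaUnivLib.app_mul, show (X.presheaf.map (homOfLE hU).op (f.app V s)) = f.appLE V U hU s from rfl]
    rw [OmegaUnivLib.app_appLE, smul_zero, add_zero]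
  · obtain ⟨t, rfl⟩ : ∃ t', OmegaSh.strSect X U t' = t := ⟨OmegaSh.fnSect X U t, rfl⟩
    refine (sum_two (fun m => (splitD f).app (op U) m) a (OmegaSh.strSect X U t)).trans ?_
    simp only [strSect_smul, splitD_apply, smul_add, ← Scheme.Modules.Hom.app_smul]
    rw [show a 0 * (a 1 * t) = (a 0 * a 1) * t by ring, show a 1 * (a 0 * t) = (a 0 * a 1) * t by ring]
    simp only [OmegaUnivLib.app_mul, smul_add, smul_smul, map_add]
    rw [show t * a 0 = a 0 * t by ring, show t * a 1 = a 1 * t by ring, show a 1 * a 0 = a 0 * a 1 by ring]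
    abel

theorem isIso_desc (e : Coh.structureModule X ⟶ PrinPart.P f 1)
    (he : ∀ (U : X.Opens) (s : Γ(X, U)), e.app U (OmegaSh.strSect X U s) = s • PrinPart.dn f 1 U 1)
    (ι : Omega.sheaf f ⟶ PrinPart.P f 1)
    (hι : ∀ (U : X.Opens) (s : Γ(X, U)),
      ι.app U ((OmegaSh.dOmega f).app U s) = PrinPart.dn f 1 U s - s • PrinPart.dn f 1 U 1) :
    IsIso (coprod.desc e ι) := by
  obtain ⟨u, hu⟩ := isDiffOp_splitD f
  have hu' : ∀ (U : X.Opens) (s : Γ(X, U)), u.app U (PrinPart.dn f 1 U s) =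
      (coprod.inl : Coh.structureModule X ⟶ Coh.structureModule X ⨿ Omega.sheaf f).app U (OmegaSh.strSect X U s) +
      (coprod.inr : Omega.sheaf f ⟶ Coh.structureModule X ⨿ Omega.sheaf f).app U ((OmegaSh.dOmega f).app U s) :=
    fun U s => (hu U (OmegaSh.strSect X U s)).symm
  have hu1 : ∀ (U : X.Opens) (s : Γ(X, U)), s • u.app U (PrinPart.dn f 1 U 1) =
      (coprod.inl : Coh.structureModule X ⟶ Coh.structureModule X ⨿ Omega.sheaf f).app U (OmegaSh.strSect X U s) := by
    intro U s
    rw [hu', OmegaUnivLib.app_one, map_zero, add_zero, ← Scheme.Modules.Hom.app_smul, strSect_smul, mul_one]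
  refine ⟨u, ?_, ?_⟩
  · refine coprod.hom_ext ?_ ?_
    · rw [coprod.inl_desc_assoc, Category.comp_id]
      refine Scheme.Modules.hom_ext _ _ fun U => AddCommGrpCat.hom_ext (AddMonoidHom.ext fun a => ?_)
      show u.app U (e.app U (OmegaSh.strSect X U (OmegaSh.fnSect X U a))) = _
      rw [he, Scheme.Modules.Hom.app_smul, hu1]
      rfl
    · rw [coprod.inr_desc_assoc, Category.comp_id]
      refine (OmegaUnivLib.isUniversal_dOmega f _ (OmegaUnivLib.comp (OmegaSh.dOmega f) coprod.inr)).unique ?_ rfl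
      refine OmegaUnivLib.der_ext fun U s => ?_
      show u.app U (ι.app U ((OmegaSh.dOmega f).app U s)) =
        (coprod.inr : Omega.sheaf f ⟶ Coh.structureModule X ⨿ Omega.sheaf f).app U ((OmegaSh.dOmega f).app U s)
      rw [hι, map_sub, Scheme.Modules.Hom.app_smul, hu1, hu', add_sub_cancel_left]
  · refine PrinPartGen.hom_ext f 1 _ _ fun U t => ?_
    show (coprod.desc e ι).app U (u.app U (PrinPart.dn f 1 U (OmegaSh.fnSect X U t))) = _
    rw [hu', map_add]
    have h1 : ∀ (Z : X.Modules) (φ : Z ⟶ Coh.structureModule X ⨿ Omega.sheaf f) (z : Γ(Z, U)),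
        (coprod.desc e ι).app U (φ.app U z) = (φ ≫ coprod.desc e ι).app U z := fun _ _ _ => rfl
    rw [h1, h1, coprod.inl_desc, coprod.inr_desc, he, hι, add_sub_cancel]
    rfl

end Groth.Agent.EtAlgEasy.PrinPartSplit
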