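import Groth.Agent.EtAlgEasy.PrinPartGen
import Groth.Agent.EtAlgEasy.PrinPartSym
import Groth.Agent.IdealStalkLib.Comap
import Groth.Prelude.Def_IntMult
import Mathlib

/-!
The stalks of the infinitesimal neighbourhoods of the diagonal:
`O_{N, Δx} = (O_x ⊗_{O_s} O_x) / J^(n+1)`.
-/

set_option autoImplicit false
set_option backward.isDefEq.respectTransparency false

universe u

open CategoryTheory CategoryTheory.Limits AlgebraicGeometry TopologicalSpace Opposite
open scoped TensorProduct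

namespace Groth.Agent.EtAlgEasy.PrinPartStalk

variable {X S : Scheme.{u}} (f : X ⟶ S) (n : ℕ)

/-- A preimage formula for the projections. -/
theorem pr1_toNbhd_apply (x : X) : PrinPart.pr1 f n (PrinPart.toNbhd f n x) = x := by
  rw [← Scheme.Hom.comp_apply, PrinPart.toNbhd_pr1]; rfl

theorem pr2_toNbhd_apply (x : X) : PrinPart.pr2 f n (PrinPart.toNbhd f n x) = x := by
  rw [← Scheme.Hom.comp_apply, PrinPart.toNbhd_pr2]; rfl

/-- The left structure map on stalks. -/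
noncomputable def σ₁ (x : X) : X.presheaf.stalk x ⟶ (PrinPart.nbhd f n).presheaf.stalk (PrinPart.toNbhd f n x) :=
  X.presheaf.stalkSpecializes (specializes_of_eq (pr1_toNbhd_apply f n x)) ≫
    (PrinPart.pr1 f n).stalkMap (PrinPart.toNbhd f n x)

/-- The right structure map on stalks. -/
noncomputable def σ₂ (x : X) : X.presheaf.stalk x ⟶ (PrinPart.nbhd f n).presheaf.stalk (PrinPart.toNbhd f n x) :=
  X.presheaf.stalkSpecializes (specializes_of_eq (pr2_toNbhd_apply f n x)) ≫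
    (PrinPart.pr2 f n).stalkMap (PrinPart.toNbhd f n x)

/-- The augmentation on stalks. -/
noncomputable def aug (x : X) : (PrinPart.nbhd f n).presheaf.stalk (PrinPart.toNbhd f n x) ⟶ X.presheaf.stalk x :=
  (PrinPart.toNbhd f n).stalkMap x

theorem mem_pr1_preimage {x : X} {U : X.Opens} (hx : x ∈ U) :
    PrinPart.toNbhd f n x ∈ PrinPart.pr1 f n ⁻¹ᵁ U := by
  show PrinPart.pr1 f n (PrinPart.toNbhd f n x) ∈ U
  rw [pr1_toNbhd_apply]; exact hx

theorem mem_pr2_preimage {x : X} {U : X.Opens} (hx : x ∈ U) :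
    PrinPart.toNbhd f n x ∈ PrinPart.pr2 f n ⁻¹ᵁ U := by
  show PrinPart.pr2 f n (PrinPart.toNbhd f n x) ∈ U
  rw [pr2_toNbhd_apply]; exact hx

theorem σ₁_germ {x : X} (U : X.Opens) (hx : x ∈ U) (a : Γ(X, U)) :
    σ₁ f n x (X.presheaf.germ U x hx a) = (PrinPart.nbhd f n).presheaf.germ (PrinPart.pr1 f n ⁻¹ᵁ U)
      (PrinPart.toNbhd f n x) (mem_pr1_preimage f n hx) ((PrinPart.pr1 f n).app U a) := by
  rw [σ₁, CommRingCat.comp_apply, TopCat.Presheaf.germ_stalkSpecializes_apply]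
  exact Scheme.Hom.germ_stalkMap_apply _ U _ _ a

theorem σ₂_germ {x : X} (U : X.Opens) (hx : x ∈ U) (a : Γ(X, U)) :
    σ₂ f n x (X.presheaf.germ U x hx a) = (PrinPart.nbhd f n).presheaf.germ (PrinPart.pr2 f n ⁻¹ᵁ U)
      (PrinPart.toNbhd f n x) (mem_pr2_preimage f n hx) ((PrinPart.pr2 f n).app U a) := by
  rw [σ₂, CommRingCat.comp_apply, TopCat.Presheaf.germ_stalkSpecializes_apply]
  exact Scheme.Hom.germ_stalkMap_apply _ U _ _ a

theorem comp_app_eq_of_eq_id {Z : Scheme.{u}} {τ : X ⟶ Z} {p : Z ⟶ X} (h : τ ≫ p = 𝟙 X) {x : X} {U : X.Opens}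
    (hx : x ∈ U) (hx' : x ∈ (τ ≫ p) ⁻¹ᵁ U) (a : Γ(X, U)) :
    X.presheaf.germ ((τ ≫ p) ⁻¹ᵁ U) x hx' ((τ ≫ p).app U a) = X.presheaf.germ U x hx a := by
  generalize hq : τ ≫ p = q at hx'
  rw [h] at hq
  subst hq
  rfl

theorem aug_σ₁ {x : X} (a : X.presheaf.stalk x) : aug f n x (σ₁ f n x a) = a := by
  obtain ⟨U, hx, a, rfl⟩ := TopCat.Presheaf.exists_germ_eq X.presheaf a
  rw [σ₁_germ]
  refine (Scheme.Hom.germ_stalkMap_apply (PrinPart.toNbhd f n) _ x _ _).trans ?_
  exact comp_app_eq_of_eq_id (PrinPart.toNbhd_pr1 f n) hx (mem_pr1_preimage f n hx) a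

theorem aug_σ₂ {x : X} (a : X.presheaf.stalk x) : aug f n x (σ₂ f n x a) = a := by
  obtain ⟨U, hx, a, rfl⟩ := TopCat.Presheaf.exists_germ_eq X.presheaf a
  rw [σ₂_germ]
  refine (Scheme.Hom.germ_stalkMap_apply (PrinPart.toNbhd f n) _ x _ _).trans ?_
  exact comp_app_eq_of_eq_id (PrinPart.toNbhd_pr2 f n) hx (mem_pr2_preimage f n hx) a

theorem ker_toNbhd_pow : (PrinPart.toNbhd f n).ker ^ (n + 1) = ⊥ := by
  let i := PrinPart.diagCl f
  let ι := PrinPart.infNbhdι i n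
  let τ := PrinPart.toNbhd f n
  haveI : IsClosedImmersion ι := by
    show IsClosedImmersion (i.ker ^ (n + 1)).subschemeι
    infer_instance
  have hi : τ ≫ ι = i := PrinPart.toInfNbhd_ι i n
  have sq : IsPullback τ (𝟙 X) ι i :=
    ⟨⟨by rw [hi, Category.id_comp]⟩, ⟨PullbackCone.IsLimit.mk _ (fun s => s.snd) (fun s => by
        rw [← cancel_mono ι, Category.assoc, hi]; exact s.condition.symm) (fun s => Category.comp_id _)
      (fun s m _ h2 => by simpa using h2)⟩⟩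
  have hker : τ.ker = i.ker.comap ι := by
    rw [← sq.isoPullback_hom_fst, Scheme.Hom.ker_comp_of_isIso, Scheme.IdealSheafData.ker_fst_of_isClosedImmersion]
  show τ.ker ^ (n + 1) = ⊥
  rw [hker, ← PrinPartSym.comap_pow, eq_bot_iff]
  have hb : (i.ker ^ (n + 1)) = ι.ker := (Scheme.IdealSheafData.ker_subschemeι _).symm
  rw [hb, ← Scheme.IdealSheafData.le_map_iff_comap_le, Scheme.IdealSheafData.map_bot]

theorem ker_aug_le (x : X) : RingHom.ker (aug f n x).hom ≤
    IntMult.stalkIdeal (PrinPart.toNbhd f n).ker (PrinPart.toNbhd f n x) := by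
  intro e he
  let τ := PrinPart.toNbhd f n
  haveI : QuasiCompact τ := by
    show QuasiCompact (PrinPart.toInfNbhd _ _)
    unfold PrinPart.toInfNbhd
    infer_instance
  obtain ⟨U, hxU, h, rfl⟩ := TopCat.Presheaf.exists_germ_eq _ e
  have he' : τ.stalkMap x ((PrinPart.nbhd f n).presheaf.germ U (τ x) hxU h) = 0 := he
  rw [Scheme.Hom.germ_stalkMap_apply] at he'
  obtain ⟨O, hxO, i1, i2, hO⟩ := X.presheaf.germ_eq (U := τ ⁻¹ᵁ U) (V := τ ⁻¹ᵁ U) x hxU hxU (τ.app U h) 0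
    (he'.trans (map_zero _).symm)
  obtain ⟨U'', hU'', hpre⟩ := (PrinPartGen.isInducing_toNbhd f n).isOpen_iff.1 O.2
  have hxU'' : τ x ∈ U'' := by
    have : x ∈ ⇑τ ⁻¹' U'' := by rw [hpre]; exact hxO
    exact this
  obtain ⟨_, ⟨W, hW, rfl⟩, hxW, hWle⟩ := (PrinPart.nbhd f n).isBasis_affineOpens.exists_subset_of_mem_open
    (a := τ x) (u := (U : Set _) ∩ U'') ⟨hxU, hxU''⟩ (U.2.inter hU'')
  have hWU : W ≤ U := fun y hy => (hWle hy).1
  have hWO : τ ⁻¹ᵁ W ≤ O := fun y hy => by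
    have : y ∈ ⇑τ ⁻¹' U'' := (hWle hy).2
    rw [hpre] at this
    exact this
  rw [← (PrinPart.nbhd f n).presheaf.germ_res_apply (homOfLE hWU) (τ x) hxW h,
    IdealStalkLib.stalkIdeal_eq _ ⟨W, hW⟩ _ hxW]
  refine Ideal.mem_map_of_mem _ ?_
  rw [Scheme.Hom.ker_apply]
  show τ.app W ((PrinPart.nbhd f n).presheaf.map (homOfLE hWU).op h) = 0
  have h1 := ConcreteCategory.congr_hom (τ.naturality (homOfLE hWU).op) h
  simp only [CommRingCat.comp_apply] at h1
  refine h1.trans ?_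
  have h2 := congrArg (X.presheaf.map (homOfLE hWO).op) hO
  rw [map_zero, map_zero, ← CommRingCat.comp_apply, ← Functor.map_comp] at h2
  exact h2

theorem ker_aug_pow (x : X) : RingHom.ker (aug f n x).hom ^ (n + 1) = ⊥ := by
  rw [eq_bot_iff]
  refine (Ideal.pow_right_mono (ker_aug_le f n x) _).trans ?_
  obtain ⟨_, ⟨W, hW, rfl⟩, hxW, -⟩ := (PrinPart.nbhd f n).isBasis_affineOpens.exists_subset_of_mem_open
    (Set.mem_univ (PrinPart.toNbhd f n x)) isOpen_univ
  have e : ((PrinPart.toNbhd f n).ker ^ (n + 1)).ideal ⟨W, hW⟩ =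
      (PrinPart.toNbhd f n).ker.ideal ⟨W, hW⟩ ^ (n + 1) := by
    rw [Scheme.IdealSheafData.ideal_pow, Pi.pow_apply]
  rw [IdealStalkLib.stalkIdeal_eq _ ⟨W, hW⟩ _ hxW, ← Ideal.map_pow, ← e, ker_toNbhd_pow]
  simp

/-- `O_x` as an algebra over `O_{f x}`. -/
noncomputable abbrev algStalk (x : X) : Algebra (S.presheaf.stalk (f x)) (X.presheaf.stalk x) :=
  (f.stalkMap x).hom.toAlgebra

/-- `O_x ⊗ O_x`. -/
noncomputable abbrev T (x : X) : Type u :=
  letI := algStalk f x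
  X.presheaf.stalk x ⊗[S.presheaf.stalk (f x)] X.presheaf.stalk x

theorem σ_agree (x : X) (r : S.presheaf.stalk (f x)) :
    σ₁ f n x (f.stalkMap x r) = σ₂ f n x (f.stalkMap x r) := by
  obtain ⟨V, hV, r, rfl⟩ := TopCat.Presheaf.exists_germ_eq S.presheaf r
  rw [Scheme.Hom.germ_stalkMap_apply, σ₁_germ, σ₂_germ]
  show (PrinPart.nbhd f n).presheaf.germ ((PrinPart.pr1 f n ≫ f) ⁻¹ᵁ V) _ _ ((PrinPart.pr1 f n ≫ f).app V r) =
    (PrinPart.nbhd f n).presheaf.germ ((PrinPart.pr2 f n ≫ f) ⁻¹ᵁ V) _ _ ((PrinPart.pr2 f n ≫ f).app V r)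
  have key : ∀ (p q : PrinPart.nbhd f n ⟶ S) (h : p = q) (z : PrinPart.nbhd f n) (hp : z ∈ p ⁻¹ᵁ V) (hq : z ∈ q ⁻¹ᵁ V),
      (PrinPart.nbhd f n).presheaf.germ (p ⁻¹ᵁ V) z hp (p.app V r) =
        (PrinPart.nbhd f n).presheaf.germ (q ⁻¹ᵁ V) z hq (q.app V r) := by
    intro p q h z hp hq; subst h; rfl
  exact key _ _ (PrinPart.pr1_comp f n) _ _ _

/-- The map `O_x ⊗ O_x → O_{N, Δx}`. -/
noncomputable def θ₀ (x : X) : T f x →+* (PrinPart.nbhd f n).presheaf.stalk (PrinPart.toNbhd f n x) :=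
  letI := algStalk f x
  letI : Algebra (S.presheaf.stalk (f x)) ((PrinPart.nbhd f n).presheaf.stalk (PrinPart.toNbhd f n x)) :=
    (f.stalkMap x ≫ σ₁ f n x).hom.toAlgebra
  let l₁ : X.presheaf.stalk x →ₐ[S.presheaf.stalk (f x)] (PrinPart.nbhd f n).presheaf.stalk (PrinPart.toNbhd f n x) :=
    { toRingHom := (σ₁ f n x).hom, commutes' := fun _ => rfl }
  let l₂ : X.presheaf.stalk x →ₐ[S.presheaf.stalk (f x)] (PrinPart.nbhd f n).presheaf.stalk (PrinPart.toNbhd f n x) :=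
    { toRingHom := (σ₂ f n x).hom, commutes' := fun r => (σ_agree f n x r).symm }
  (Algebra.TensorProduct.lift l₁ l₂ (fun _ _ => Commute.all _ _)).toRingHom

theorem θ₀_tmul (x : X) (a b : X.presheaf.stalk x) :
    letI := algStalk f x
    θ₀ f n x (a ⊗ₜ[S.presheaf.stalk (f x)] b) = σ₁ f n x a * σ₂ f n x b :=
  letI := algStalk f x
  letI : Algebra (S.presheaf.stalk (f x)) ((PrinPart.nbhd f n).presheaf.stalk (PrinPart.toNbhd f n x)) :=
    (f.stalkMap x ≫ σ₁ f n x).hom.toAlgebra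
  by
    show Algebra.TensorProduct.lift (S := S.presheaf.stalk (f x)) _ _ _ (a ⊗ₜ[S.presheaf.stalk (f x)] b) = _
    rw [Algebra.TensorProduct.lift_tmul]
    rfl

theorem θ₀_surjective (x : X) : Function.Surjective (θ₀ f n x) := by
  letI := algStalk f x
  intro q
  suffices h : PrinPartGen.R0 f n (PrinPart.toNbhd f n x) ≤ (θ₀ f n x).range from h (by rw [PrinPartGen.R0_eq_top]; trivial)
  refine Subring.closure_le.2 ?_
  rintro _ (⟨a, rfl⟩ | ⟨a, rfl⟩)
  · obtain ⟨U, hU, a, rfl⟩ := TopCat.Presheaf.exists_germ_eq X.presheaf a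
    have hU' : x ∈ U := pr1_toNbhd_apply f n x ▸ hU
    refine ⟨X.presheaf.germ U x hU' a ⊗ₜ 1, ?_⟩
    rw [θ₀_tmul, map_one, mul_one, σ₁_germ, Scheme.Hom.germ_stalkMap_apply]
  · obtain ⟨U, hU, a, rfl⟩ := TopCat.Presheaf.exists_germ_eq X.presheaf a
    have hU' : x ∈ U := pr2_toNbhd_apply f n x ▸ hU
    refine ⟨1 ⊗ₜ X.presheaf.germ U x hU' a, ?_⟩
    rw [θ₀_tmul, map_one, one_mul, σ₂_germ, Scheme.Hom.germ_stalkMap_apply]

/-- Evaluation at the closed point of a morphism from the spectrum of a local ring. -/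
theorem germ_closedPointTo_of_eq {Q : CommRingCat.{u}} [IsLocalRing Q] {x : X} (φ : X.presheaf.stalk x ⟶ Q)
    [IsLocalHom φ.hom] (g : Spec Q ⟶ X) (hg : g = Spec.map φ ≫ X.fromSpecStalk x) (U : X.Opens)
    (hx : x ∈ U) (hU : g (IsLocalRing.closedPoint Q) ∈ U) (a : Γ(X, U)) :
    Scheme.stalkClosedPointTo g (X.presheaf.germ U _ hU a) = φ (X.presheaf.germ U x hx a) := by
  subst hg
  exact ConcreteCategory.congr_hom (Scheme.germ_stalkClosedPointTo_Spec_fromSpecStalk φ U hU) a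

theorem ker_Spec_map_pow {Q A : Type u} [CommRing Q] [CommRing A] (π : Q →+* A) (hπ : Function.Surjective π)
    (hkpow : RingHom.ker π ^ (n + 1) = ⊥) :
    (Spec.map (CommRingCat.ofHom π)).ker ^ (n + 1) = ⊥ := by
  haveI : IsClosedImmersion (Spec.map (CommRingCat.ofHom π)) := IsClosedImmersion.spec_of_surjective _ hπ
  let πc : CommRingCat.of Q ⟶ CommRingCat.of A := CommRingCat.ofHom π
  show (Spec.map πc).ker ^ (n + 1) = ⊥
  refine Scheme.IdealSheafData.ext_of_isAffine ?_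
  rw [Scheme.IdealSheafData.ideal_pow, Scheme.IdealSheafData.ideal_bot, Pi.pow_apply, Pi.bot_apply,
    Scheme.Hom.ker_apply, eq_bot_iff]
  have hnat := Scheme.ΓSpecIso_naturality πc
  intro t ht
  rw [Ideal.mem_bot]
  have hmap : (RingHom.ker ((Spec.map πc).app ⊤).hom).map (Scheme.ΓSpecIso (CommRingCat.of Q)).hom.hom ≤ RingHom.ker π := by
    refine Ideal.map_le_iff_le_comap.2 fun s hs => ?_
    rw [Ideal.mem_comap, RingHom.mem_ker]
    have := ConcreteCategory.congr_hom hnat s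
    simp only [CommRingCat.comp_apply] at this
    refine this.symm.trans ?_
    show (Scheme.ΓSpecIso (CommRingCat.of A)).hom ((Spec.map πc).appTop s) = 0
    rw [show (Spec.map πc).appTop s = 0 from hs, map_zero]
  have h3 := Ideal.mem_map_of_mem (Scheme.ΓSpecIso (CommRingCat.of Q)).hom.hom ht
  rw [Ideal.map_pow] at h3
  have h4 := Ideal.pow_right_mono hmap _ h3
  rw [hkpow, Ideal.mem_bot] at h4
  exact (ConcreteCategory.bijective_of_isIso (Scheme.ΓSpecIso (CommRingCat.of Q)).hom).1 (h4.trans (map_zero _).symm)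

/-- The universal property: a thickening of order `n` of `O_x` with two sections receives the stalk. -/
theorem exists_ψ (x : X) (Q : Type u) [CommRing Q] [IsLocalRing Q] (π : Q →+* X.presheaf.stalk x)
    (hπ : Function.Surjective π) (hkpow : RingHom.ker π ^ (n + 1) = ⊥) (hunit : ∀ t, IsUnit (π t) → IsUnit t)
    (φ₁ φ₂ : X.presheaf.stalk x ⟶ CommRingCat.of Q) [IsLocalHom φ₁.hom] [IsLocalHom φ₂.hom]
    (hφπ₁ : φ₁ ≫ CommRingCat.ofHom π = 𝟙 (X.presheaf.stalk x))
    (hφπ₂ : φ₂ ≫ CommRingCat.ofHom π = 𝟙 (X.presheaf.stalk x))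
    (hcond : f.stalkMap x ≫ φ₁ = f.stalkMap x ≫ φ₂) :
    ∃ ψ : (PrinPart.nbhd f n).presheaf.stalk (PrinPart.toNbhd f n x) ⟶ CommRingCat.of Q,
      (∀ a, ψ (σ₁ f n x a) = φ₁ a) ∧ ∀ a, ψ (σ₂ f n x a) = φ₂ a := by
  let A := X.presheaf.stalk x
  let πc : CommRingCat.of Q ⟶ X.presheaf.stalk x := CommRingCat.ofHom π
  let h : Spec (CommRingCat.of Q) ⟶ pullback f f :=
    pullback.lift (Spec.map φ₁ ≫ X.fromSpecStalk x) (Spec.map φ₂ ≫ X.fromSpecStalk x) (by
      rw [Category.assoc, Category.assoc, ← Scheme.SpecMap_stalkMap_fromSpecStalk, ← Category.assoc, ← Category.assoc,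
        ← Spec.map_comp, ← Spec.map_comp, hcond])
  have hπh : Spec.map πc ≫ h = X.fromSpecStalk x ≫ pullback.diagonal f := by
    apply pullback.hom_ext
    · simp only [h, Category.assoc, pullback.lift_fst, pullback.diagonal_fst, Category.comp_id]
      rw [← Category.assoc, ← Spec.map_comp, hφπ₁, Spec.map_id]
      exact Category.id_comp _
    · simp only [h, Category.assoc, pullback.lift_snd, pullback.diagonal_snd, Category.comp_id]
      rw [← Category.assoc, ← Spec.map_comp, hφπ₂, Spec.map_id]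
      exact Category.id_comp _
  let W := (pullback.diagonal f).coborderRange
  haveI : Surjective (Spec.map πc) := ⟨fun p => by
    have hk : RingHom.ker π ≤ p.asIdeal := fun t ht => p.isPrime.mem_of_pow_mem (n + 1) (by
      have : t ^ (n + 1) ∈ RingHom.ker π ^ (n + 1) := Ideal.pow_mem_pow ht _
      rw [hkpow, Ideal.mem_bot] at this
      rw [this]
      exact p.asIdeal.zero_mem)
    have : p ∈ Set.range (PrimeSpectrum.comap π) := by
      rw [range_comap_of_surjective _ π hπ]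
      exact hk
    exact this⟩
  have hr : Set.range h ⊆ Set.range W.ι := by
    rintro _ ⟨p, rfl⟩
    obtain ⟨p, rfl⟩ := (Spec.map πc).surjective p
    rw [← Scheme.Hom.comp_apply, hπh, Scheme.Hom.comp_apply, ← Scheme.Hom.liftCoborder_ι (pullback.diagonal f),
      Scheme.Hom.comp_apply]
    exact ⟨_, rfl⟩
  let hW := IsOpenImmersion.lift W.ι h hr
  have hhW : hW ≫ W.ι = h := IsOpenImmersion.lift_fac _ _ hr
  have hπW : Spec.map πc ≫ hW = X.fromSpecStalk x ≫ PrinPart.diagCl f := by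
    rw [← cancel_mono W.ι, Category.assoc, hhW, hπh, Category.assoc, Scheme.Hom.liftCoborder_ι]
  let ι := PrinPart.infNbhdι (PrinPart.diagCl f) n
  haveI : IsClosedImmersion ι := by unfold ι PrinPart.infNbhdι; infer_instance
  haveI : IsClosedImmersion (Spec.map πc) := IsClosedImmersion.spec_of_surjective _ hπ
  have H : ι.ker ≤ hW.ker := by
    have h1 : (PrinPart.diagCl f).ker.comap hW ≤ (Spec.map πc).ker := by
      rw [← Scheme.IdealSheafData.le_map_iff_comap_le, ← Scheme.Hom.ker_comp, hπW]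
      exact (X.fromSpecStalk x).le_ker_comp _
    have h2 : (Spec.map πc).ker ^ (n + 1) = ⊥ := ker_Spec_map_pow n π hπ hkpow
    rw [show ι.ker = (PrinPart.diagCl f).ker ^ (n + 1) from Scheme.IdealSheafData.ker_subschemeι _]
    show _ ≤ hW.ker
    rw [← Scheme.IdealSheafData.map_bot (f := hW), Scheme.IdealSheafData.le_map_iff_comap_le, PrinPartSym.comap_pow, ← h2]
    exact pow_le_pow_left' h1 _
  let h' : Spec (CommRingCat.of Q) ⟶ PrinPart.nbhd f n := IsClosedImmersion.lift ι hW H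
  have hh' : h' ≫ PrinPart.nbhdι f n = h := by
    rw [PrinPart.nbhdι, ← Category.assoc, IsClosedImmersion.lift_fac, hhW]
  have hcp : h' (IsLocalRing.closedPoint Q) = PrinPart.toNbhd f n x := by
    have hx : Spec.map πc (IsLocalRing.closedPoint A) = IsLocalRing.closedPoint Q := by
      haveI : IsLocalHom π := ⟨hunit⟩
      exact IsLocalRing.comap_closedPoint π
    have e : Spec.map πc ≫ h' = X.fromSpecStalk x ≫ PrinPart.toNbhd f n := by
      haveI : Mono (PrinPart.nbhdι f n) := by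
        unfold PrinPart.nbhdι PrinPart.infNbhdι; infer_instance
      rw [← cancel_mono (PrinPart.nbhdι f n), Category.assoc, hh', hπh, Category.assoc, PrinPart.toNbhd_ι]
    rw [← hx, ← Scheme.Hom.comp_apply, e, Scheme.Hom.comp_apply, Scheme.fromSpecStalk_closedPoint]
  let ψ : (PrinPart.nbhd f n).presheaf.stalk (PrinPart.toNbhd f n x) ⟶ CommRingCat.of Q :=
    (PrinPart.nbhd f n).presheaf.stalkSpecializes (specializes_of_eq hcp) ≫ Scheme.stalkClosedPointTo h'
  have hψ1 : ∀ a, ψ (σ₁ f n x a) = φ₁ a := by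
    intro a
    obtain ⟨U, hU, a, rfl⟩ := TopCat.Presheaf.exists_germ_eq X.presheaf a
    rw [σ₁_germ]
    show Scheme.stalkClosedPointTo h' ((PrinPart.nbhd f n).presheaf.stalkSpecializes _ _) = _
    rw [TopCat.Presheaf.germ_stalkSpecializes_apply]
    have hg : h' ≫ PrinPart.pr1 f n = Spec.map φ₁ ≫ X.fromSpecStalk x := by
      rw [PrinPart.pr1, ← Category.assoc, hh']; exact pullback.lift_fst _ _ _
    have hmem : PrinPart.pr1 f n (h' (IsLocalRing.closedPoint Q)) ∈ U := by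
      rw [hcp, pr1_toNbhd_apply]; exact hU
    refine Eq.trans ?_ (germ_closedPointTo_of_eq φ₁ _ hg U hU hmem a)
    rw [Scheme.stalkClosedPointTo_comp, CommRingCat.comp_apply]
    exact congrArg _ (Scheme.Hom.germ_stalkMap_apply _ U _ hmem a).symm
  have hψ2 : ∀ a, ψ (σ₂ f n x a) = φ₂ a := by
    intro a
    obtain ⟨U, hU, a, rfl⟩ := TopCat.Presheaf.exists_germ_eq X.presheaf a
    rw [σ₂_germ]
    show Scheme.stalkClosedPointTo h' ((PrinPart.nbhd f n).presheaf.stalkSpecializes _ _) = _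
    rw [TopCat.Presheaf.germ_stalkSpecializes_apply]
    have hg : h' ≫ PrinPart.pr2 f n = Spec.map φ₂ ≫ X.fromSpecStalk x := by
      rw [PrinPart.pr2, ← Category.assoc, hh']; exact pullback.lift_snd _ _ _
    have hmem : PrinPart.pr2 f n (h' (IsLocalRing.closedPoint Q)) ∈ U := by
      rw [hcp, pr2_toNbhd_apply]; exact hU
    refine Eq.trans ?_ (germ_closedPointTo_of_eq φ₂ _ hg U hU hmem a)
    rw [Scheme.stalkClosedPointTo_comp, CommRingCat.comp_apply]
    exact congrArg _ (Scheme.Hom.germ_stalkMap_apply _ U _ hmem a).symm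
  exact ⟨ψ, hψ1, hψ2⟩

theorem ker_θ₀ (x : X) :
    letI := algStalk f x
    RingHom.ker (θ₀ f n x) = KaehlerDifferential.ideal (S.presheaf.stalk (f x)) (X.presheaf.stalk x) ^ (n + 1) := by
  letI := algStalk f x
  let R := S.presheaf.stalk (f x)
  let A := X.presheaf.stalk x
  let J : Ideal (A ⊗[R] A) := KaehlerDifferential.ideal R A
  show RingHom.ker (θ₀ f n x) = J ^ (n + 1)
  have haug : ∀ t, aug f n x (θ₀ f n x t) = Algebra.TensorProduct.lmul' R t := by
    intro t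
    induction t using TensorProduct.induction_on with
    | zero => rw [map_zero, map_zero, map_zero]
    | tmul a b => rw [θ₀_tmul, map_mul, aug_σ₁, aug_σ₂]; rfl
    | add u v hu hv => rw [map_add, map_add, map_add, hu, hv]
  refine le_antisymm ?_ ?_
  swap
  · intro t ht
    have hle : J ≤ Ideal.comap (θ₀ f n x) (RingHom.ker (aug f n x).hom) := by
      intro u hu
      rw [Ideal.mem_comap, RingHom.mem_ker]
      exact (haug u).trans hu
    have := Ideal.le_comap_pow (θ₀ f n x) (n + 1) (Ideal.pow_right_mono hle _ ht)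
    rw [ker_aug_pow, Ideal.mem_comap, Ideal.mem_bot] at this
    exact this
  let Q : Type u := (A ⊗[R] A) ⧸ J ^ (n + 1)
  let q : (A ⊗[R] A) →+* Q := Ideal.Quotient.mk _
  have hJle : J ^ (n + 1) ≤ RingHom.ker (Algebra.TensorProduct.lmul' R : A ⊗[R] A →ₐ[R] A).toRingHom :=
    Ideal.pow_le_self n.succ_ne_zero
  let π : Q →+* A := Ideal.Quotient.lift _ (Algebra.TensorProduct.lmul' R : A ⊗[R] A →ₐ[R] A).toRingHom hJle
  have hπ : Function.Surjective π := fun a => ⟨q (a ⊗ₜ 1), by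
    show (Algebra.TensorProduct.lmul' R : A ⊗[R] A →ₐ[R] A) (a ⊗ₜ[R] 1) = a
    simp⟩
  have hkerπ : RingHom.ker π = J.map q := by
    refine le_antisymm (fun t ht => ?_) (Ideal.map_le_iff_le_comap.2 fun t ht => ht)
    obtain ⟨t, rfl⟩ := Ideal.Quotient.mk_surjective t
    exact Ideal.mem_map_of_mem q ht
  have hkpow : RingHom.ker π ^ (n + 1) = ⊥ := by
    rw [hkerπ, ← Ideal.map_pow, eq_bot_iff, Ideal.map_le_iff_le_comap]
    exact fun t ht => Ideal.Quotient.eq_zero_iff_mem.2 ht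
  haveI : Nontrivial Q := π.domain_nontrivial
  have hunit : ∀ t, IsUnit (π t) → IsUnit t := by
    intro t ht
    obtain ⟨b, hb⟩ := ht.exists_right_inv
    obtain ⟨b, rfl⟩ := hπ b
    have hnil : IsNilpotent (t * b - 1) := ⟨n + 1, by
      have : (t * b - 1) ^ (n + 1) ∈ RingHom.ker π ^ (n + 1) :=
        Ideal.pow_mem_pow (by rw [RingHom.mem_ker, map_sub, map_mul, hb, map_one, sub_self]) _
      rwa [hkpow, Ideal.mem_bot] at this⟩
    have := hnil.isUnit_one_add
    rw [show 1 + (t * b - 1) = t * b by ring] at this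
    exact isUnit_of_mul_isUnit_left this
  haveI : IsLocalRing Q := IsLocalRing.of_isUnit_or_isUnit_one_sub_self fun t => by
    rcases IsLocalRing.isUnit_or_isUnit_one_sub_self (π t) with h | h
    · exact Or.inl (hunit t h)
    · exact Or.inr (hunit _ (by rwa [map_sub, map_one]))
  let φ₁ : CommRingCat.of A ⟶ CommRingCat.of Q := CommRingCat.ofHom (q.comp Algebra.TensorProduct.includeLeftRingHom)
  let φ₂ : CommRingCat.of A ⟶ CommRingCat.of Q :=
    CommRingCat.ofHom (q.comp (Algebra.TensorProduct.includeRight : A →ₐ[R] A ⊗[R] A).toRingHom)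
  let πc : CommRingCat.of Q ⟶ CommRingCat.of A := CommRingCat.ofHom π
  haveI : IsLocalHom φ₁.hom := ⟨fun a ha => by
    have := ha.map π
    rwa [show π (φ₁.hom a) = a by
      show (Algebra.TensorProduct.lmul' R : A ⊗[R] A →ₐ[R] A) (a ⊗ₜ[R] 1) = a
      simp] at this⟩
  haveI : IsLocalHom φ₂.hom := ⟨fun a ha => by
    have := ha.map π
    rwa [show π (φ₂.hom a) = a by
      show (Algebra.TensorProduct.lmul' R : A ⊗[R] A →ₐ[R] A) (1 ⊗ₜ[R] a) = a
      simp] at this⟩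
  have hφπ₁ : φ₁ ≫ πc = 𝟙 (X.presheaf.stalk x) := CommRingCat.hom_ext (RingHom.ext fun a => by
    show (Algebra.TensorProduct.lmul' R : A ⊗[R] A →ₐ[R] A) (a ⊗ₜ[R] 1) = a
    simp)
  have hφπ₂ : φ₂ ≫ πc = 𝟙 (X.presheaf.stalk x) := CommRingCat.hom_ext (RingHom.ext fun a => by
    show (Algebra.TensorProduct.lmul' R : A ⊗[R] A →ₐ[R] A) (1 ⊗ₜ[R] a) = a
    simp)
  have hcond : f.stalkMap x ≫ φ₁ = f.stalkMap x ≫ φ₂ := CommRingCat.hom_ext (RingHom.ext fun r => by
    show q ((algebraMap R A r) ⊗ₜ[R] 1) = q (1 ⊗ₜ[R] algebraMap R A r)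
    rw [Algebra.algebraMap_eq_smul_one, TensorProduct.smul_tmul])
  obtain ⟨ψ, hψ1, hψ2⟩ := exists_ψ f n x Q π hπ hkpow hunit φ₁ φ₂ hφπ₁ hφπ₂ hcond
  intro t ht
  have key : ψ (θ₀ f n x t) = q t := by
    clear ht
    induction t using TensorProduct.induction_on with
    | zero => rw [map_zero, map_zero, map_zero]
    | tmul a b =>
      rw [θ₀_tmul, map_mul, hψ1, hψ2]
      show q (a ⊗ₜ[R] 1) * q (1 ⊗ₜ[R] b) = q (a ⊗ₜ[R] b)
      rw [← map_mul, Algebra.TensorProduct.tmul_mul_tmul, mul_one, one_mul]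
    | add u v hu hv => rw [map_add, map_add, map_add, hu, hv]
  rw [RingHom.mem_ker] at ht
  rw [ht, map_zero] at key
  exact Ideal.Quotient.eq_zero_iff_mem.1 key.symm

end Groth.Agent.EtAlgEasy.PrinPartStalk
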