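import Groth.Agent.GeomRk.RelClosure
import Groth.Agent.ConstrNoeth.Basic
import Groth.Agent.FPModelLib.ZSys
import Groth.Agent.FPModelLib.Model2
import Groth.Agent.FibreDepth.ConstrScheme
import Groth.Agent.FpqcDesc.Topo
import Groth.Agent.GenIrredLib.ComponentProper
import Groth.Agent.ProConsLib.Scheme
import Mathlib

/-!
The closure of a locally constructible subset taken fibre by fibre is locally constructible.
-/

set_option autoImplicit false
set_option backward.isDefEq.respectTransparency false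
set_option linter.style.haveILetI false

universe u

open CategoryTheory CategoryTheory.Limits AlgebraicGeometry TopologicalSpace Topology

noncomputable section

namespace Groth.Agent.EtAlgEasy.RelClosureSch

/-- The points having a generization in the same fibre which lies in `Z`. -/
def relCl {X S : Type*} [TopologicalSpace X] (f : X → S) (Z : Set X) : Set X :=
  {x | ∃ x', x' ⤳ x ∧ f x' = f x ∧ x' ∈ Z}

theorem relCl_preimage_openEmbedding {X X' S S' : Type*} [TopologicalSpace X] [TopologicalSpace X']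
    (f : X → S) (f' : X' → S') (j : X' → X) (g : S' → S) (hj : IsOpenEmbedding j) (hg : Function.Injective g)
    (w : ∀ x, f (j x) = g (f' x)) (Z : Set X) : j ⁻¹' relCl f Z = relCl f' (j ⁻¹' Z) := by
  ext x
  constructor
  · rintro ⟨y, hy, hfy, hyZ⟩
    obtain ⟨x', rfl⟩ : y ∈ Set.range j := hy.mem_open hj.isOpen_range ⟨x, rfl⟩
    exact ⟨x', hj.isInducing.specializes_iff.1 hy, hg (by rw [← w, ← w]; exact hfy), hyZ⟩
  · rintro ⟨x', hx', hfx, hZ⟩
    exact ⟨j x', hx'.map hj.continuous, by rw [w, w, hfx], hZ⟩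

variable {X S : Scheme.{u}} (f : X ⟶ S)

theorem relCl_preimage_of_isPullback {X' S' : Scheme.{u}} {g : S' ⟶ S} {g' : X' ⟶ X} {f' : X' ⟶ S'}
    (h : IsPullback g' f' f g) (Z : Set X) : g' ⁻¹' relCl f Z = relCl f' (g' ⁻¹' Z) := by
  ext x
  constructor
  · rintro ⟨y, hy, hfy, hyZ⟩
    let s := f' x
    have hsq := isPullback_fiberToSpecResidueField_of_isPullback h s
    set p := pullback.map f' (S'.fromSpecResidueField s) f (S.fromSpecResidueField (g s)) g'
      (Spec.map (g.residueFieldMap s)) g h.w.symm (by simp) with hp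
    haveI : Subsingleton ↥(Spec (S.residueField (g s))) := inferInstanceAs (Subsingleton (PrimeSpectrum _))
    haveI : UniversallyOpen (Spec.map (g.residueFieldMap s)) := inferInstance
    haveI : UniversallyOpen p := MorphismProperty.of_isPullback hsq.flip inferInstance
    have hgen := SchTopo.generalizingMap_of_isOpenMap p p.isOpenMap
    have hpι : ∀ z, f.fiberι (g s) (p z) = g' (f'.fiberι s z) := fun z =>
      (Scheme.Hom.comp_apply _ _ _).symm.trans
        ((congrArg (fun m : f'.fiber s ⟶ X => m z) (pullback.lift_fst _ _ _)).trans (Scheme.Hom.comp_apply _ _ _))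
    have hfg : f (g' x) = g s := by
      rw [← Scheme.Hom.comp_apply, h.w]; rfl
    have hy' : f y = g s := hfy.trans hfg
    let z := (f'.fiberHomeo s).symm ⟨x, rfl⟩
    have hz : f'.fiberι s z = x := f'.fiberι_fiberHomeo_symm _ _
    let w := (f.fiberHomeo (g s)).symm ⟨y, hy'⟩
    have hw : f.fiberι (g s) w = y := f.fiberι_fiberHomeo_symm _ _
    have hsp : w ⤳ p z := by
      refine (f.fiberι (g s)).isEmbedding.isInducing.specializes_iff.1 ?_
      rw [hw, hpι, hz]; exact hy
    obtain ⟨z', hz', hpz'⟩ := hgen hsp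
    refine ⟨f'.fiberι s z', ?_, (f'.fiberHomeo s z').2, ?_⟩
    · have := hz'.map (f'.fiberι s).continuous
      rwa [hz] at this
    · show g' (f'.fiberι s z') ∈ Z
      rw [← hpι, hpz', hw]; exact hyZ
  · rintro ⟨x', hx', hfx, hZ⟩
    refine ⟨g' x', hx'.map g'.continuous, ?_, hZ⟩
    rw [← Scheme.Hom.comp_apply, ← Scheme.Hom.comp_apply, h.w, Scheme.Hom.comp_apply, Scheme.Hom.comp_apply, hfx]

/-- The affine Noetherian case. -/
theorem isConstructible_relCl_spec (A B : Type u) [CommRing A] [CommRing B] [Algebra A B] [IsNoetherianRing A]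
    [Algebra.FiniteType A B] (T : Set (PrimeSpectrum B)) (hT : IsConstructible T) :
    IsConstructible (relCl (PrimeSpectrum.comap (algebraMap A B)) T) := by
  haveI : IsNoetherianRing B := Algebra.FiniteType.isNoetherianRing A B
  refine ConstrNoeth.isConstructible_of_irreducible fun Y hY hirr hd => ?_
  obtain ⟨q₀, hq₀⟩ := QuasiSober.sober hirr hY
  obtain ⟨f, hf, J, hJ⟩ := GeomRk.exists_relClosure T hT (q₀.asIdeal.under A)
  have hle : ∀ q ∈ Y, q₀.asIdeal.under A ≤ q.asIdeal.under A := fun q hq =>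
    Ideal.comap_mono ((PrimeSpectrum.le_iff_specializes q₀ q).2 (hq₀.specializes hq))
  let W : Set (PrimeSpectrum B) := PrimeSpectrum.basicOpen (algebraMap A B f)
  have hW : IsOpen W := (PrimeSpectrum.basicOpen (algebraMap A B f)).2
  have key : ∀ q ∈ Y, q ∈ W → (q ∈ relCl (PrimeSpectrum.comap (algebraMap A B)) T ↔ J ≤ q.asIdeal) := by
    intro q hq hqW
    rw [hJ q (hle q hq) hqW]
    constructor
    · rintro ⟨r, hr, hru, hrT⟩
      exact ⟨r, (PrimeSpectrum.le_iff_specializes r q).2 hr, congrArg PrimeSpectrum.asIdeal hru, hrT⟩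
    · rintro ⟨r, hr, hru, hrT⟩
      exact ⟨r, (PrimeSpectrum.le_iff_specializes r q).1 hr, PrimeSpectrum.ext hru, hrT⟩
  refine ⟨W, hW, ⟨q₀, hf, hq₀.mem⟩, ?_⟩
  rintro q ⟨hqW, hqY⟩
  have hcl : IsClosed (PrimeSpectrum.zeroLocus (J : Set B)) := PrimeSpectrum.isClosed_zeroLocus _
  refine (key q hqY hqW).2 ?_
  have : q ∈ closure (relCl (PrimeSpectrum.comap (algebraMap A B)) T ∩ Y ∩ W) := by
    have h1 := hW.inter_closure ⟨hqW, hd hqY⟩
    rwa [Set.inter_comm W] at h1
  exact closure_minimal (fun z hz => (key z hz.1.2 hz.2).1 hz.1.1) hcl this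

/-- The affine case in general. -/
theorem isConstructible_relCl_affine {R A : CommRingCat.{u}} (u' : Spec A ⟶ Spec R)
    [LocallyOfFinitePresentation u'] (T : Set (Spec A)) (hT : IsConstructible T) :
    IsConstructible (relCl u' T) := by
  let D := FPModelLib.zSys R
  let c := FPModelLib.zCone R
  have hc := FPModelLib.isLimitZCone R
  obtain ⟨i, G, g, q, hG⟩ := FPModelLib.Gen.exists_model D c hc u'
  haveI := hG.compact
  haveI := hG.qs
  obtain ⟨hcX⟩ := FlatStage.nonempty_isLimit_vCone D c i g hG.isPullback hc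
  haveI : ∀ {a b : Over i} (φ : a ⟶ b), IsAffineHom ((AffLim.baseChange D i g).map φ) := inferInstance
  let o : Over i := Over.mk (𝟙 i)
  haveI : CompactSpace ↥((AffLim.baseChange D i g).obj o) := (hG.stage D c o).compact
  haveI : QuasiSeparatedSpace ↥((AffLim.baseChange D i g).obj o) := (hG.stage D c o).qs
  obtain ⟨k, -, T₀, hT₀, hT₀eq⟩ :=
    AffLim.exists_isConstructible_preimage_eq (AffLim.baseChange D i g)
      (FlatStage.vCone D c i g hG.isPullback) hcX o hT
  have hk := hG.stage D c k
  haveI := hk.compact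
  haveI := hk.qs
  haveI := hk.lfp
  haveI : IsNoetherian (D.obj k.left) := FPModelLib.isNoetherian_zSys R k.left
  let gk := pullback.snd g (D.map k.hom)
  haveI : LocallyOfFiniteType gk := inferInstance
  haveI : IsLocallyNoetherian ((AffLim.baseChange D i g).obj k) := LocallyOfFiniteType.isLocallyNoetherian gk
  haveI : IsNoetherian ((AffLim.baseChange D i g).obj k) := ⟨⟩
  have hcons : IsConstructible (relCl gk T₀) := by
    refine IsLocallyConstructible.isConstructible ?_
    refine FibreDepth.isLocallyConstructible_of_embeddings _ fun x => ?_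
    obtain ⟨U, hU, hxU, -⟩ := exists_isAffineOpen_mem_and_subset (TopologicalSpace.Opens.mem_top (gk x))
    obtain ⟨V, hV, hxV, hVU⟩ := exists_isAffineOpen_mem_and_subset (U := gk ⁻¹ᵁ U) (x := x) hxU
    refine ⟨_, inferInstance, hV.fromSpec, hV.fromSpec.isOpenEmbedding, hV.range_fromSpec.ge hxV, ?_⟩
    letI : Algebra Γ(D.obj k.left, U) Γ((AffLim.baseChange D i g).obj k, V) := (gk.appLE U V hVU).hom.toAlgebra
    haveI : IsNoetherianRing Γ(D.obj k.left, U) := IsLocallyNoetherian.component_noetherian ⟨U, hU⟩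
    haveI : Algebra.FiniteType Γ(D.obj k.left, U) Γ((AffLim.baseChange D i g).obj k, V) :=
      gk.finiteType_appLE hU hV hVU
    rw [relCl_preimage_openEmbedding (⇑gk) (PrimeSpectrum.comap (gk.appLE U V hVU).hom) hV.fromSpec hU.fromSpec
      hV.fromSpec.isOpenEmbedding hU.fromSpec.isOpenEmbedding.injective (fun z => by
        show (hV.fromSpec ≫ gk) z = (Spec.map (gk.appLE U V hVU) ≫ hU.fromSpec) z
        rw [hU.SpecMap_appLE_fromSpec gk hV hVU])]
    exact isConstructible_relCl_spec Γ(D.obj k.left, U) Γ((AffLim.baseChange D i g).obj k, V) _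
      (Scheme.Hom.isConstructible_preimage hV.fromSpec hT₀)
  have h1 : FlatStage.vMap D c i g hG.isPullback k ⁻¹' relCl gk T₀ = relCl u' T := by
    exact (relCl_preimage_of_isPullback gk hk.isPullback T₀).trans (congrArg _ hT₀eq)
  rw [← h1]
  exact Scheme.Hom.isConstructible_preimage _ hcons

/-- The fibrewise closure of a locally constructible set is locally constructible. -/
theorem isLocallyConstructible_relCl [LocallyOfFinitePresentation f] {Z : Set X} (hZ : IsLocallyConstructible Z) :
    IsLocallyConstructible (relCl f Z) := by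
  refine FibreDepth.isLocallyConstructible_of_embeddings _ fun x => ?_
  obtain ⟨U, hU, hxU, -⟩ := exists_isAffineOpen_mem_and_subset (TopologicalSpace.Opens.mem_top (f x))
  obtain ⟨V, hV, hxV, hVU⟩ := exists_isAffineOpen_mem_and_subset (U := f ⁻¹ᵁ U) (x := x) hxU
  refine ⟨_, inferInstance, hV.fromSpec, hV.fromSpec.isOpenEmbedding, hV.range_fromSpec.ge hxV, ?_⟩
  rw [relCl_preimage_openEmbedding (⇑f) (⇑(Spec.map (f.appLE U V hVU))) hV.fromSpec hU.fromSpec
    hV.fromSpec.isOpenEmbedding hU.fromSpec.isOpenEmbedding.injective (fun z => by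
      show (hV.fromSpec ≫ f) z = (Spec.map (f.appLE U V hVU) ≫ hU.fromSpec) z
      rw [hU.SpecMap_appLE_fromSpec f hV hVU])]
  haveI : LocallyOfFinitePresentation (Spec.map (f.appLE U V hVU)) := by
    rw [LocallyOfFinitePresentation.SpecMap_iff]
    exact f.finitePresentation_appLE hU hV hVU
  exact isConstructible_relCl_affine _ _ (hZ.preimage_of_isOpenEmbedding hV.fromSpec.isOpenEmbedding).isConstructible

/-- In a fibre, the closure of a constructible set consists of the generization points. -/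
theorem mem_relCl_iff [LocallyOfFiniteType f] {Z : Set X} (hZ : IsLocallyConstructible Z) (x : X) :
    x ∈ relCl f Z ↔ x ∈ closure (f ⁻¹' {f x} ∩ Z) := by
  constructor
  · rintro ⟨x', hx', hfx, hx'Z⟩
    exact hx'.mem_closed isClosed_closure (subset_closure ⟨hfx, hx'Z⟩)
  · intro hx
    let s := f x
    haveI : LocallyOfFiniteType (f.fiberToSpecResidueField s) := MorphismProperty.pullback_snd _ _ inferInstance
    haveI : IsLocallyNoetherian (f.fiber s) := LocallyOfFiniteType.isLocallyNoetherian (f.fiberToSpecResidueField s)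
    have hD : IsLocallyConstructible (f.fiberι s ⁻¹' Z) := by
      rw [ProConsLib.isLocallyConstructible_iff_pro_and_ind] at hZ ⊢
      exact ⟨ProConsLib.isProConstructible_preimage _ hZ.1, ProConsLib.isIndConstructible_preimage _ hZ.2⟩
    have hw : (f.fiberHomeo s).symm ⟨x, rfl⟩ ∈ closure (f.fiberι s ⁻¹' Z) := by
      rw [(f.fiberι s).isEmbedding.closure_eq_preimage_closure_image, Set.mem_preimage, f.fiberι_fiberHomeo_symm,
        Set.image_preimage_eq_inter_range, f.range_fiberι, Set.inter_comm]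
      exact hx
    obtain ⟨d, hd, hs⟩ := GenIrredLib.exists_specializes_of_mem_closure_locConstr hD hw
    refine ⟨f.fiberι s d, ?_, (f.fiberHomeo s d).2, hd⟩
    have := hs.map (f.fiberι s).continuous
    rwa [f.fiberι_fiberHomeo_symm] at this

theorem inter_closure_fibre [LocallyOfFiniteType f] {Z : Set X} (hZ : IsLocallyConstructible Z) (s : S) :
    f ⁻¹' {s} ∩ closure (f ⁻¹' {s} ∩ Z) = f ⁻¹' {s} ∩ relCl f Z := by
  ext x
  refine and_congr_right fun hx => ?_
  rw [mem_relCl_iff f hZ, show f x = s from hx]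

/-- The set of points of the base over which one set is contained in another. -/
theorem isLocallyConstructible_subset [LocallyOfFinitePresentation f] [QuasiCompact f] {A B : Set X}
    (hA : IsLocallyConstructible A) (hB : IsLocallyConstructible B) :
    IsLocallyConstructible {s : S | A ∩ f ⁻¹' {s} ⊆ B} := by
  have h : {s : S | A ∩ f ⁻¹' {s} ⊆ B} = (f '' (A ∩ Bᶜ))ᶜ := by
    ext s
    constructor
    · rintro h ⟨x, ⟨hxA, hxB⟩, rfl⟩
      exact hxB (h ⟨hxA, rfl⟩)
    · intro h x hx
      by_contra hxB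
      exact h ⟨x, ⟨hx.1, hxB⟩, hx.2⟩
  rw [h]
  exact ProConsLib.isLocallyConstructible_compl
    (f.isLocallyConstructible_image (hA.inter (ProConsLib.isLocallyConstructible_compl hB)))

theorem dense_iff [LocallyOfFiniteType f] {Z : Set X} (hZ : IsLocallyConstructible Z) (Z' : Set X) (s : S) :
    Z' ∩ f ⁻¹' {s} ⊆ closure (Z ∩ f ⁻¹' {s}) ↔ Z' ∩ f ⁻¹' {s} ⊆ relCl f Z := by
  have h := inter_closure_fibre f hZ s
  rw [Set.inter_comm Z]
  constructor
  · exact fun hs x hx => (h.le ⟨hx.2, hs hx⟩).2
  · exact fun hs x hx => (h.ge ⟨hx.2, hs hx⟩).2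

theorem isClosed_fibre_iff [LocallyOfFiniteType f] {Z : Set X} (hZ : IsLocallyConstructible Z) (s : S) :
    IsClosed (Subtype.val ⁻¹' Z : Set ↥(f ⁻¹' {s})) ↔ relCl f Z ∩ f ⁻¹' {s} ⊆ Z := by
  refine isClosed_preimage_val.trans ?_
  rw [inter_closure_fibre f hZ s, Set.inter_comm]

theorem closure_fibre [LocallyOfFiniteType f] {Z : Set X} (hZ : IsLocallyConstructible Z) (s : S) :
    closure (Subtype.val ⁻¹' Z : Set ↥(f ⁻¹' {s})) = Subtype.val ⁻¹' relCl f Z := by
  rw [IsEmbedding.subtypeVal.closure_eq_preimage_closure_image, Subtype.image_preimage_coe]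
  ext ⟨x, hx⟩
  exact ⟨fun h => ((inter_closure_fibre f hZ s).le ⟨hx, h⟩).2, fun h => ((inter_closure_fibre f hZ s).ge ⟨hx, h⟩).2⟩

end Groth.Agent.EtAlgEasy.RelClosureSch
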