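import Mathlib

/-!
Smoothness at a point is the lifting property for local rings.
-/

set_option autoImplicit false
set_option backward.isDefEq.respectTransparency false
set_option linter.style.haveILetI false

universe u

open CategoryTheory AlgebraicGeometry IsLocalRing

namespace Groth.Agent.EtAlgEasy.SmoothLift

variable {X Y : Scheme.{u}}

theorem exists_localHom {B : CommRingCat.{u}} [IsLocalRing B] (α : Spec B ⟶ X) (x : X)
    (h : α (closedPoint B) = x) :
    ∃ a : X.presheaf.stalk x ⟶ B, IsLocalHom a.hom ∧ α = Spec.map a ≫ X.fromSpecStalk x := by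
  subst h
  exact ⟨Scheme.stalkClosedPointTo α, inferInstance, (Scheme.Spec_stalkClosedPointTo_fromSpecStalk α).symm⟩

theorem localHom_ext {B : CommRingCat.{u}} [IsLocalRing B] {x : X} (a b : X.presheaf.stalk x ⟶ B)
    (ha : IsLocalHom a.hom) (hb : IsLocalHom b.hom)
    (h : Spec.map a ≫ X.fromSpecStalk x = Spec.map b ≫ X.fromSpecStalk x) : a = b := by
  have h' := (SpecToEquivOfLocalRing X B).symm.injective (a₁ := ⟨x, a, ha⟩) (a₂ := ⟨x, b, hb⟩) h
  exact congrArg Subtype.val (eq_of_heq (Sigma.mk.inj_iff.1 h').2)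

theorem closedPoint_map {B : CommRingCat.{u}} [IsLocalRing B] {x : X} (a : X.presheaf.stalk x ⟶ B)
    (ha : IsLocalHom a.hom) : (Spec.map a ≫ X.fromSpecStalk x) (closedPoint B) = x := by
  haveI := ha
  rw [Scheme.Hom.comp_apply, Spec_closedPoint, Scheme.fromSpecStalk_closedPoint]

theorem exists_lift_of_formallySmooth (f : X ⟶ Y) (x : X) (hx : (f.stalkMap x).hom.FormallySmooth)
    (B B' : Type u) [CommRing B] [CommRing B'] [IsLocalRing B] [IsLocalRing B'] (φ : B' →+* B)
    (hφ : Function.Surjective φ) (hsq : RingHom.ker φ ^ 2 = ⊥)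
    (α : Spec (CommRingCat.of B) ⟶ X) (β : Spec (CommRingCat.of B') ⟶ Y) (hα : α (closedPoint B) = x)
    (hc : Spec.map (CommRingCat.ofHom φ) ≫ β = α ≫ f) :
    ∃ γ : Spec (CommRingCat.of B') ⟶ X, Spec.map (CommRingCat.ofHom φ) ≫ γ = α ∧ γ ≫ f = β := by
  haveI : IsLocalHom φ := IsLocalHom.of_surjective φ hφ
  obtain ⟨a, ha, rfl⟩ := exists_localHom α x hα
  have hβ : β (closedPoint B') = f x := by
    have h := congrArg (fun m => (m : _ ⟶ Y) (closedPoint B)) hc
    exact (((Scheme.Hom.comp_apply _ β _).trans (congrArg β (Spec_closedPoint (f := CommRingCat.ofHom φ)))).symm.trans h).trans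
      ((Scheme.Hom.comp_apply _ f _).trans (congrArg f hα))
  obtain ⟨b, hb, rfl⟩ := exists_localHom β (f x) hβ
  rw [← Spec.map_comp_assoc, Category.assoc, ← Scheme.SpecMap_stalkMap_fromSpecStalk,
    ← Spec.map_comp_assoc] at hc
  haveI := ha
  haveI := hb
  have e := localHom_ext _ _ (inferInstanceAs (IsLocalHom (φ.comp b.hom)))
    (inferInstanceAs (IsLocalHom (a.hom.comp (f.stalkMap x).hom))) hc
  letI : Algebra (Y.presheaf.stalk (f x)) (X.presheaf.stalk x) := (f.stalkMap x).hom.toAlgebra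
  haveI : Algebra.FormallySmooth (Y.presheaf.stalk (f x)) (X.presheaf.stalk x) := hx
  letI : Algebra (Y.presheaf.stalk (f x)) B' := b.hom.toAlgebra
  letI : Algebra (Y.presheaf.stalk (f x)) B := (φ.comp b.hom).toAlgebra
  let g : B' →ₐ[Y.presheaf.stalk (f x)] B := { φ with commutes' := fun r => rfl }
  let a' : X.presheaf.stalk x →ₐ[Y.presheaf.stalk (f x)] B :=
    { a.hom with commutes' := fun r => (ConcreteCategory.congr_hom e r).symm }
  have hnil : IsNilpotent (RingHom.ker (g : B' →+* B)) := ⟨2, by rw [Ideal.zero_eq_bot]; exact hsq⟩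
  let c := Algebra.FormallySmooth.liftOfSurjective a' g hφ hnil
  have hcg : φ.comp c.toRingHom = a.hom := RingHom.ext fun z =>
    Algebra.FormallySmooth.liftOfSurjective_apply a' g hφ hnil z
  refine ⟨Spec.map (CommRingCat.ofHom c.toRingHom) ≫ X.fromSpecStalk x, ?_, ?_⟩
  · rw [← Spec.map_comp_assoc]
    congr 2
    exact CommRingCat.hom_ext hcg
  · rw [Category.assoc, ← Scheme.SpecMap_stalkMap_fromSpecStalk, ← Spec.map_comp_assoc]
    congr 2
    exact CommRingCat.hom_ext (RingHom.ext fun r => c.commutes r)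

theorem formallySmooth_of_local_lift {A S : Type u} [CommRing A] [CommRing S] [IsLocalRing S] [Algebra A S]
    (H : ∀ (B' : Type u) [CommRing B'] [IsLocalRing B'] [Algebra A B'] (φ : B' →ₐ[A] S),
      Function.Surjective φ → RingHom.ker φ.toRingHom ^ 2 = ⊥ → ∃ g : S →ₐ[A] B', φ.comp g = AlgHom.id A S) :
    Algebra.FormallySmooth A S := by
  let π : MvPolynomial S A →ₐ[A] S := MvPolynomial.aeval id
  let Q : Ideal (MvPolynomial S A) := (maximalIdeal S).comap π.toRingHom
  haveI : Q.IsPrime := Ideal.comap_isPrime _ _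
  let P := Localization.AtPrime Q
  haveI : Algebra.FormallySmooth (MvPolynomial S A) P := Algebra.FormallySmooth.of_isLocalization Q.primeCompl
  haveI : Algebra.FormallySmooth A P := Algebra.FormallySmooth.comp A (MvPolynomial S A) P
  have hu : ∀ y : Q.primeCompl, IsUnit (π y.1) := fun y => IsLocalRing.notMem_maximalIdeal.1 y.2
  let ψ : P →ₐ[A] S := IsLocalization.liftAlgHom (M := Q.primeCompl) hu
  have hψ : Function.Surjective ψ := fun s =>
    ⟨algebraMap (MvPolynomial S A) P (MvPolynomial.X s), by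
      show IsLocalization.lift (M := Q.primeCompl) hu (algebraMap (MvPolynomial S A) P (MvPolynomial.X s)) = s
      rw [IsLocalization.lift_eq]
      exact MvPolynomial.aeval_X _ _⟩
  haveI : Nontrivial (P ⧸ RingHom.ker ψ.toRingHom ^ 2) := Ideal.Quotient.nontrivial_iff.2 fun h =>
    (RingHom.ker_ne_top ψ.toRingHom) (top_le_iff.1 (h ▸ Ideal.pow_le_self two_ne_zero))
  haveI : IsLocalRing (P ⧸ RingHom.ker ψ.toRingHom ^ 2) :=
    IsLocalRing.of_surjective' (Ideal.Quotient.mk _) Ideal.Quotient.mk_surjective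
  have hsq : RingHom.ker ψ.kerSquareLift.toRingHom ^ 2 = ⊥ :=
    (congrArg (· ^ 2) ψ.ker_kerSquareLift).trans (Ideal.cotangentIdeal_square _)
  obtain ⟨g, hg⟩ := H (P ⧸ RingHom.ker ψ.toRingHom ^ 2) ψ.kerSquareLift
    (Ideal.Quotient.lift_surjective_of_surjective _ _ hψ) hsq
  exact Algebra.FormallySmooth.of_split ψ g hg

theorem formallySmooth_of_lift (f : X ⟶ Y) (x : X)
    (H : ∀ (B B' : Type u) [CommRing B] [CommRing B'] [IsLocalRing B] [IsLocalRing B'] (φ : B' →+* B),
      Function.Surjective φ → RingHom.ker φ ^ 2 = ⊥ →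
      ∀ (α : Spec (CommRingCat.of B) ⟶ X) (β : Spec (CommRingCat.of B') ⟶ Y),
        α (closedPoint B) = x → Spec.map (CommRingCat.ofHom φ) ≫ β = α ≫ f →
        ∃ γ : Spec (CommRingCat.of B') ⟶ X, Spec.map (CommRingCat.ofHom φ) ≫ γ = α ∧ γ ≫ f = β) :
    (f.stalkMap x).hom.FormallySmooth := by
  letI : Algebra (Y.presheaf.stalk (f x)) (X.presheaf.stalk x) := (f.stalkMap x).hom.toAlgebra
  refine formallySmooth_of_local_lift fun B' _ _ _ φ hφ hsq => ?_
  haveI : IsLocalHom φ.toRingHom := IsLocalHom.of_surjective _ hφ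
  let b : Y.presheaf.stalk (f x) ⟶ CommRingCat.of B' :=
    CommRingCat.ofHom (algebraMap (Y.presheaf.stalk (f x)) B')
  have hbφ : b ≫ CommRingCat.ofHom φ.toRingHom = f.stalkMap x :=
    CommRingCat.hom_ext (RingHom.ext fun r => φ.commutes r)
  obtain ⟨γ, hγ₁, hγ₂⟩ := H (X.presheaf.stalk x) B' φ.toRingHom hφ hsq (X.fromSpecStalk x)
    (Spec.map b ≫ Y.fromSpecStalk (f x)) Scheme.fromSpecStalk_closedPoint (by
      rw [← Spec.map_comp_assoc, hbφ, Scheme.SpecMap_stalkMap_fromSpecStalk])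
  have hγx : γ (closedPoint B') = x := by
    have h := congrArg (fun m => (m : _ ⟶ X) (closedPoint (X.presheaf.stalk x))) hγ₁
    exact (((Scheme.Hom.comp_apply _ γ _).trans
      (congrArg γ (Spec_closedPoint (f := CommRingCat.ofHom φ.toRingHom)))).symm.trans h).trans
      Scheme.fromSpecStalk_closedPoint
  obtain ⟨c, hc, rfl⟩ := exists_localHom γ x hγx
  haveI := hc
  rw [← Spec.map_comp_assoc] at hγ₁
  have e1 := localHom_ext (c ≫ CommRingCat.ofHom φ.toRingHom) (𝟙 (X.presheaf.stalk x))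
    (inferInstanceAs (IsLocalHom (φ.toRingHom.comp c.hom))) (isLocalHom_id (X.presheaf.stalk x))
    (hγ₁.trans (by rw [Spec.map_id]; exact (Category.id_comp _).symm))
  have hbl : IsLocalHom b.hom := ⟨fun r hr => IsLocalHom.map_nonunit (f := (f.stalkMap x).hom) r
    (ConcreteCategory.congr_hom hbφ r ▸ hr.map φ.toRingHom)⟩
  rw [Category.assoc, ← Scheme.SpecMap_stalkMap_fromSpecStalk, ← Spec.map_comp_assoc] at hγ₂
  have e2 := localHom_ext _ _ (inferInstanceAs (IsLocalHom (c.hom.comp (f.stalkMap x).hom))) hbl hγ₂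
  exact ⟨{ c.hom with commutes' := fun r => ConcreteCategory.congr_hom e2 r },
    AlgHom.ext fun s => ConcreteCategory.congr_hom e1 s⟩

theorem mem_smoothLocus_iff (f : X ⟶ Y) [LocallyOfFinitePresentation f] (x : X) :
    x ∈ f.smoothLocus ↔
      ∀ (B B' : Type u) [CommRing B] [CommRing B'] [IsLocalRing B] [IsLocalRing B'] (φ : B' →+* B),
      Function.Surjective φ → RingHom.ker φ ^ 2 = ⊥ →
      ∀ (α : Spec (CommRingCat.of B) ⟶ X) (β : Spec (CommRingCat.of B') ⟶ Y),
        α (closedPoint B) = x → Spec.map (CommRingCat.ofHom φ) ≫ β = α ≫ f →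
        ∃ γ : Spec (CommRingCat.of B') ⟶ X, Spec.map (CommRingCat.ofHom φ) ≫ γ = α ∧ γ ≫ f = β :=
  ⟨fun h B B' _ _ _ _ φ hφ hsq α β hα hc => exists_lift_of_formallySmooth f x h B B' φ hφ hsq α β hα hc,
    formallySmooth_of_lift f x⟩

end Groth.Agent.EtAlgEasy.SmoothLift
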