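import Groth.Agent.EtAlgEasy.OmegaSmooth3
import Groth.Agent.FlatLocus.FibreCrit
import Mathlib

/-!
Unramified morphisms between smooth schemes of equal fibre dimensions are etale.
-/

set_option autoImplicit false
set_option backward.isDefEq.respectTransparency false
set_option linter.style.haveILetI false

universe u

open CategoryTheory CategoryTheory.Limits AlgebraicGeometry TopologicalSpace
open scoped TensorProduct

namespace Groth.Agent.EtAlgEasy.SmoothMono

theorem flat_of_std_of_unramified {A B C : Type u} [CommRing A] [CommRing B] [CommRing C] [Nontrivial C] [Algebra A B]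
    [Algebra A C] [Algebra B C] [IsScalarTower A B C] (n : ℕ)
    [Algebra.IsStandardSmoothOfRelativeDimension n A B] [Algebra.IsStandardSmoothOfRelativeDimension n A C]
    [Algebra.FormallyUnramified B C] : Module.Flat B C := by
  haveI : Algebra.IsStandardSmooth A B := Algebra.IsStandardSmoothOfRelativeDimension.isStandardSmooth n
  haveI : Algebra.IsStandardSmooth A C := Algebra.IsStandardSmoothOfRelativeDimension.isStandardSmooth n
  haveI : Nontrivial B := (algebraMap B C).domain_nontrivial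
  let EB : Ω[B⁄A] ≃ₗ[B] (Fin n → B) := (Module.finBasisOfFinrankEq B Ω[B⁄A]
    (Module.finrank_eq_of_rank_eq (Algebra.IsStandardSmoothOfRelativeDimension.rank_kaehlerDifferential n))).equivFun
  let EC : Ω[C⁄A] ≃ₗ[C] (Fin n → C) := (Module.finBasisOfFinrankEq C Ω[C⁄A]
    (Module.finrank_eq_of_rank_eq (Algebra.IsStandardSmoothOfRelativeDimension.rank_kaehlerDifferential n))).equivFun
  let m := KaehlerDifferential.mapBaseChange A B C
  have hs : Function.Surjective m := fun z =>
    (KaehlerDifferential.exact_mapBaseChange_map A B C z).1 (Subsingleton.elim _ _)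
  let e : (C ⊗[B] Ω[B⁄A]) ≃ₗ[C] Ω[C⁄A] :=
    (EB.baseChange B C).trans ((TensorProduct.piScalarRight B C C (Fin n)).trans EC.symm)
  haveI : Module.Finite C Ω[C⁄A] := Module.Finite.equiv EC.symm
  have hi : Function.Injective m := by
    have h := OrzechProperty.injective_of_surjective_endomorphism (m ∘ₗ e.symm.toLinearMap) (hs.comp e.symm.surjective)
    intro x y hxy
    exact e.injective (h (by simpa using hxy))
  haveI : Subsingleton (Algebra.H1Cotangent B C) := by
    refine subsingleton_of_forall_eq 0 fun z => ?_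
    have h0 : Algebra.H1Cotangent.δ A B C z = 0 := hi
      ((Algebra.H1Cotangent.exact_δ_mapBaseChange A B C).apply_apply_eq_zero z |>.trans (map_zero m).symm)
    obtain ⟨w, rfl⟩ := (Algebra.H1Cotangent.exact_map_δ A B C z).1 h0
    rw [Subsingleton.elim w 0, map_zero]
  haveI : Algebra.FormallySmooth B C := Algebra.formallySmooth_iff _ _ |>.2 ⟨inferInstance, inferInstance⟩
  haveI : Algebra.FinitePresentation B C := Algebra.FinitePresentation.of_restrict_scalars_finitePresentation A B C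
  haveI : Algebra.Smooth B C := ⟨inferInstance, inferInstance⟩
  exact inferInstance

theorem flat_of_fibreDimAt_eq {X Y S : Scheme.{u}} (f : Y ⟶ S) [Smooth f] (g : X ⟶ Y) [Smooth (g ≫ f)]
    [FormallyUnramified g] (hdim : ∀ x : X, FlatMor.fibreDimAt f (g x) = FlatMor.fibreDimAt (g ≫ f) x) : Flat g := by
  refine Flat.of_stalkMap g fun x => ?_
  obtain ⟨_, ⟨V, hV, rfl⟩, hxV, -⟩ :=
    S.isBasis_affineOpens.exists_subset_of_mem_open (Set.mem_univ (f (g x))) isOpen_univ
  obtain ⟨_, ⟨W₀, hW₀, rfl⟩, hxW₀, hW₀V⟩ :=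
    Y.isBasis_affineOpens.exists_subset_of_mem_open (a := g x) hxV (f ⁻¹ᵁ V).2
  have e₀ : W₀ ≤ f ⁻¹ᵁ V := hW₀V
  obtain ⟨t, a, ht, hstd⟩ := OmegaSmooth.exists_std f hV hW₀ e₀ hxW₀
  let W := Y.basicOpen t
  have eW : W ≤ f ⁻¹ᵁ V := (Y.basicOpen_le t).trans e₀
  have hW : IsAffineOpen W := hW₀.basicOpen t
  obtain ⟨_, ⟨U₀, hU₀, rfl⟩, hxU₀, hU₀W⟩ :=
    X.isBasis_affineOpens.exists_subset_of_mem_open (a := x) ht (g ⁻¹ᵁ W).2
  have eU₀ : U₀ ≤ (g ≫ f) ⁻¹ᵁ V := fun y hy => eW (hU₀W hy)
  obtain ⟨s, b, hs, hstd'⟩ := OmegaSmooth.exists_std (g ≫ f) hV hU₀ eU₀ hxU₀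
  let U := X.basicOpen s
  have hU : IsAffineOpen U := hU₀.basicOpen s
  have eU : U ≤ g ⁻¹ᵁ W := (X.basicOpen_le s).trans hU₀W
  have hab : a = b := by
    have h := hdim x
    rw [OmegaSmooth.fibreDimAt_of_std f hV hW eW a hstd ht,
      OmegaSmooth.fibreDimAt_of_std (g ≫ f) hV hU _ b hstd' hs] at h
    exact_mod_cast h
  subst hab
  letI : Algebra Γ(S, V) Γ(Y, W) := (f.appLE V W eW).hom.toAlgebra
  letI : Algebra Γ(S, V) Γ(X, U) := ((g ≫ f).appLE V U ((X.basicOpen_le s).trans eU₀)).hom.toAlgebra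
  letI : Algebra Γ(Y, W) Γ(X, U) := (g.appLE W U eU).hom.toAlgebra
  haveI : IsScalarTower Γ(S, V) Γ(Y, W) Γ(X, U) := .of_algebraMap_eq' (by
    show ((g ≫ f).appLE V U _).hom = (f.appLE V W eW ≫ g.appLE W U eU).hom
    rw [Scheme.Hom.appLE_comp_appLE])
  haveI : Algebra.IsStandardSmoothOfRelativeDimension a Γ(S, V) Γ(Y, W) := hstd
  haveI : Algebra.IsStandardSmoothOfRelativeDimension a Γ(S, V) Γ(X, U) := hstd'
  haveI : Nontrivial Γ(X, U) := (X.presheaf.germ U x hs).hom.domain_nontrivial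
  haveI : Algebra.FormallyUnramified Γ(Y, W) Γ(X, U) := g.formallyUnramified_appLE hW hU eU
  have hflat : (g.appLE W U eU).hom.Flat := flat_of_std_of_unramified (A := Γ(S, V)) a
  exact RingHom.Flat.respectsIso.arrow_mk_iso_iff (IsAffineOpen.arrowStalkMapIso g W hW U hU eU hs) |>.2
    (hflat.localRingHom _ _ (congrArg PrimeSpectrum.asIdeal (IsAffineOpen.comap_primeIdealOf_appLE W hW U hU eU hs)).symm)

theorem isOpenImmersion_iff {X Y S : Scheme.{u}} (f : Y ⟶ S) [Smooth f] (g : X ⟶ Y) [Smooth (g ≫ f)] :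
    IsOpenImmersion g ↔ Mono g ∧ ∀ x : X, FlatMor.fibreDimAt f (g x) = FlatMor.fibreDimAt (g ≫ f) x := by
  constructor
  · intro h
    exact ⟨inferInstance, fun x => FibreDimEt.fibreDimAt_eq_of_etale f (g ≫ f) g (𝟙 S) (Category.comp_id _) x⟩
  · rintro ⟨hmono, hdim⟩
    haveI : IsOpenImmersion (pullback.diagonal g) :=
      haveI := (pullback.isIso_diagonal_iff g).mpr hmono
      inferInstance
    haveI : LocallyOfFiniteType g := locallyOfFiniteType_of_comp g f
    haveI : FormallyUnramified g := inferInstance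
    haveI : LocallyOfFinitePresentation g := FlatLocus.locallyOfFinitePresentation_of_comp g f
    haveI := flat_of_fibreDimAt_eq f g hdim
    exact IsOpenImmersion.of_flat_of_mono g

end Groth.Agent.EtAlgEasy.SmoothMono
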