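import Mathlib

/-!
# Relative smoothness and the map of differentials
-/

set_option autoImplicit false

open TensorProduct KaehlerDifferential

universe u

namespace EtAlgEasy

variable {R S T : Type u} [CommRing R] [CommRing S] [CommRing T] [Algebra R S] [Algebra S T]
  [Algebra R T] [IsScalarTower R S T] [Algebra.FormallySmooth R T]

theorem subsingleton_h1_of_injective (h : Function.Injective (mapBaseChange R S T)) :
    Subsingleton (Algebra.H1Cotangent S T) := by
  have hz : ∀ x : Algebra.H1Cotangent S T, x = 0 := fun x => by
    have hδ : Algebra.H1Cotangent.δ R S T x = 0 :=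
      h (((Algebra.H1Cotangent.exact_δ_mapBaseChange R S T).apply_apply_eq_zero x).trans
        (map_zero (mapBaseChange R S T)).symm)
    obtain ⟨y, rfl⟩ := (Algebra.H1Cotangent.exact_map_δ R S T x).1 hδ
    rw [Subsingleton.elim y 0, map_zero]
  exact ⟨fun a b => (hz a).trans (hz b).symm⟩

theorem injective_of_subsingleton_h1 [Subsingleton (Algebra.H1Cotangent S T)] :
    Function.Injective (mapBaseChange R S T) := by
  rw [injective_iff_map_eq_zero]
  intro x hx
  obtain ⟨y, rfl⟩ := (Algebra.H1Cotangent.exact_δ_mapBaseChange R S T x).1 hx
  rw [Subsingleton.elim y 0, map_zero]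

/-- Smoothness over the intermediate ring is a left inverse of the map of differentials. -/
theorem formallySmooth_iff_split : Algebra.FormallySmooth S T ↔
    ∃ r : Ω[T⁄R] →ₗ[T] T ⊗[S] Ω[S⁄R], r ∘ₗ mapBaseChange R S T = LinearMap.id := by
  have hex := exact_mapBaseChange_map R S T
  have hsurj : Function.Surjective (map R S T T) := map_surjective R S T
  constructor
  · intro h
    have hinj := injective_of_subsingleton_h1 (R := R) (S := S) (T := T)
    have hl : ∃ l, map R S T T ∘ₗ l = LinearMap.id :=
      Module.projective_lifting_property _ _ hsurj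
    exact ((hex.split_tfae hinj hsurj).out 0 1).1 hl
  · rintro ⟨r, hr⟩
    have hinj : Function.Injective (mapBaseChange R S T) :=
      Function.LeftInverse.injective (g := r) (LinearMap.congr_fun hr)
    have h01 : (∃ l, map R S T T ∘ₗ l = LinearMap.id) ↔
        ∃ l, l ∘ₗ mapBaseChange R S T = LinearMap.id := (hex.split_tfae hinj hsurj).out 0 1
    obtain ⟨l, hl⟩ := h01.2 ⟨r, hr⟩
    exact ⟨Module.Projective.of_split l (map R S T T) hl, subsingleton_h1_of_injective hinj⟩

/-- Étaleness over the intermediate ring is bijectivity of the map of differentials. -/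
theorem formallyEtale_iff_bijective : Algebra.FormallyEtale S T ↔
    Function.Bijective (mapBaseChange R S T) := by
  constructor
  · intro h
    refine ⟨injective_of_subsingleton_h1, fun x => (exact_mapBaseChange_map R S T x).1 (Subsingleton.elim _ _)⟩
  · intro h
    have hΩ : Subsingleton (Ω[T⁄S]) := by
      have hz : ∀ x : Ω[T⁄S], x = 0 := fun x => by
        obtain ⟨y, rfl⟩ := map_surjective R S T x
        obtain ⟨z, rfl⟩ := h.2 y
        exact (exact_mapBaseChange_map R S T).apply_apply_eq_zero z
      exact ⟨fun a b => (hz a).trans (hz b).symm⟩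
    haveI : Algebra.FormallyUnramified S T := ⟨hΩ⟩
    haveI : Algebra.FormallySmooth S T :=
      ⟨Module.Projective.of_free (R := T), subsingleton_h1_of_injective h.1⟩
    exact Algebra.FormallyEtale.of_formallyUnramified_and_formallySmooth

end EtAlgEasy
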