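import Mathlib

/-!
Local rings of smooth morphisms are localizations of smooth algebras over the local ring of the base.
-/

set_option autoImplicit false
set_option backward.isDefEq.respectTransparency false
set_option linter.style.haveILetI false

universe u

open CategoryTheory AlgebraicGeometry TopologicalSpace
open scoped TensorProduct

namespace Groth.Agent.EtAlgEasy.SmoothStalk

theorem exists_model (A B Ay Bx : Type u) [CommRing A] [CommRing B] [Algebra A B] [Algebra.Smooth A B]
    [CommRing Ay] [CommRing Bx] (q : Ideal B) [q.IsPrime] [Algebra B Bx] [IsLocalization.AtPrime Bx q]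
    [Algebra A Ay] [IsLocalization.AtPrime Ay (q.comap (algebraMap A B))] [Algebra Ay Bx] [Algebra A Bx]
    [IsScalarTower A B Bx] [IsScalarTower A Ay Bx] :
    ∃ (S : Type u) (_ : CommRing S) (_ : Algebra Ay S) (_ : Algebra.Smooth Ay S) (q' : Ideal S) (_ : q'.IsPrime)
      (e : Localization.AtPrime q' ≃+* Bx),
      ∀ a, e (algebraMap S (Localization.AtPrime q') (algebraMap Ay S a)) = algebraMap Ay Bx a := by
  let p := q.comap (algebraMap A B)
  let M := Algebra.algebraMapSubmonoid B p.primeCompl
  let S := Localization M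
  let g : Ay →+* S := IsLocalization.map S (algebraMap A B) (T := M) (M := p.primeCompl)
    (fun x hx => ⟨x, hx, rfl⟩)
  letI : Algebra Ay S := g.toAlgebra
  haveI : IsScalarTower A Ay S := .of_algebraMap_eq fun a => by
    show algebraMap A S a = g (algebraMap A Ay a)
    rw [IsLocalization.map_eq, ← IsScalarTower.algebraMap_apply]
  haveI : Algebra.IsPushout A Ay B S := .symm <| Algebra.isPushout_of_isLocalization p.primeCompl _ _ _
  haveI : Algebra.Smooth Ay S := Algebra.Smooth.of_equiv (Algebra.IsPushout.equiv A Ay B S)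
  have hd : Disjoint (M : Set B) (q : Set B) := Set.disjoint_left.2 fun b hb hbq => by
    obtain ⟨a, ha, rfl⟩ := hb
    exact ha hbq
  let q' := q.map (algebraMap B S)
  haveI : q'.IsPrime := IsLocalization.isPrime_of_isPrime_disjoint M S q ‹_› hd
  have hq : q'.comap (algebraMap B S) = q := IsLocalization.under_map_of_isPrime_disjoint M S ‹_› hd
  haveI : IsLocalization.AtPrime (Localization.AtPrime q') q := by
    have := IsLocalization.isLocalization_isLocalization_atPrime_isLocalization M (Localization.AtPrime q') q'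
    simpa only [hq] using this
  let e : Localization.AtPrime q' ≃ₐ[B] Bx := IsLocalization.algEquiv q.primeCompl _ _
  refine ⟨S, inferInstance, inferInstance, inferInstance, q', inferInstance, e.toRingEquiv, fun a => ?_⟩
  refine congr($(IsLocalization.ringHom_ext p.primeCompl (j := ((e : Localization.AtPrime q' →+* Bx).comp
    ((algebraMap S (Localization.AtPrime q')).comp g))) (k := algebraMap Ay Bx) ?_) a)
  ext z
  show e (algebraMap S _ (g (algebraMap A Ay z))) = algebraMap Ay Bx (algebraMap A Ay z)
  rw [IsLocalization.map_eq, ← IsScalarTower.algebraMap_apply B S (Localization.AtPrime q'), e.commutes,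
    ← IsScalarTower.algebraMap_apply A B Bx, ← IsScalarTower.algebraMap_apply A Ay Bx]

theorem exists_model_stalk {X Y : Scheme.{u}} (f : X ⟶ Y) [LocallyOfFinitePresentation f] {x : X}
    (hx : x ∈ f.smoothLocus) :
    ∃ (S : Type u) (_ : CommRing S) (_ : Algebra (Y.presheaf.stalk (f x)) S)
      (_ : Algebra.Smooth (Y.presheaf.stalk (f x)) S) (q' : Ideal S) (_ : q'.IsPrime)
      (e : Localization.AtPrime q' ≃+* X.presheaf.stalk x),
      ∀ a, e (algebraMap S (Localization.AtPrime q') (algebraMap _ S a)) = (f.stalkMap x).hom a := by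
  obtain ⟨V, hV, U, hU, e, hxU, hsm⟩ := exists_smooth_of_formallySmooth_stalk f x hx
  let A := Γ(Y, V); let B := Γ(X, U)
  let Ay := Y.presheaf.stalk (f x); let Bx := X.presheaf.stalk x
  letI : Algebra A B := (f.appLE V U e).hom.toAlgebra
  haveI : Algebra.Smooth A B := hsm
  letI : Algebra A Ay := TopCat.Presheaf.algebra_section_stalk Y.presheaf ⟨f x, e hxU⟩
  letI : Algebra B Bx := TopCat.Presheaf.algebra_section_stalk X.presheaf ⟨x, hxU⟩
  letI : Algebra Ay Bx := (f.stalkMap x).hom.toAlgebra
  letI : Algebra A Bx := ((algebraMap B Bx).comp (algebraMap A B)).toAlgebra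
  haveI : IsScalarTower A B Bx := .of_algebraMap_eq' rfl
  haveI : IsScalarTower A Ay Bx := .of_algebraMap_eq fun a => by
    show X.presheaf.germ U x hxU (f.appLE V U e a) = f.stalkMap x (Y.presheaf.germ V (f x) (e hxU) a)
    rw [Scheme.Hom.germ_stalkMap_apply]
    exact congr($(X.presheaf.germ_res (homOfLE e) x hxU) (f.app V a))
  let q := (hU.primeIdealOf ⟨x, hxU⟩).asIdeal
  haveI : IsLocalization.AtPrime Bx q := hU.isLocalization_stalk ⟨x, hxU⟩
  haveI : IsLocalization.AtPrime Ay (q.comap (algebraMap A B)) := by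
    have h1 : (hV.primeIdealOf ⟨f x, e hxU⟩).asIdeal = q.comap (algebraMap A B) :=
      congr($(IsAffineOpen.comap_primeIdealOf_appLE V hV U hU e hxU).1).symm
    have h2 := hV.isLocalization_stalk ⟨f x, e hxU⟩
    simpa only [h1] using h2
  exact exists_model A B Ay Bx q

theorem mem_smoothLocus_of_nhd {X Y : Scheme.{u}} (f : X ⟶ Y) [LocallyOfFinitePresentation f] {x : X}
    (hx : ∃ U : X.Opens, x ∈ U ∧ Smooth (U.ι ≫ f)) : x ∈ f.smoothLocus := by
  obtain ⟨U, hxU, hU⟩ := hx
  have h : U.ι ⁻¹ᵁ f.smoothLocus = (U.ι ≫ f).smoothLocus := Scheme.Hom.preimage_smoothLocus_eq _ _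
  haveI := hU
  rw [Scheme.Hom.smoothLocus_eq_top (U.ι ≫ f)] at h
  exact (show (⟨x, hxU⟩ : U) ∈ U.ι ⁻¹ᵁ f.smoothLocus by rw [h]; trivial)

theorem flat_stalkMap {X Y : Scheme.{u}} (f : X ⟶ Y) [LocallyOfFinitePresentation f] {x : X}
    (hx : x ∈ f.smoothLocus) : (f.stalkMap x).hom.Flat := by
  obtain ⟨S, _, _, _, q', _, e, he⟩ := exists_model_stalk f hx
  have h : (f.stalkMap x).hom =
      (e : Localization.AtPrime q' →+* X.presheaf.stalk x).comp
        ((algebraMap S (Localization.AtPrime q')).comp (algebraMap (Y.presheaf.stalk (f x)) S)) :=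
    RingHom.ext fun a => (he a).symm
  rw [h]
  exact RingHom.Flat.comp (RingHom.Flat.comp (RingHom.flat_algebraMap_iff.2 inferInstance)
    (RingHom.flat_algebraMap_iff.2 inferInstance)) (RingHom.Flat.of_bijective e.bijective)

end Groth.Agent.EtAlgEasy.SmoothStalk
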