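import Mathlib

/-!
Special signatures of deformation data.
-/

set_option autoImplicit false

universe u

namespace Groth.Agent.EtAlgEasy.SpecialSig

theorem sum_fract_and_floor {B : Type u} [Fintype B] [DecidableEq B] (B₀ : Finset B) (hB₀ : B₀.card = 3)
    (p : ℕ) (s : ℕ) (hs : 0 < s)
    (m : B → ℕ) (hm : ∀ j, 0 < m j) (hmp : ∀ j, Nat.Coprime (m j) p)
    (σ : Fin s → B → ℚ) (hint : ∀ i j, ∃ h : ℤ, σ i j = (h : ℚ) / (m j : ℚ))
    (hsum : ∀ i, ∑ j, (σ i j - 1) = -2)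
    (hfract : ∀ i j, Int.fract (σ i j) = Int.fract ((p : ℚ) ^ (i : ℕ) * σ ⟨0, hs⟩ j))
    (hne : ∀ i j, σ i j ≠ 1)
    (hB₀min : ∀ j ∈ B₀, (∃ i, ⌊σ i j⌋ = 0) ∧ ∀ i, 0 ≤ ⌊σ i j⌋)
    (hBmin : ∀ j ∉ B₀, (∃ i, ⌊σ i j⌋ = 1) ∧ ∀ i, 1 ≤ ⌊σ i j⌋) :
    (∀ i, ∑ j, Int.fract (σ i j) = 1) ∧ (∀ i j, ⌊σ i j⌋ = if j ∈ B₀ then 0 else 1) := by
  let lo : B → ℤ := fun j => if j ∈ B₀ then 0 else 1
  have hlo : ∀ i j, lo j ≤ ⌊σ i j⌋ := fun i j => by
    by_cases h : j ∈ B₀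
    · simpa [lo, h] using (hB₀min j h).2 i
    · simpa [lo, h] using (hBmin j h).2 i
  have hlosum : ∑ j, lo j = (Fintype.card B : ℤ) - 3 := by
    have : ∀ j, lo j = 1 - (if j ∈ B₀ then 1 else 0) := fun j => by by_cases h : j ∈ B₀ <;> simp [lo, h]
    rw [Finset.sum_congr rfl fun j _ => this j, Finset.sum_sub_distrib, Finset.sum_boole]
    simp [Finset.filter_mem_eq_inter, hB₀]
  have htot : ∀ i, (∑ j, (⌊σ i j⌋ : ℚ)) + ∑ j, Int.fract (σ i j) = (Fintype.card B : ℚ) - 2 := fun i => by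
    have h := hsum i
    rw [Finset.sum_sub_distrib, Finset.sum_const, Finset.card_univ, nsmul_eq_mul, mul_one] at h
    rw [← Finset.sum_add_distrib, Finset.sum_congr rfl fun j _ => Int.floor_add_fract (σ i j)]
    linarith
  -- some fractional part is nonzero in each row
  have hnz : ∀ i, ∃ j, Int.fract (σ i j) ≠ 0 := by
    intro i₀
    by_contra hall
    push Not at hall
    have hint0 : ∀ j, Int.fract (σ ⟨0, hs⟩ j) = 0 := fun j => by
      obtain ⟨h, hh⟩ := hint ⟨0, hs⟩ j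
      have h1 := hall j
      rw [hfract, Int.fract_eq_zero_iff] at h1
      obtain ⟨z, hz⟩ := h1
      have hm' : (m j : ℚ) ≠ 0 := by exact_mod_cast (hm j).ne'
      have h2 : ((p : ℤ) ^ (i₀ : ℕ) * h : ℤ) = z * (m j : ℤ) := by
        have : ((((p : ℤ) ^ (i₀ : ℕ) * h : ℤ)) : ℚ) = ((z * (m j : ℤ) : ℤ) : ℚ) := by
          push_cast
          rw [hz, hh]
          field_simp
        exact_mod_cast this
      have hcop : IsCoprime (m j : ℤ) ((p : ℤ) ^ (i₀ : ℕ)) :=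
        (Nat.isCoprime_iff_coprime.2 (hmp j)).pow_right
      obtain ⟨d, hd⟩ := hcop.dvd_of_dvd_mul_left (Dvd.intro_left z h2.symm)
      rw [hh, hd, Int.fract_eq_zero_iff]
      exact ⟨d, by push_cast; field_simp⟩
    have hallint : ∀ i j, σ i j = (⌊σ i j⌋ : ℚ) := fun i j => by
      have h1 : Int.fract (σ i j) = 0 := by
        obtain ⟨z, hz⟩ := Int.fract_eq_zero_iff.1 (hint0 j)
        rw [hfract, ← hz, Int.fract_eq_zero_iff]
        exact ⟨(p : ℤ) ^ (i : ℕ) * z, by push_cast; ring⟩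
      have := Int.floor_add_fract (σ i j)
      rw [h1, add_zero] at this
      exact this.symm
    have hB : ∀ j, j ∈ B₀ := fun j => by
      by_contra hj
      obtain ⟨i, hi⟩ := (hBmin j hj).1
      exact hne i j (by rw [hallint i j, hi]; norm_num)
    have hcard : Fintype.card B = 3 := by
      rw [← Finset.card_univ, show (Finset.univ : Finset B) = B₀ from Finset.ext fun j => by simp [hB j], hB₀]
    have h := htot ⟨0, hs⟩
    rw [Finset.sum_eq_zero (f := fun j => Int.fract (σ ⟨0, hs⟩ j)) fun j _ => hint0 j, hcard, add_zero] at h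
    have h' : ∑ j, ⌊σ ⟨0, hs⟩ j⌋ = 1 := by
      have : ((∑ j, ⌊σ ⟨0, hs⟩ j⌋ : ℤ) : ℚ) = ((1 : ℤ) : ℚ) := by push_cast; rw [h]; norm_num
      exact_mod_cast this
    have hnn : ∀ j, 0 ≤ ⌊σ ⟨0, hs⟩ j⌋ := fun j => (hB₀min j (hB j)).2 _
    obtain ⟨j, hj, hj0⟩ := Finset.exists_ne_zero_of_sum_ne_zero (h'.trans_ne one_ne_zero)
    have hle := Finset.single_le_sum (f := fun j => ⌊σ ⟨0, hs⟩ j⌋) (fun j _ => hnn j) hj
    have : ⌊σ ⟨0, hs⟩ j⌋ = 1 := by have := hnn j; simp only [h'] at hle; omega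
    exact hne _ j (by rw [hallint, this]; norm_num)
  have key : ∀ i, ∑ j, ⌊σ i j⌋ = (Fintype.card B : ℤ) - 3 := fun i => by
    obtain ⟨j, hj⟩ := hnz i
    have hpos : 0 < ∑ j, Int.fract (σ i j) :=
      Finset.sum_pos' (fun j _ => Int.fract_nonneg _) ⟨j, Finset.mem_univ _, lt_of_le_of_ne (Int.fract_nonneg _) (Ne.symm hj)⟩
    have h1 : ((∑ j, ⌊σ i j⌋ : ℤ) : ℚ) < (((Fintype.card B : ℤ) - 2 : ℤ) : ℚ) := by
      push_cast
      linarith [htot i]
    have h1' : ∑ j, ⌊σ i j⌋ < (Fintype.card B : ℤ) - 2 := by exact_mod_cast h1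
    have h2 : (Fintype.card B : ℤ) - 3 ≤ ∑ j, ⌊σ i j⌋ := hlosum ▸ Finset.sum_le_sum fun j _ => hlo i j
    omega
  refine ⟨fun i => ?_, fun i j => ?_⟩
  · have h := htot i
    have hk : (∑ j, (⌊σ i j⌋ : ℚ)) = (Fintype.card B : ℚ) - 3 := by exact_mod_cast key i
    linarith
  · exact ((Finset.sum_eq_sum_iff_of_le fun j _ => hlo i j).1 (hlosum.trans (key i).symm) j (Finset.mem_univ j)).symm

end Groth.Agent.EtAlgEasy.SpecialSig
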