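import Groth.Prelude.Def_W4stkdualitygroupp2Univ
import Mathlib

/-!
The universal family of n equations in n variables: the universal algebra is a polynomial ring
over the integers, and it is étale over the coefficient ring at some prime.
-/

set_option autoImplicit false

open MvPolynomial Synt

namespace Groth.Agent.EtAlgEasy.UnivFamily

variable (n d : ℕ)

/-- The zero exponent vector. -/
def idxZero : UnivIdx n d := ⟨fun _ => 0, by simp⟩

/-- The exponent vector of the `i`-th variable. -/
def idxUnit (hd : 1 ≤ d) (i : Fin n) : UnivIdx n d :=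
  ⟨fun k => if k = i then ⟨1, by omega⟩ else 0, by
    rw [Finset.sum_eq_single i] <;> simp +contextual [hd]⟩

theorem exponent_idxUnit (hd : 1 ≤ d) (i : Fin n) :
    (idxUnit n d hd i).exponent = Finsupp.single i 1 := by
  ext k
  by_cases h : k = i
  · subst h; simp [UnivIdx.exponent, idxUnit]
  · simp [UnivIdx.exponent, idxUnit, h]

theorem exponent_idxZero : (idxZero n d).exponent = 0 := by
  ext k; simp [UnivIdx.exponent, idxZero]

theorem exponent_injective : Function.Injective (UnivIdx.exponent (n := n) (d := d)) := by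
  intro E F h
  apply Subtype.ext
  funext i
  apply Fin.ext
  have := DFunLike.congr_fun h i
  simpa [UnivIdx.exponent] using this

/-- The free parameters. -/
abbrev Free : Type := {p : Fin n × UnivIdx n d // p.2 ≠ idxZero n d} ⊕ Fin n

noncomputable def baseImg (p : Fin n × UnivIdx n d) : MvPolynomial (Free n d) ℤ :=
  if h : p.2 = idxZero n d then
    - ∑ E : {E : UnivIdx n d // E ≠ idxZero n d},
        X (Sum.inl ⟨(p.1, E.1), E.2⟩) * (E.1.exponent.prod fun k m => (X (Sum.inr k)) ^ m)
  else X (Sum.inl ⟨p, h⟩)

noncomputable def toFreePoly : MvPolynomial (Fin n) (UnivBase n d) →+* MvPolynomial (Free n d) ℤ :=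
  eval₂Hom (aeval (baseImg n d)).toRingHom (fun j => X (Sum.inr j))

theorem toFreePoly_univPoly (i : Fin n) : toFreePoly n d (univPoly n d i) = 0 := by
  classical
  rw [univPoly, map_sum, ← Finset.add_sum_erase _ _ (Finset.mem_univ (idxZero n d))]
  simp only [toFreePoly, eval₂Hom_monomial, AlgHom.toRingHom_eq_coe, RingHom.coe_coe, aeval_X,
    exponent_idxZero, Finsupp.prod_zero_index, mul_one]
  rw [baseImg, dif_pos rfl, neg_add_eq_zero]
  rw [Finset.sum_subtype (p := fun E => E ≠ idxZero n d) (Finset.univ.erase (idxZero n d)) (fun E => by simp)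
    (f := fun E : UnivIdx n d => baseImg n d (i, E) * E.exponent.prod fun k m => (X (Sum.inr k)) ^ m)]
  refine Finset.sum_congr rfl fun E _ => ?_
  rw [baseImg, dif_neg (show (i, E.1).2 ≠ idxZero n d from E.2)]

noncomputable def toFree : UnivAlg n d →+* MvPolynomial (Free n d) ℤ :=
  Ideal.Quotient.lift (univIdeal n d) (toFreePoly n d) fun x hx => by
    refine RingHom.mem_ker.1 ((Ideal.span_le.2 ?_) hx)
    rintro _ ⟨i, rfl⟩
    exact toFreePoly_univPoly n d i

noncomputable def ofFree : MvPolynomial (Free n d) ℤ →+* UnivAlg n d :=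
  (aeval (R := ℤ) (Sum.elim (fun p => UnivAlg.mk n d (C (X p.1))) (fun j => UnivAlg.mk n d (X j)))).toRingHom

theorem ofFree_baseImg (p : Fin n × UnivIdx n d) :
    ofFree n d (baseImg n d p) = UnivAlg.mk n d (C (X p)) := by
  classical
  obtain ⟨i, E₀⟩ := p
  unfold baseImg
  split_ifs with h
  · have h' : E₀ = idxZero n d := h
    subst h'
    have hz : UnivAlg.mk n d (univPoly n d i) = 0 :=
      Ideal.Quotient.eq_zero_iff_mem.2 (Ideal.subset_span ⟨i, rfl⟩)
    rw [univPoly, map_sum, ← Finset.add_sum_erase _ _ (Finset.mem_univ (idxZero n d)),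
      exponent_idxZero, show monomial (0 : Fin n →₀ ℕ) (X (i, idxZero n d) : UnivBase n d) =
        C (X (i, idxZero n d)) from rfl, add_eq_zero_iff_eq_neg,
      Finset.sum_subtype (p := fun E => E ≠ idxZero n d) (Finset.univ.erase (idxZero n d)) (fun E => by simp)] at hz
    rw [hz, map_neg, map_sum]
    congr 1
    refine Finset.sum_congr rfl fun E _ => ?_
    rw [monomial_eq, map_mul, map_mul]
    simp only [Finsupp.prod, map_prod, map_pow]
    simp [ofFree]
  · simp [ofFree]

/-- The universal algebra is a polynomial ring over the integers. -/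
noncomputable def ringEquiv : UnivAlg n d ≃+* MvPolynomial (Free n d) ℤ :=
  RingEquiv.ofRingHom (toFree n d) (ofFree n d)
    (by
      refine ringHom_ext (fun r => by simp) fun v => ?_
      rcases v with ⟨p, hp⟩ | j
      · show toFree n d (ofFree n d (X (Sum.inl ⟨p, hp⟩))) = X (Sum.inl ⟨p, hp⟩)
        have : ofFree n d (X (Sum.inl ⟨p, hp⟩)) = UnivAlg.mk n d (C (X p)) := by simp [ofFree]
        rw [this]
        show toFreePoly n d (C (X p)) = _
        simp [toFreePoly, baseImg, hp]
      · show toFree n d (ofFree n d (X (Sum.inr j))) = X (Sum.inr j)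
        have : ofFree n d (X (Sum.inr j)) = UnivAlg.mk n d (X j) := by simp [ofFree]
        rw [this]
        show toFreePoly n d (X j) = _
        simp [toFreePoly])
    (by
      refine Ideal.Quotient.ringHom_ext ?_
      refine ringHom_ext (fun a => ?_) fun j => ?_
      · show ofFree n d (toFreePoly n d (C a)) = UnivAlg.mk n d (C a)
        have : ((ofFree n d).comp ((toFreePoly n d).comp C)) =
            (UnivAlg.mk n d).toRingHom.comp C := by
          refine ringHom_ext (fun r => by simp) fun p => ?_
          show ofFree n d (toFreePoly n d (C (X p))) = _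
          rw [show toFreePoly n d (C (X p)) = baseImg n d p by simp [toFreePoly]]
          exact ofFree_baseImg n d p
        exact RingHom.congr_fun this a
      · show ofFree n d (toFreePoly n d (X j)) = UnivAlg.mk n d (X j)
        simp [toFreePoly, ofFree])

/-- The coefficient specialisation giving the equations `x_i = 0`. -/
noncomputable def spec : UnivBase n d →+* ℚ :=
  (aeval (R := ℤ) fun p => if p.2.exponent = Finsupp.single p.1 1 then (1 : ℚ) else 0).toRingHom

/-- The Jacobian determinant. -/
noncomputable def jac : MvPolynomial (Fin n) (UnivBase n d) :=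
  (Matrix.of fun i j => pderiv i (univPoly n d j)).det

theorem exists_point (hd : 1 ≤ d) : ∃ ψ : UnivAlg n d →+* ℚ, ψ (UnivAlg.mk n d (jac n d)) = 1 := by
  classical
  let φ : MvPolynomial (Fin n) (UnivBase n d) →+* ℚ := eval₂Hom (spec n d) 0
  have hspec : ∀ i (E : UnivIdx n d), spec n d (X (i, E)) = if E = idxUnit n d hd i then 1 else 0 := by
    intro i E
    simp only [spec, AlgHom.toRingHom_eq_coe, RingHom.coe_coe, aeval_X]
    by_cases h : E = idxUnit n d hd i
    · simp [h, exponent_idxUnit]
    · rw [if_neg h, if_neg]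
      intro h'
      exact h (exponent_injective n d (h'.trans (exponent_idxUnit n d hd i).symm))
  have hf : ∀ i, φ (univPoly n d i) = 0 := by
    intro i
    rw [univPoly, map_sum, Finset.sum_eq_single (idxUnit n d hd i)]
    · simp only [φ, eval₂Hom_monomial]; simp [exponent_idxUnit]
    · intro E _ hE
      simp only [φ, eval₂Hom_monomial]; simp [hspec, hE]
    · simp
  refine ⟨Ideal.Quotient.lift (univIdeal n d) φ fun x hx => RingHom.mem_ker.1
    ((Ideal.span_le.2 (by rintro _ ⟨i, rfl⟩; exact hf i)) hx), ?_⟩
  show φ (jac n d) = 1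
  rw [jac, RingHom.map_det]
  convert Matrix.det_one (n := Fin n) (R := ℚ)
  ext i j
  simp only [RingHom.mapMatrix_apply, Matrix.map_apply, Matrix.of_apply]
  rw [univPoly, map_sum, map_sum, Finset.sum_eq_single (idxUnit n d hd j)]
  · rw [pderiv_monomial, exponent_idxUnit]
    by_cases h : i = j
    · subst h
      simp only [φ, eval₂Hom_monomial]; simp [hspec]
    · simp only [φ, eval₂Hom_monomial]; simp [Matrix.one_apply_ne h, Finsupp.single_apply, Ne.symm h]
  · intro E _ hE
    rw [pderiv_monomial]
    simp only [φ, eval₂Hom_monomial]; simp [hspec, hE]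
  · simp

open Algebra in
theorem exists_etale_point (hd : 1 ≤ d) : ∃ q : PrimeSpectrum (UnivAlg n d),
    Algebra.QuasiFiniteAt (UnivBase n d) q.asIdeal ∧ Algebra.IsEtaleAt (UnivBase n d) q.asIdeal := by
  obtain ⟨ψ, hψ⟩ := exists_point n d hd
  let g : UnivAlg n d := UnivAlg.mk n d (jac n d)
  let q : PrimeSpectrum (UnivAlg n d) := ⟨RingHom.ker ψ, RingHom.ker_isPrime ψ⟩
  haveI : q.asIdeal.IsPrime := q.isPrime
  have hgq : g ∉ q.asIdeal := by
    show ψ g ≠ 0
    rw [hψ]; norm_num
  let P₀ : PreSubmersivePresentation (UnivBase n d) (UnivAlg n d) (Fin n) (Fin n) :=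
    PreSubmersivePresentation.naive id Function.injective_id
  have hj : P₀.jacobian = g := by
    rw [PreSubmersivePresentation.jacobian_eq_jacobiMatrix_det]
    show algebraMap P₀.Ring (UnivAlg n d) P₀.jacobiMatrix.det = UnivAlg.mk n d (jac n d)
    have : P₀.jacobiMatrix.det = jac n d := by
      unfold jac
      congr 1
      apply Matrix.ext
      intro i j
      exact PreSubmersivePresentation.jacobiMatrix_naive (v := univPoly n d) _ Function.injective_id _ _ i j
    rw [this]; rfl
  let L := Localization.Away g
  let Q := PreSubmersivePresentation.comp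
    (PreSubmersivePresentation.localizationAway L g) P₀
  let S : SubmersivePresentation (UnivBase n d) L (Unit ⊕ Fin n) (Unit ⊕ Fin n) :=
    { toPreSubmersivePresentation := Q
      jacobian_isUnit := by
        rw [PreSubmersivePresentation.comp_jacobian_eq_jacobian_smul_jacobian,
          PreSubmersivePresentation.localizationAway_jacobian, hj, Algebra.smul_def]
        exact (IsLocalization.Away.algebraMap_isUnit g).mul (IsLocalization.Away.algebraMap_isUnit g) }
  haveI : IsStandardSmoothOfRelativeDimension 0 (UnivBase n d) L :=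
    S.isStandardSmoothOfRelativeDimension (by simp [Algebra.Presentation.dimension])
  haveI : Etale (UnivBase n d) L := inferInstance
  haveI : FinitePresentation (UnivBase n d) (UnivAlg n d) := P₀.finitePresentation_of_isFinite
  have het : IsEtaleAt (UnivBase n d) q.asIdeal := basicOpen_subset_etaleLocus_iff_etale.2 ‹_› hgq
  refine ⟨q, ?_, het⟩
  haveI : EssFiniteType (UnivAlg n d) (Localization.AtPrime q.asIdeal) :=
    EssFiniteType.of_isLocalization _ q.asIdeal.primeCompl
  haveI : EssFiniteType (UnivBase n d) (Localization.AtPrime q.asIdeal) :=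
    EssFiniteType.comp (UnivBase n d) (UnivAlg n d) _
  exact inferInstanceAs (QuasiFinite (UnivBase n d) (Localization.AtPrime q.asIdeal))

theorem isDomain_and_regular : IsDomain (UnivAlg n d) ∧
    ∀ q : PrimeSpectrum (UnivAlg n d), IsRegularLocalRing (Localization.AtPrime q.asIdeal) := by
  haveI : IsRegularRing (UnivAlg n d) := IsRegularRing.of_ringEquiv (ringEquiv n d).symm
  exact ⟨(ringEquiv n d).toMulEquiv.isDomain _, fun q => inferInstance⟩

end Groth.Agent.EtAlgEasy.UnivFamily
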