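import Mathlib

/-!
Equality of morphisms to an unramified scheme and descent of quasi-compactness.
-/

set_option autoImplicit false

universe u

open CategoryTheory CategoryTheory.Limits AlgebraicGeometry TopologicalSpace

namespace Groth.Agent.EtAlgEasy.Unram17E

variable {X Y S : Scheme.{u}}

theorem exists_eqOpen (h : Y ⟶ S) [FormallyUnramified h] [LocallyOfFiniteType h] (f g : X ⟶ Y)
    (w : g ≫ h = f ≫ h) (s : S) (hs : (f ≫ h).fiberι s ≫ f = (f ≫ h).fiberι s ≫ g) :
    ∃ E : X.Opens, E.ι ≫ f = E.ι ≫ g ∧ (∀ x : X, (f ≫ h) x = s → x ∈ E) ∧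
      (IsSeparated h → IsClosed (E : Set X)) := by
  let l : X ⟶ pullback h h := pullback.lift f g w.symm
  let Δ := pullback.diagonal h
  haveI : IsOpenImmersion Δ := inferInstance
  let E := l ⁻¹ᵁ Δ.opensRange
  refine ⟨E, ?_, fun x hx => ?_, fun hsep => ?_⟩
  · have hr : Set.range (E.ι ≫ l) ⊆ Set.range Δ := by
      rintro _ ⟨z, rfl⟩
      exact z.2
    have hf := IsOpenImmersion.lift_fac Δ (E.ι ≫ l) hr
    have h1 := congrArg (fun t => t ≫ pullback.fst h h) hf
    have h2 := congrArg (fun t => t ≫ pullback.snd h h) hf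
    simp only [Δ, l, Category.assoc, pullback.diagonal_fst, pullback.diagonal_snd, pullback.lift_fst,
      pullback.lift_snd, Category.comp_id] at h1 h2
    rw [← h1, ← h2]
  · obtain ⟨y, rfl⟩ : x ∈ Set.range ((f ≫ h).fiberι s) := by
      rw [Scheme.Hom.range_fiberι]; exact hx
    have he : (f ≫ h).fiberι s ≫ l = ((f ≫ h).fiberι s ≫ f) ≫ Δ :=
      pullback.hom_ext (by simp only [l, Δ, Category.assoc, pullback.lift_fst, pullback.diagonal_fst, Category.comp_id]) (by simp only [l, Δ, Category.assoc, pullback.lift_snd, pullback.diagonal_snd, Category.comp_id]; exact hs.symm)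
    exact ⟨((f ≫ h).fiberι s ≫ f) y, congr($he y).symm⟩
  · exact (Δ.isClosedEmbedding.isClosed_range).preimage l.continuous

theorem exists_nhd_eq (h : Y ⟶ S) [FormallyUnramified h] [LocallyOfFiniteType h] (f g : X ⟶ Y)
    (w : g ≫ h = f ≫ h) (hc : IsClosedMap (f ≫ h).base) (s : S)
    (hs : (f ≫ h).fiberι s ≫ f = (f ≫ h).fiberι s ≫ g) :
    ∃ V : S.Opens, s ∈ V ∧ ((f ≫ h) ⁻¹ᵁ V).ι ≫ f = ((f ≫ h) ⁻¹ᵁ V).ι ≫ g ∧
      (IsOpenMap (f ≫ h).base → IsSeparated h → IsClosed (V : Set S)) := by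
  obtain ⟨E, he, hfib, hcl⟩ := exists_eqOpen h f g w s hs
  let V : S.Opens := ⟨((f ≫ h).base '' (E : Set X)ᶜ)ᶜ, (hc _ E.2.isClosed_compl).isOpen_compl⟩
  have hle : (f ≫ h) ⁻¹ᵁ V ≤ E := fun x hx => by
    by_contra hxE
    exact hx ⟨x, hxE, rfl⟩
  refine ⟨V, ?_, ?_, fun ho hsep => (ho _ (hcl hsep).isOpen_compl).isClosed_compl⟩
  · rintro ⟨x, hx, hxs⟩
    exact hx (hfib x hxs)
  · rw [← X.homOfLE_ι hle, Category.assoc, Category.assoc, he]

theorem quasiCompact_of_comp_surjective {X Y Z : Scheme.{u}} (f : X ⟶ Y) (g : Y ⟶ Z) [Surjective f]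
    [QuasiCompact (f ≫ g)] : QuasiCompact g := by
  refine ⟨fun U hU hc => ?_⟩
  have h := ((QuasiCompact.isCompact_preimage (f := f ≫ g) U hU hc).image f.continuous)
  convert h using 1
  ext y
  refine ⟨fun hy => ?_, ?_⟩
  · obtain ⟨x, rfl⟩ := f.surjective y
    exact ⟨x, hy, rfl⟩
  · rintro ⟨x, hx, rfl⟩
    exact hx

theorem quasiSeparated_of_comp {X Y Z : Scheme.{u}} (f : X ⟶ Y) (g : Y ⟶ Z) [Surjective f] [QuasiCompact f]
    [QuasiSeparated (f ≫ g)] : QuasiSeparated g := by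
  constructor
  let m : pullback (f ≫ g) (f ≫ g) ⟶ pullback g g :=
    pullback.map _ _ _ _ f f (𝟙 Z) (Category.comp_id _) (Category.comp_id _)
  haveI : QuasiCompact m :=
    MorphismProperty.pullbackMap (P := @QuasiCompact) (f := f ≫ g) (g := f ≫ g) (‹QuasiCompact f›) (‹QuasiCompact f›) rfl rfl
  haveI : QuasiCompact (f ≫ pullback.diagonal g) := by
    rw [show f ≫ pullback.diagonal g = pullback.diagonal (f ≫ g) ≫ m from
      pullback.hom_ext (by simp only [m, Category.assoc, pullback.lift_fst, pullback.diagonal_fst, pullback.diagonal_fst_assoc, Category.comp_id]) (by simp only [m, Category.assoc, pullback.lift_snd, pullback.diagonal_snd, pullback.diagonal_snd_assoc, Category.comp_id])]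
    infer_instance
  exact quasiCompact_of_comp_surjective f _

end Groth.Agent.EtAlgEasy.Unram17E
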