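import Groth.Agent.FlatLocus.PointScheme
import Groth.Agent.TopInv.Basic
import Mathlib

/-!
Unramified points via uniqueness of infinitesimal lifts of local points.
-/

set_option autoImplicit false
set_option backward.isDefEq.respectTransparency false
set_option backward.defeqAttrib.useBackward true
set_option linter.style.haveILetI false

universe u

open CategoryTheory CategoryTheory.Limits AlgebraicGeometry TopologicalSpace IsLocalRing
open scoped TensorProduct

namespace Groth.Agent.EtAlgEasy.UnramLift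

theorem eq_of_comp_eq {X Y Y' S : Scheme.{u}} (hX : X ⟶ S) [FormallyUnramified hX] [LocallyOfFiniteType hX]
    (q : Y' ⟶ Y) [Surjective q] (φ₁ φ₂ : Y ⟶ X) (h : φ₁ ≫ hX = φ₂ ≫ hX) (he : q ≫ φ₁ = q ≫ φ₂) : φ₁ = φ₂ := by
  let p := pullback.fst (pullback.lift φ₁ φ₂ h) (pullback.diagonal hX)
  haveI : IsOpenImmersion p := inferInstance
  let t : Y' ⟶ pullback (pullback.lift φ₁ φ₂ h) (pullback.diagonal hX) :=
    pullback.lift q (q ≫ φ₁) (by apply pullback.hom_ext <;> simp [he])
  haveI : Surjective p := ⟨fun y => by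
    obtain ⟨y', rfl⟩ := q.surjective y
    exact ⟨t y', by rw [← Scheme.Hom.comp_apply, pullback.lift_fst]⟩⟩
  haveI := TopInv.isIso_of_surjective_openImmersion p
  have h1 := congrArg (· ≫ pullback.fst hX hX) (pullback.condition (f := pullback.lift φ₁ φ₂ h) (g := pullback.diagonal hX))
  have h2 := congrArg (· ≫ pullback.snd hX hX) (pullback.condition (f := pullback.lift φ₁ φ₂ h) (g := pullback.diagonal hX))
  simp only [Category.assoc, pullback.lift_fst, pullback.lift_snd, pullback.diagonal_fst,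
    pullback.diagonal_snd, Category.comp_id] at h1 h2
  exact (cancel_epi p).mp (h1.trans h2.symm)

theorem surjective_SpecMap {B B' : Type u} [CommRing B] [CommRing B'] (φ : B' →+* B) (hs : Function.Surjective φ)
    (hn : RingHom.ker φ ^ 2 = ⊥) : Surjective (Spec.map (CommRingCat.ofHom φ)) := by
  refine ⟨fun p => ?_⟩
  have hp : RingHom.ker φ ≤ p.asIdeal := fun r hr => p.isPrime.mem_of_pow_mem 2 (by
    have : r ^ 2 ∈ RingHom.ker φ ^ 2 := Ideal.pow_mem_pow hr 2
    rw [hn] at this
    rw [(Submodule.mem_bot _).1 this]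
    exact zero_mem _)
  have : p ∈ Set.range (PrimeSpectrum.comap φ) := by
    rw [range_comap_of_surjective _ _ hs]; exact hp
  exact this

theorem range_subset_open {X : Scheme.{u}} {B : Type u} [CommRing B] [IsLocalRing B]
    (γ : Spec (CommRingCat.of B) ⟶ X) (U : X.Opens) (h : γ (closedPoint B) ∈ U) :
    Set.range γ ⊆ (U : Set X) := by
  rintro _ ⟨p, rfl⟩
  exact ((IsLocalRing.specializes_closedPoint p).map γ.continuous).mem_open U.2 h

theorem lifting_unique_of_unramified {X Y : Scheme.{u}} (f : X ⟶ Y) [LocallyOfFiniteType f] {x : X} {U : X.Opens}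
    (hx : x ∈ U) [FormallyUnramified (U.ι ≫ f)] {B B' : Type u} [CommRing B] [CommRing B'] [IsLocalRing B] [IsLocalRing B']
    (φ : B' →+* B) (hs : Function.Surjective φ) (hn : RingHom.ker φ ^ 2 = ⊥)
    (α : Spec (CommRingCat.of B) ⟶ X) (hα : α (closedPoint B) = x) (γ₁ γ₂ : Spec (CommRingCat.of B') ⟶ X)
    (h1 : Spec.map (CommRingCat.ofHom φ) ≫ γ₁ = α) (h2 : Spec.map (CommRingCat.ofHom φ) ≫ γ₂ = α)
    (hf : γ₁ ≫ f = γ₂ ≫ f) : γ₁ = γ₂ := by
  haveI := surjective_SpecMap φ hs hn
  have hmem : ∀ γ : Spec (CommRingCat.of B') ⟶ X, Spec.map (CommRingCat.ofHom φ) ≫ γ = α →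
      Set.range γ ⊆ Set.range U.ι := fun γ h => by
    rw [Scheme.Opens.range_ι]
    refine range_subset_open γ U ?_
    haveI : IsLocalHom φ := IsLocalHom.of_surjective φ hs
    rw [show closedPoint B' = Spec.map (CommRingCat.ofHom φ) (closedPoint B) from
      (IsLocalRing.comap_closedPoint φ).symm, ← Scheme.Hom.comp_apply, h, hα]
    exact hx
  have e1 := IsOpenImmersion.lift_fac U.ι γ₁ (hmem γ₁ h1)
  have e2 := IsOpenImmersion.lift_fac U.ι γ₂ (hmem γ₂ h2)
  rw [← e1, ← e2]
  congr 1
  refine eq_of_comp_eq (U.ι ≫ f) (Spec.map (CommRingCat.ofHom φ)) _ _ ?_ ?_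
  · rw [reassoc_of% e1, reassoc_of% e2, hf]
  · rw [← cancel_mono U.ι, Category.assoc, Category.assoc, e1, e2, h1, h2]

theorem formallyUnramified_of_unique (R S : Type u) [CommRing R] [CommRing S] [IsLocalRing S] [Algebra R S]
    (h : ∀ (B' : Type u) [CommRing B'] [IsLocalRing B'] (φ : B' →+* S), Function.Surjective φ →
      RingHom.ker φ ^ 2 = ⊥ → ∀ g₁ g₂ : S →+* B', φ.comp g₁ = RingHom.id S → φ.comp g₂ = RingHom.id S →
        g₁.comp (algebraMap R S) = g₂.comp (algebraMap R S) → g₁ = g₂) :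
    Algebra.FormallyUnramified R S := by
  let J := KaehlerDifferential.ideal R S
  let P := (S ⊗[R] S) ⧸ (J ^ 2)
  let φ : P →+* S := Ideal.Quotient.lift _ (Algebra.TensorProduct.lmul' R (S := S)).toRingHom
    (fun a ha => Ideal.pow_le_self two_ne_zero ha)
  have hs : Function.Surjective φ := fun s => ⟨Ideal.Quotient.mk _ (s ⊗ₜ 1), by
    show Algebra.TensorProduct.lmul' R (s ⊗ₜ[R] (1 : S)) = s
    rw [Algebra.TensorProduct.lmul'_apply_tmul, mul_one]⟩
  have hk : RingHom.ker φ = J.map (Ideal.Quotient.mk (J ^ 2)) := by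
    refine le_antisymm (fun z hz => ?_) (Ideal.map_le_iff_le_comap.2 fun a ha => ha)
    obtain ⟨z, rfl⟩ := Ideal.Quotient.mk_surjective z
    exact Ideal.mem_map_of_mem _ hz
  have hn : RingHom.ker φ ^ 2 = ⊥ := by
    rw [hk, ← Ideal.map_pow, Ideal.map_quotient_self]
  haveI : Nontrivial P := φ.domain_nontrivial
  haveI : IsLocalRing P := by
    refine IsLocalRing.of_nonunits_add fun a b ha hb => ?_
    have hnu : ∀ z : P, IsUnit (φ z) → IsUnit z := fun z hz => by
      obtain ⟨w, hw⟩ := hs ((hz.unit⁻¹ : Sˣ) : S)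
      have hmem : z * w - 1 ∈ RingHom.ker φ := by
        rw [RingHom.mem_ker, map_sub, map_mul, hw, map_one, IsUnit.mul_val_inv, sub_self]
      have hnil : IsNilpotent (z * w - 1) := ⟨2, by
        rw [← Submodule.mem_bot P, ← hn]; exact Ideal.pow_mem_pow hmem 2⟩
      have := hnil.isUnit_add_one
      rw [sub_add_cancel] at this
      exact isUnit_of_mul_isUnit_left this
    intro hab
    have := hab.map φ
    rw [map_add] at this
    rcases IsLocalRing.isUnit_or_isUnit_of_isUnit_add this with h' | h'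
    · exact ha (hnu a h')
    · exact hb (hnu b h')
  let g₁ : S →+* P := (Ideal.Quotient.mk _).comp (Algebra.TensorProduct.includeLeftRingHom)
  let g₂ : S →+* P := (Ideal.Quotient.mk _).comp (Algebra.TensorProduct.includeRight : S →ₐ[R] S ⊗[R] S).toRingHom
  have hg := h P φ hs hn g₁ g₂ (RingHom.ext fun s => by
      show Algebra.TensorProduct.lmul' R (s ⊗ₜ[R] (1 : S)) = s
      rw [Algebra.TensorProduct.lmul'_apply_tmul, mul_one]) (RingHom.ext fun s => by
      show Algebra.TensorProduct.lmul' R ((1 : S) ⊗ₜ[R] s) = s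
      rw [Algebra.TensorProduct.lmul'_apply_tmul, one_mul])
    (RingHom.ext fun r => congrArg (Ideal.Quotient.mk _)
      ((Algebra.TensorProduct.algebraMap_apply r).symm.trans
        (Algebra.TensorProduct.algebraMap_apply' r)))
  refine ⟨subsingleton_of_forall_eq 0 fun w => ?_⟩
  have hw : w ∈ Submodule.span S (Set.range (KaehlerDifferential.D R S)) := by
    rw [KaehlerDifferential.span_range_derivation]; trivial
  induction hw using Submodule.span_induction with
  | mem y hy =>
    obtain ⟨s, rfl⟩ := hy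
    rw [KaehlerDifferential.D_apply, Ideal.toCotangent_eq_zero]
    exact Ideal.Quotient.eq.1 (RingHom.congr_fun hg s).symm
  | zero => rfl
  | add a b _ _ ha hb => rw [ha, hb, add_zero]
  | smul r a _ ha => rw [ha, smul_zero]

theorem exists_nhd_iff_lifting_unique {X Y : Scheme.{u}} (f : X ⟶ Y) [LocallyOfFiniteType f] (x : X) :
    (∃ U : X.Opens, x ∈ U ∧ FormallyUnramified (U.ι ≫ f)) ↔
      ∀ (B B' : Type u) [CommRing B] [CommRing B'] [IsLocalRing B] [IsLocalRing B'] (φ : B' →+* B),
      Function.Surjective φ → RingHom.ker φ ^ 2 = ⊥ →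
      ∀ (α : Spec (CommRingCat.of B) ⟶ X) (β : Spec (CommRingCat.of B') ⟶ Y),
        α.base (IsLocalRing.closedPoint B) = x → Spec.map (CommRingCat.ofHom φ) ≫ β = α ≫ f →
        ∀ γ₁ γ₂ : Spec (CommRingCat.of B') ⟶ X,
          Spec.map (CommRingCat.ofHom φ) ≫ γ₁ = α → γ₁ ≫ f = β →
          Spec.map (CommRingCat.ofHom φ) ≫ γ₂ = α → γ₂ ≫ f = β → γ₁ = γ₂ := by
  constructor
  · rintro ⟨U, hx, hU⟩ B B' _ _ _ _ φ hs hn α β hα - γ₁ γ₂ h1 h1' h2 h2'
    exact lifting_unique_of_unramified f hx φ hs hn α hα γ₁ γ₂ h1 h2 (h1'.trans h2'.symm)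
  · intro h
    rw [FlatLocus.exists_formallyUnramified_nhd_iff]
    letI := (f.stalkMap x).hom.toAlgebra
    let R := Y.presheaf.stalk (f x); let S := X.presheaf.stalk x
    suffices Algebra.FormallyUnramified R S from RingHom.formallyUnramified_algebraMap.2 this
    refine formallyUnramified_of_unique R S fun B' _ _ φ hs hn g₁ g₂ hg₁ hg₂ hg => ?_
    let α : Spec (CommRingCat.of S) ⟶ X := X.fromSpecStalk x
    have hf : α ≫ f = Spec.map (f.stalkMap x) ≫ Y.fromSpecStalk (f x) := (Scheme.SpecMap_stalkMap_fromSpecStalk f).symm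
    have hcomp : ∀ g : S →+* B', φ.comp g = RingHom.id S →
        Spec.map (CommRingCat.ofHom φ) ≫ Spec.map (CommRingCat.ofHom g) ≫ α = α := fun g hg => by
      rw [← Spec.map_comp_assoc, ← CommRingCat.ofHom_comp, hg]
      exact (congrArg (· ≫ α) (Spec.map_id _)).trans (Category.id_comp α)
    have hβ : ∀ g : S →+* B', (Spec.map (CommRingCat.ofHom g) ≫ α) ≫ f =
        Spec.map (CommRingCat.ofHom (g.comp (algebraMap R S))) ≫ Y.fromSpecStalk (f x) := fun g => by
      rw [Category.assoc, hf, ← Spec.map_comp_assoc]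
      rfl
    have key := h S B' φ hs hn α ((Spec.map (CommRingCat.ofHom g₁) ≫ α) ≫ f)
      Scheme.fromSpecStalk_closedPoint (by rw [← Category.assoc, hcomp g₁ hg₁])
      _ (Spec.map (CommRingCat.ofHom g₂) ≫ α) (hcomp g₁ hg₁) rfl (hcomp g₂ hg₂) (by rw [hβ, hβ, hg])
    haveI : Mono α := inferInstanceAs (Mono (X.fromSpecStalk x))
    have := Spec.map_injective ((cancel_mono α).1 key)
    exact congrArg CommRingCat.Hom.hom this

end Groth.Agent.EtAlgEasy.UnramLift
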