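import Mathlib
import Groth.Agent.EtaleDec.Main
import Groth.Agent.S9435

/-!
Étale-local splitting of a finite type algebra at an unramified prime, and the decomposition of
an unramified algebra over a prime of the base.
-/

set_option autoImplicit false

universe u

open TensorProduct

namespace Groth.Agent.EtAlgEasy.UnramSplit

/-- Being unramified at a prime is stable under base change. -/
theorem isUnramifiedAt_baseChange {R S R' : Type u} [CommRing R] [CommRing S] [Algebra R S]
    [CommRing R'] [Algebra R R'] (q : Ideal S) [q.IsPrime]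
    [Algebra.IsUnramifiedAt R q] (Q : Ideal (R' ⊗[R] S)) [Q.IsPrime]
    (h : q = Q.comap Algebra.TensorProduct.includeRight.toRingHom) :
    Algebra.IsUnramifiedAt R' Q := by
  unfold Algebra.IsUnramifiedAt
  rw [Algebra.FormallyUnramified.iff_comp_injective]
  intro B _ _ I hI f₁ f₂ hf
  letI : Algebra R B := Algebra.compHom B (algebraMap R R')
  haveI : IsScalarTower R R' B := .of_algebraMap_eq' rfl
  let j : Localization.AtPrime q →ₐ[R] Localization.AtPrime Q :=
    Localization.localAlgHom q Q Algebra.TensorProduct.includeRight h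
  have hj : (f₁.restrictScalars R).comp j = (f₂.restrictScalars R).comp j :=
    Algebra.FormallyUnramified.ext I ⟨2, hI⟩ fun x => AlgHom.congr_fun hf (j x)
  have key : f₁.comp (IsScalarTower.toAlgHom R' (R' ⊗[R] S) _) =
      f₂.comp (IsScalarTower.toAlgHom R' (R' ⊗[R] S) _) := by
    refine Algebra.TensorProduct.ext (Subsingleton.elim _ _) (AlgHom.ext fun s => ?_)
    have := AlgHom.congr_fun hj (algebraMap S _ s)
    simpa [j, Localization.localAlgHom] using this
  apply AlgHom.coe_ringHom_injective
  exact IsLocalization.ringHom_ext Q.primeCompl (congrArg AlgHom.toRingHom key)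

/-- Modulo `q` every element of `S` is a fraction of elements of `R`. -/
def TrivResidue (R : Type u) [CommRing R] {S : Type u} [CommRing S] [Algebra R S] (p : Ideal R)
    (q : Ideal S) : Prop :=
  ∀ x : S, ∃ a b : R, b ∉ p ∧ x * algebraMap R S b - algebraMap R S a ∈ q

/-- An étale algebra trivialising the residue extension at an unramified prime. -/
theorem exists_trivResidue {R S : Type u} [CommRing R] [CommRing S] [Algebra R S]
    [Algebra.FiniteType R S] (q : Ideal S) [q.IsPrime] [Algebra.IsUnramifiedAt R q] :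
    ∃ (R₁ : Type u) (_ : CommRing R₁) (_ : Algebra R R₁) (_ : Algebra.Etale R R₁) (p₁ : Ideal R₁)
      (_ : p₁.IsPrime) (_ : p₁.LiesOver (q.under R)) (q₁ : Ideal (R₁ ⊗[R] S)) (_ : q₁.IsPrime)
      (_ : q₁.LiesOver p₁),
      q = q₁.comap Algebra.TensorProduct.includeRight.toRingHom ∧ TrivResidue R₁ p₁ q₁ := by
  let p : Ideal R := q.under R
  letI := Localization.AtPrime.algebraOfLiesOver p q
  obtain ⟨R₁, i₁, i₂, i₃, ψ, hψ⟩ := Groth.Agent.S9435.result R p q.ResidueField
  let θ : R₁ ⊗[R] S →ₐ[R] q.ResidueField :=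
    Algebra.TensorProduct.lift ψ (IsScalarTower.toAlgHom R S q.ResidueField)
      fun _ _ => Commute.all _ _
  have hθl (a : R₁) : θ (algebraMap R₁ (R₁ ⊗[R] S) a) = ψ a := by simp [θ]
  have hθr (s : S) : θ (1 ⊗ₜ s) = algebraMap S q.ResidueField s := by simp [θ]
  haveI : (RingHom.ker ψ.toRingHom).IsPrime := RingHom.ker_isPrime _
  haveI : (RingHom.ker θ.toRingHom).IsPrime := RingHom.ker_isPrime _
  refine ⟨R₁, i₁, i₂, i₃, RingHom.ker ψ.toRingHom, inferInstance, ⟨?_⟩, RingHom.ker θ.toRingHom,
    inferInstance, ⟨?_⟩, ?_, ?_⟩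
  · ext r
    change r ∈ q.comap (algebraMap R S) ↔ ψ (algebraMap R R₁ r) = 0
    rw [Ideal.mem_comap, ψ.commutes, IsScalarTower.algebraMap_apply R S q.ResidueField,
      Ideal.algebraMap_residueField_eq_zero]
  · ext a
    change ψ a = 0 ↔ θ (algebraMap R₁ (R₁ ⊗[R] S) a) = 0
    rw [hθl]
  · ext s
    change s ∈ q ↔ θ (1 ⊗ₜ s) = 0
    rw [hθr, Ideal.algebraMap_residueField_eq_zero]
  · intro x
    obtain ⟨y, hy, z, hz, hyz⟩ := Subfield.mem_closure_iff.1 (hψ.symm ▸ Subfield.mem_top (θ x))
    rw [show Set.range ψ = (ψ.toRingHom.range : Set q.ResidueField) from rfl,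
      Subring.closure_eq] at hy hz
    obtain ⟨a, rfl⟩ := hy
    obtain ⟨b, rfl⟩ := hz
    rcases eq_or_ne (ψ b) 0 with hb | hb
    · refine ⟨0, 1, fun h => (inferInstance : (RingHom.ker ψ.toRingHom).IsPrime).ne_top
        ((Ideal.eq_top_iff_one _).2 h), ?_⟩
      change θ (x * algebraMap _ _ 1 - algebraMap _ _ 0) = 0
      simp only [map_one, mul_one, map_zero, sub_zero]
      rw [← hyz]
      exact div_eq_zero_iff.2 (Or.inr hb)
    · refine ⟨a, b, hb, ?_⟩
      change θ (x * algebraMap _ _ b - algebraMap _ _ a) = 0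
      rw [map_sub, map_mul, hθl, hθl, ← hyz, sub_eq_zero]
      exact div_mul_cancel₀ _ hb

/-- After an étale neighbourhood a closed subscheme of the base splits off around `q`. -/
def HasSplit (R S : Type u) [CommRing R] [CommRing S] [Algebra R S] (q : Ideal S) : Prop :=
  ∃ (R' : Type u) (_ : CommRing R') (_ : Algebra R R') (_ : Algebra.Etale R R') (p' : Ideal R')
    (_ : p'.IsPrime) (_ : p'.LiesOver (q.under R)) (A : Type u) (_ : CommRing A) (_ : Algebra R' A)
    (B : Type u) (_ : CommRing B) (_ : Algebra R' B) (e : (R' ⊗[R] S) ≃ₐ[R'] (A × B)),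
    Function.Surjective (algebraMap R' A) ∧ (p'.map (algebraMap R' A)).IsPrime ∧
      (p'.map (algebraMap R' A)).comap (algebraMap R' A) = p' ∧
      (p'.map (algebraMap R' A)).comap (((RingHom.fst A B).comp e.toRingHom).comp
        (Algebra.TensorProduct.includeRight : S →ₐ[R] R' ⊗[R] S).toRingHom) = q

/-- Trivial residue is preserved on the prime of a base change. -/
theorem trivResidue_baseChange {R S : Type u} [CommRing R] [CommRing S] [Algebra R S]
    {R' : Type u} [CommRing R'] [Algebra R R'] (p : Ideal R) (P : Ideal R') [P.IsPrime]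
    [P.LiesOver p] (q : Ideal S) (Q : Ideal (R' ⊗[R] S))
    (hQ : q = Q.comap Algebra.TensorProduct.includeRight.toRingHom) (h : TrivResidue R p q) :
    TrivResidue R' P Q := by
  intro x
  induction x using TensorProduct.induction_on with
  | zero => exact ⟨0, 1, fun h => Ideal.IsPrime.ne_top ‹_› ((Ideal.eq_top_iff_one _).2 h), by simp⟩
  | tmul r s =>
    obtain ⟨a, b, hb, hab⟩ := h s
    refine ⟨r * algebraMap R R' a, algebraMap R R' b, fun hb' => hb ?_, ?_⟩
    · rw [P.over_def p]
      exact hb'
    · rw [hQ] at hab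
      have hab' : Algebra.TensorProduct.includeRight
          (s * algebraMap R S b - algebraMap R S a) ∈ Q := hab
      have := Q.mul_mem_left (r ⊗ₜ[R] (1 : S)) hab'
      convert this using 1
      simp only [map_sub, map_mul, AlgHom.commutes, mul_sub,
        Algebra.TensorProduct.includeRight_apply, Algebra.TensorProduct.algebraMap_apply,
        Algebra.algebraMap_self, RingHom.id_apply, Algebra.TensorProduct.tmul_mul_tmul,
        one_mul, mul_one]
  | add x y hx hy =>
    obtain ⟨a, b, hb, hab⟩ := hx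
    obtain ⟨c, d, hd, hcd⟩ := hy
    refine ⟨a * d + c * b, b * d, Ideal.IsPrime.mul_notMem ‹_› hb hd, ?_⟩
    convert add_mem (Q.mul_mem_right (algebraMap R' _ d) hab)
      (Q.mul_mem_right (algebraMap R' _ b) hcd) using 1
    simp only [map_add, map_mul]
    ring

open Ideal in
/-- The core construction: trivial residue extension and unramified. -/
theorem hasSplit_of_trivResidue {R S : Type u} [CommRing R] [CommRing S] [Algebra R S]
    [Algebra.FiniteType R S] (p : Ideal R) [p.IsPrime] (q : Ideal S) [q.IsPrime] [q.LiesOver p]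
    [Algebra.IsUnramifiedAt R q] (hres : TrivResidue R p q) : HasSplit R S q := by
  haveI : Algebra.QuasiFiniteAt R q := inferInstance
  obtain ⟨R₂, _, _, _, P, _, _, e, he, P', _, _, hP'q, heP', -, hfin, H⟩ :=
    Algebra.exists_etale_isIdempotentElem_forall_liesOver_eq p q
  have hres₂ : TrivResidue R₂ P P' := trivResidue_baseChange p P q P' hP'q.symm hres
  haveI : Algebra.IsUnramifiedAt R₂ P' := isUnramifiedAt_baseChange q P' hP'q.symm
  let A₀ := Localization.Away e
  let f : R₂ ⊗[R] S →+* A₀ := algebraMap _ _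
  have hd : Disjoint (Submonoid.powers e : Set (R₂ ⊗[R] S)) P' := by
    rwa [Ideal.disjoint_powers_iff_notMem_of_isPrime]
  let qA : Ideal A₀ := P'.map f
  haveI hqA : qA.IsPrime :=
    IsLocalization.isPrime_of_isPrime_disjoint (Submonoid.powers e) _ _ ‹_› hd
  have hunder : qA.comap f = P' :=
    IsLocalization.under_map_of_isPrime_disjoint (Submonoid.powers e) _ ‹_› hd
  haveI : qA.LiesOver P' := ⟨hunder.symm⟩
  haveI : qA.LiesOver P := .trans _ P' _
  have hone : P.primesOver A₀ = {qA} := by
    refine Set.eq_singleton_iff_unique_mem.2 ⟨⟨hqA, inferInstance⟩, ?_⟩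
    rintro x ⟨hx, hxo⟩
    have h1 : (x.comap f).LiesOver P := ⟨by
      rw [hxo.over]
      change x.comap _ = (x.comap f).comap _
      rw [IsScalarTower.algebraMap_eq R₂ (R₂ ⊗[R] S) A₀, ← Ideal.comap_comap]⟩
    have h2 : e ∉ x.comap f := fun he' =>
      hx.ne_top (Ideal.eq_top_of_isUnit_mem _ he' (IsLocalization.Away.algebraMap_isUnit e))
    exact (IsLocalization.map_under (Submonoid.powers e) A₀ x).symm.trans
      (congrArg (Ideal.map f) (H _ (Ideal.IsPrime.comap f) h1 h2))
  haveI : Algebra.FormallyUnramified (R₂ ⊗[R] S) A₀ :=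
    .of_isLocalization (Submonoid.powers e)
  haveI : Algebra.FormallyUnramified A₀ (Localization.AtPrime qA) :=
    .of_isLocalization qA.primeCompl
  haveI : Algebra.IsUnramifiedAt (R₂ ⊗[R] S) qA := Algebra.FormallyUnramified.comp _ A₀ _
  haveI : Algebra.IsUnramifiedAt R₂ qA := Algebra.IsUnramifiedAt.comp P' qA
  have hmem : ∀ {z}, f z ∈ qA ↔ z ∈ P' := fun {z} => by rw [← Ideal.mem_comap, hunder]
  have hresA : TrivResidue R₂ P qA := by
    intro y
    obtain ⟨x, ⟨_, n, rfl⟩, rfl⟩ := IsLocalization.exists_mk'_eq (Submonoid.powers e) y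
    obtain ⟨a, b, hb, hab⟩ := hres₂ x
    obtain ⟨ae, be, hbe, habe⟩ := hres₂ e
    have hae : ae ∉ P := fun hae => by
      rw [P'.over_def P] at hae hbe
      have : e * algebraMap R₂ _ be ∈ P' := by simpa using add_mem habe hae
      exact ((Ideal.IsPrime.mem_or_mem ‹_› this).elim heP' hbe)
    refine ⟨a * be ^ n, b * ae ^ n,
      Ideal.IsPrime.mul_notMem ‹_› hb fun h => hae (Ideal.IsPrime.mem_of_pow_mem ‹_› n h), ?_⟩
    rw [← Ideal.Quotient.eq_zero_iff_mem, map_sub, map_mul, sub_eq_zero]
    let π := (Ideal.Quotient.mk qA).comp f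
    have hπ : ∀ {u v}, u - v ∈ P' → π u = π v := fun {u v} h => by
      refine Ideal.Quotient.eq.2 ?_
      rw [← map_sub]
      exact hmem.2 h
    have hu : IsUnit (π e) := (IsLocalization.Away.algebraMap_isUnit (S := A₀) e).map (Ideal.Quotient.mk qA)
    have h₁ := hπ hab
    have h₂ := hπ habe
    simp only [map_mul] at h₁ h₂
    refine (hu.pow n).mul_left_cancel ?_
    have hx : π e ^ n * Ideal.Quotient.mk qA
        (IsLocalization.mk' A₀ x (⟨_, n, rfl⟩ : Submonoid.powers e)) = π x := by
      rw [← map_pow, show π (e ^ n) = Ideal.Quotient.mk qA (f (e ^ n)) from rfl, ← map_mul]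
      exact congrArg _ (IsLocalization.mk'_spec' A₀ x (⟨_, n, rfl⟩ : Submonoid.powers e))
    have halg : ∀ r, Ideal.Quotient.mk qA (algebraMap R₂ A₀ r) = π (algebraMap R₂ _ r) := fun r => by
      rw [IsScalarTower.algebraMap_apply R₂ (R₂ ⊗[R] S) A₀]; rfl
    rw [← mul_assoc, hx, halg, halg]
    simp only [map_mul, map_pow, ← h₁, ← h₂, mul_pow]
    ring
  letI := Localization.AtPrime.algebraOfLiesOver P qA
  have hRF : Function.Surjective (algebraMap P.ResidueField qA.ResidueField) := by
    intro z
    obtain ⟨y₁, y₂, hy₂, rfl⟩ := IsFractionRing.div_surjective (A := A₀ ⧸ qA) z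
    obtain ⟨y₁, rfl⟩ := Ideal.Quotient.mk_surjective y₁
    obtain ⟨y₂, rfl⟩ := Ideal.Quotient.mk_surjective y₂
    have hy : ∀ y, ∃ w, algebraMap P.ResidueField qA.ResidueField w =
        algebraMap A₀ qA.ResidueField y := fun y => by
      obtain ⟨a, b, hb, hab⟩ := hresA y
      refine ⟨algebraMap R₂ _ a / algebraMap R₂ _ b, ?_⟩
      have hb' : algebraMap R₂ qA.ResidueField b ≠ 0 := by
        rw [IsScalarTower.algebraMap_apply R₂ P.ResidueField qA.ResidueField, map_ne_zero]
        exact fun h => hb (Ideal.algebraMap_residueField_eq_zero.1 h)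
      rw [map_div₀, ← IsScalarTower.algebraMap_apply, ← IsScalarTower.algebraMap_apply,
        div_eq_iff hb', IsScalarTower.algebraMap_apply R₂ A₀ qA.ResidueField,
        IsScalarTower.algebraMap_apply R₂ A₀ qA.ResidueField, ← map_mul, eq_comm, ← sub_eq_zero,
        ← map_sub, Ideal.algebraMap_residueField_eq_zero]
      exact hab
    obtain ⟨w₁, h₁⟩ := hy y₁
    obtain ⟨w₂, h₂⟩ := hy y₂
    exact ⟨w₁ / w₂, by rw [map_div₀, h₁, h₂]; rfl⟩
  have hsurj := Localization.localRingHom_surjective_of_primesOver_eq_singleton hone hRF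
  have hfrac : ∀ x : A₀, ∃ a b, b ∉ P ∧ algebraMap R₂ A₀ a = x * algebraMap R₂ A₀ b := by
    intro x
    have := (IsLocalization.mk'_surjective P.primeCompl).exists.mp (hsurj (algebraMap _ _ x))
    simp only [Localization.localRingHom_mk', Prod.exists, Subtype.exists,
      Ideal.mem_primeCompl_iff, IsLocalization.mk'_eq_iff_eq_mul, exists_prop, ← map_mul,
      IsLocalization.eq_iff_exists qA.primeCompl] at this
    obtain ⟨a, b, hbp, c, hcq, hc⟩ := this
    obtain ⟨d, hd, k, hk⟩ := Ideal.exists_notMem_dvd_algebraMap_of_primesOver_eq_singleton hone _ hcq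
    exact ⟨d * a, d * b, Ideal.IsPrime.mul_notMem ‹_› hd hbp, by
      simp only [map_mul, hk]
      linear_combination k * hc⟩
  classical
  obtain ⟨gens, hgens⟩ := Module.Finite.fg_top (R := R₂) (M := A₀)
  choose an bn hbn hfr using hfrac
  let g : R₂ := ∏ x ∈ gens, bn x
  have hgP : g ∉ P := Submonoid.prod_mem P.primeCompl fun i _ => (hbn i : bn i ∈ P.primeCompl)
  have hg : ∀ y : A₀, ∃ a, algebraMap R₂ A₀ g * y = algebraMap R₂ A₀ a := by
    intro y
    have hy : y ∈ Submodule.span R₂ (gens : Set A₀) := hgens ▸ Submodule.mem_top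
    induction hy using Submodule.span_induction with
    | mem x hx =>
      refine ⟨(∏ z ∈ gens.erase x, bn z) * an x, ?_⟩
      rw [show g = (∏ z ∈ gens.erase x, bn z) * bn x from
        (Finset.prod_erase_mul gens bn hx).symm, map_mul, map_mul, hfr]
      ring
    | zero => exact ⟨0, by simp⟩
    | add u v _ _ hu hv =>
      obtain ⟨a, ha⟩ := hu
      obtain ⟨b, hb⟩ := hv
      exact ⟨a + b, by rw [mul_add, ha, hb, map_add]⟩
    | smul r u _ hu =>
      obtain ⟨a, ha⟩ := hu
      exact ⟨r * a, by rw [Algebra.smul_def, mul_left_comm, ha, map_mul]⟩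
  let R' := Localization.Away g
  haveI : Algebra.Etale R₂ R' := .of_isLocalizationAway g
  haveI : Algebra.Etale R R' := .comp R R₂ R'
  let p' : Ideal R' := P.map (algebraMap R₂ R')
  have hdg : Disjoint (Submonoid.powers g : Set R₂) P := by
    rwa [Ideal.disjoint_powers_iff_notMem_of_isPrime]
  haveI : p'.IsPrime := IsLocalization.isPrime_of_isPrime_disjoint _ _ _ ‹_› hdg
  have hp'P : p'.comap (algebraMap R₂ R') = P :=
    IsLocalization.under_map_of_isPrime_disjoint _ _ ‹_› hdg
  haveI : p'.LiesOver P := ⟨hp'P.symm⟩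
  haveI : p'.LiesOver p := .trans _ P _
  have hs' : Function.Surjective (algebraMap R' (R' ⊗[R₂] A₀)) := by
    intro w
    induction w using TensorProduct.induction_on with
    | zero => exact ⟨0, map_zero _⟩
    | tmul r y =>
      obtain ⟨a, ha⟩ := hg y
      refine ⟨r * IsLocalization.Away.invSelf g * algebraMap R₂ R' a, ?_⟩
      rw [Algebra.TensorProduct.algebraMap_apply, Algebra.algebraMap_self, RingHom.id_apply,
        mul_comm _ (algebraMap R₂ R' a), ← Algebra.smul_def, TensorProduct.smul_tmul,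
        Algebra.smul_def, mul_one, ← ha, ← Algebra.smul_def, TensorProduct.tmul_smul,
        TensorProduct.smul_tmul', Algebra.smul_def, mul_left_comm,
        IsLocalization.Away.mul_invSelf, mul_one]
    | add u v hu hv =>
      obtain ⟨a, rfl⟩ := hu
      obtain ⟨b, rfl⟩ := hv
      exact ⟨a + b, map_add _ _ _⟩
  have hgu : IsUnit (algebraMap R₂ qA.ResidueField g) := by
    refine isUnit_iff_ne_zero.2 ?_
    rw [IsScalarTower.algebraMap_apply R₂ P.ResidueField qA.ResidueField, map_ne_zero]
    exact fun h => hgP (Ideal.algebraMap_residueField_eq_zero.1 h)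
  let χ : R' →ₐ[R₂] qA.ResidueField :=
    IsLocalization.liftAlgHom (M := Submonoid.powers g) (f := Algebra.ofId R₂ qA.ResidueField) <| by
      rintro ⟨_, n, rfl⟩
      simpa using hgu.pow n
  let π : R' ⊗[R₂] A₀ →ₐ[R₂] qA.ResidueField :=
    Algebra.TensorProduct.lift χ (IsScalarTower.toAlgHom R₂ A₀ _) fun _ _ => Commute.all _ _
  haveI hQ : (RingHom.ker π.toRingHom).IsPrime := RingHom.ker_isPrime _
  have hQc : (RingHom.ker π.toRingHom).comap (algebraMap R' (R' ⊗[R₂] A₀)) = p' := by
    rw [← IsLocalization.map_under (Submonoid.powers g) R'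
      ((RingHom.ker π.toRingHom).comap (algebraMap R' (R' ⊗[R₂] A₀)))]
    refine congrArg (Ideal.map _) ?_
    ext r
    change π (algebraMap R' _ (algebraMap R₂ R' r)) = 0 ↔ r ∈ P
    rw [← IsScalarTower.algebraMap_apply, π.commutes,
      IsScalarTower.algebraMap_apply R₂ P.ResidueField qA.ResidueField, map_eq_zero,
      Ideal.algebraMap_residueField_eq_zero]
  have hQm : p'.map (algebraMap R' (R' ⊗[R₂] A₀)) = RingHom.ker π.toRingHom := by
    conv_lhs => rw [← hQc]
    exact Ideal.map_comap_of_surjective _ hs' _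
  refine ⟨R', inferInstance, inferInstance, inferInstance, p', inferInstance,
    ⟨(q.over_def p).symm.trans (p'.over_def p)⟩, R' ⊗[R₂] A₀, inferInstance, inferInstance,
    R' ⊗[R₂] ((R₂ ⊗[R] S) ⧸ Ideal.span {e}), inferInstance, inferInstance,
    (Algebra.TensorProduct.cancelBaseChange R R₂ R' R' S).symm.trans <|
      (Algebra.TensorProduct.congr AlgEquiv.refl (EtaleDec.splitIdem (R := R₂) e he)).trans <|
      Algebra.TensorProduct.prodRight R₂ R' R' _ _, hs', hQm ▸ hQ, by rw [hQm, hQc], ?_⟩
  rw [hQm]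
  ext s
  change π (1 ⊗ₜ f (1 ⊗ₜ s)) = 0 ↔ s ∈ q
  simp only [π, Algebra.TensorProduct.lift_tmul, map_one, one_mul, IsScalarTower.coe_toAlgHom',
    Ideal.algebraMap_residueField_eq_zero]
  rw [hmem, ← hP'q]
  rfl

/-- Splitting at an arbitrary unramified prime. -/
theorem hasSplit {R S : Type u} [CommRing R] [CommRing S] [Algebra R S]
    [Algebra.FiniteType R S] (q : Ideal S) [q.IsPrime] [Algebra.IsUnramifiedAt R q] :
    HasSplit R S q := by
  obtain ⟨R₁, _, _, _, p₁, _, hp₁, q₁, _, _, hq₁, hres⟩ := exists_trivResidue (R := R) q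
  haveI : Algebra.IsUnramifiedAt R₁ q₁ := isUnramifiedAt_baseChange q q₁ hq₁
  obtain ⟨R', _, _, _, p', _, hp', A, _, _, B, _, _, e, h1, h2, h3, h4⟩ :=
    hasSplit_of_trivResidue p₁ q₁ hres
  letI : Algebra R R' := .compHom _ (algebraMap R R₁)
  haveI : IsScalarTower R R₁ R' := .of_algebraMap_eq' rfl
  haveI : Algebra.Etale R R' := .comp R R₁ R'
  haveI : p'.LiesOver (q.under R) := by
    constructor
    rw [hp₁.over, show p₁ = q₁.under R₁ from Ideal.over_def q₁ p₁, hp'.over,
      Ideal.under_under]
  refine ⟨R', inferInstance, inferInstance, inferInstance, p', inferInstance, inferInstance,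
    A, inferInstance, inferInstance, B, inferInstance, inferInstance,
    (Algebra.TensorProduct.cancelBaseChange R R₁ R' R' S).symm.trans e, h1, h2, h3, ?_⟩
  rw [hq₁, ← h4]
  ext s
  rfl

section Decomposition

variable {R S : Type u} [CommRing R] [CommRing S] [Algebra R S]

/-- A prime over the extended prime in the base change of a quotient. -/
theorem surjective_baseChange {R'' : Type u} [CommRing R''] [Algebra R R''] (p : Ideal R)
    (P : Ideal R'') [P.IsPrime] [P.LiesOver p] (hs : Function.Surjective (algebraMap R S))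
    (hp : (p.map (algebraMap R S)).comap (algebraMap R S) = p) :
    Function.Surjective (algebraMap R'' (R'' ⊗[R] S)) ∧
      (P.map (algebraMap R'' (R'' ⊗[R] S))).IsPrime ∧
      (P.map (algebraMap R'' (R'' ⊗[R] S))).comap (algebraMap R'' (R'' ⊗[R] S)) = P := by
  have hsurj : Function.Surjective (algebraMap R'' (R'' ⊗[R] S)) :=
    Algebra.TensorProduct.includeLeft_surjective R R'' hs
  have hker : RingHom.ker (algebraMap R'' (R'' ⊗[R] S)) ≤ P := by
    have hK : ∀ r ∈ RingHom.ker (Algebra.ofId R S),
        Algebra.ofId R P.ResidueField r = 0 := fun r hr => by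
      have hr' : r ∈ p := by
        rw [← hp, Ideal.mem_comap, show algebraMap R S r = 0 from hr]
        exact zero_mem _
      rw [P.over_def p] at hr'
      change algebraMap R P.ResidueField r = 0
      rw [IsScalarTower.algebraMap_apply R R'' P.ResidueField,
        Ideal.algebraMap_residueField_eq_zero]
      exact hr'
    let g : S →ₐ[R] P.ResidueField :=
      (Ideal.Quotient.liftₐ _ (Algebra.ofId R P.ResidueField) hK).comp
        (Ideal.quotientKerAlgEquivOfSurjective (f := Algebra.ofId R S) hs).symm.toAlgHom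
    let π : R'' ⊗[R] S →ₐ[R''] P.ResidueField :=
      Algebra.TensorProduct.lift (Algebra.ofId _ _) g fun _ _ => Commute.all _ _
    intro x hx
    have h := congrArg π (RingHom.mem_ker.1 hx)
    rwa [π.commutes, map_zero, Ideal.algebraMap_residueField_eq_zero] at h
  refine ⟨hsurj, Ideal.map_isPrime_of_surjective hsurj hker, ?_⟩
  rw [Ideal.comap_map_of_surjective _ hsurj, ← RingHom.ker_eq_comap_bot, sup_eq_left]
  exact hker

/-- The fibre rank of a base change. -/
theorem finrank_fiber_baseChange {R' : Type u} [CommRing R'] [Algebra R R'] (p : Ideal R)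
    [p.IsPrime] (p' : Ideal R') [p'.IsPrime] [p'.LiesOver p] :
    Module.finrank p'.ResidueField (p'.Fiber (R' ⊗[R] S)) =
      Module.finrank p.ResidueField (p.Fiber S) := by
  letI := Localization.AtPrime.algebraOfLiesOver p p'
  rw [← Module.finrank_baseChange (R := p'.ResidueField) (S := p.ResidueField) (M' := p.Fiber S)]
  exact LinearEquiv.finrank_eq
    ((Algebra.TensorProduct.cancelBaseChange R R' p'.ResidueField p'.ResidueField S).trans
      (Algebra.TensorProduct.cancelBaseChange R p.ResidueField p'.ResidueField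
        p'.ResidueField S).symm).toLinearEquiv

/-- The decomposition of an unramified algebra over a prime. -/
def HasSplitting (R S : Type u) [CommRing R] [CommRing S] [Algebra R S] (p : Ideal R) : Prop :=
  ∃ (R' : Type u) (_ : CommRing R') (_ : Algebra R R') (_ : Algebra.Etale R R') (p' : Ideal R')
    (_ : p'.IsPrime) (_ : p'.LiesOver p) (n : ℕ) (A : Fin n → Type u) (_ : ∀ i, CommRing (A i))
    (_ : ∀ i, Algebra R' (A i)) (B : Type u) (_ : CommRing B) (_ : Algebra R' B),
    Nonempty ((R' ⊗[R] S) ≃ₐ[R'] ((∀ i, A i) × B)) ∧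
      (∀ i, Function.Surjective (algebraMap R' (A i)) ∧
        (p'.map (algebraMap R' (A i))).IsPrime ∧
        (p'.map (algebraMap R' (A i))).comap (algebraMap R' (A i)) = p') ∧
      ∀ (q : Ideal B) [q.IsPrime], q.comap (algebraMap R' B) ≠ p'

end Decomposition

theorem hasSplitting_aux (d : ℕ) : ∀ (R : Type u) [CommRing R] (S : Type u) [CommRing S]
    [Algebra R S] [Algebra.Unramified R S] (p : Ideal R) [p.IsPrime],
    Module.finrank p.ResidueField (p.Fiber S) = d → HasSplitting R S p := by
  induction d using Nat.strong_induction_on with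
  | h d IH =>
  intro R _ S _ _ _ p _ hd
  by_cases hq : ∀ (q : Ideal S) [q.IsPrime], q.comap (algebraMap R S) ≠ p
  · refine ⟨R, inferInstance, inferInstance, inferInstance, p, inferInstance, ⟨rfl⟩, 0,
      fun _ => R, inferInstance, inferInstance, S, inferInstance, inferInstance, ⟨?_⟩,
      fun i => i.elim0, hq⟩
    exact (Algebra.TensorProduct.lid R S).trans (AlgEquiv.ofBijective
      ((Pi.algHom R (fun _ : Fin 0 => R) (fun i => i.elim0)).prod (AlgHom.id R S))
      ⟨fun x y h => congrArg Prod.snd h, fun x => ⟨x.2, Prod.ext (Subsingleton.elim _ _) rfl⟩⟩)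
  push Not at hq
  obtain ⟨q, hqp', hqc⟩ := hq
  obtain ⟨R', _, _, _, p', _, hp', A, _, _, B, _, _, e, h1, h2, h3, -⟩ := hasSplit (R := R) q
  haveI : p'.LiesOver p := by
    constructor
    rw [← hqc]
    exact hp'.over
  haveI : Algebra.FormallyUnramified R' B := by
    haveI : Algebra.FormallyUnramified R' (A × B) := .of_equiv e
    exact .of_surjective (AlgHom.snd R' A B) (fun b => ⟨(0, b), rfl⟩)
  haveI : Algebra.FiniteType R' B := .of_surjective
    ((AlgHom.snd R' A B).comp e.toAlgHom) fun b => ⟨e.symm (0, b), by simp⟩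
  haveI : Algebra.Unramified R' B := ⟨inferInstance, inferInstance⟩
  haveI : Algebra.FiniteType R' A := .of_surjective (Algebra.ofId R' A) h1
  haveI : Module.Finite p'.ResidueField (p'.Fiber A) :=
    Module.Finite.of_surjective (Algebra.linearMap p'.ResidueField (p'.Fiber A))
      (Algebra.TensorProduct.includeLeft_surjective R' p'.ResidueField h1)
  haveI : Module.Finite p'.ResidueField (p'.Fiber B) :=
    Algebra.FormallyUnramified.finite_of_free _ _
  haveI : Nontrivial (p'.Fiber A) := by
    haveI := (surjective_baseChange (R := R') (S := A) (R'' := p'.ResidueField) p' ⊥ h1 h3).2.1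
    exact nontrivial_of_ne (0 : p'.Fiber A) 1 fun h => Ideal.IsPrime.one_notMem this
      (h ▸ zero_mem _)
  have hlt : Module.finrank p'.ResidueField (p'.Fiber B) < d := by
    rw [← hd, ← finrank_fiber_baseChange (R' := R') p p',
      ((Algebra.TensorProduct.congr (R := R') (S := p'.ResidueField) AlgEquiv.refl e).trans
        (Algebra.TensorProduct.prodRight R' p'.ResidueField p'.ResidueField A B)).toLinearEquiv.finrank_eq,
      Module.finrank_prod]
    exact Nat.lt_add_of_pos_left Module.finrank_pos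
  obtain ⟨R'', _, _, _, p'', _, _, n, A'', _, _, B'', _, _, ⟨E⟩, hA, hB⟩ :=
    IH _ hlt R' B p' rfl
  letI : Algebra R R'' := .compHom _ (algebraMap R R')
  haveI : IsScalarTower R R' R'' := .of_algebraMap_eq' rfl
  haveI : p''.LiesOver p := .trans _ p' _
  refine ⟨R'', inferInstance, inferInstance, .comp R R' R'', p'', inferInstance, inferInstance,
    n + 1, fun i => EtaleDec.consFam (R'' ⊗[R'] A) A'' (finSuccEquiv n i), inferInstance,
    inferInstance, B'', inferInstance, inferInstance, ⟨?_⟩, ?_, hB⟩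
  · exact (Algebra.TensorProduct.cancelBaseChange R R' R'' R'' S).symm.trans <|
      (Algebra.TensorProduct.congr AlgEquiv.refl e).trans <|
      (Algebra.TensorProduct.prodRight R' R'' R'' _ _).trans <|
      (AlgEquiv.prodCongr AlgEquiv.refl E).trans <|
      (EtaleDec.prodAssocSymm R'' _ _ _).trans <|
      AlgEquiv.prodCongr ((EtaleDec.consFamEquiv (R := R'') _ A'').trans
        (AlgEquiv.piCongrLeft' R'' (EtaleDec.consFam (R'' ⊗[R'] A) A'') (finSuccEquiv n).symm))
        AlgEquiv.refl
  · suffices key : ∀ j, Function.Surjective (algebraMap R'' (EtaleDec.consFam (R'' ⊗[R'] A) A'' j)) ∧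
        (p''.map (algebraMap R'' (EtaleDec.consFam (R'' ⊗[R'] A) A'' j))).IsPrime ∧
        (p''.map (algebraMap R'' (EtaleDec.consFam (R'' ⊗[R'] A) A'' j))).comap
          (algebraMap R'' (EtaleDec.consFam (R'' ⊗[R'] A) A'' j)) = p'' from
      fun i => key (finSuccEquiv n i)
    rintro (_ | j)
    · exact surjective_baseChange p' p'' h1 h3
    · exact hA j

theorem hasSplitting {R S : Type u} [CommRing R] [CommRing S] [Algebra R S]
    [Algebra.Unramified R S] (p : Ideal R) [p.IsPrime] : HasSplitting R S p :=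
  hasSplitting_aux _ R S p rfl

end Groth.Agent.EtAlgEasy.UnramSplit
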