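import Mathlib
import Groth.Agent.EtAlgEasy.UnramSplit
import Groth.Agent.EtAlgEasy.FibFlatLoci
import Groth.Agent.EtAlgEasy.UnramStalk
import Groth.Agent.FlatLocus.FibreCrit

/-!
Étale-local structure of unramified and étale morphisms as immersions.
-/

set_option autoImplicit false
set_option backward.isDefEq.respectTransparency false

universe u

open CategoryTheory CategoryTheory.Limits AlgebraicGeometry TensorProduct

namespace Groth.Agent.EtAlgEasy.UnramSplitSch

variable {X Y : Scheme.{u}} (f : X ⟶ Y)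

/-- Affine form: the splitting gives an open of the fibre product which is closed in the étale
neighbourhood. -/
theorem exists_open_of_hasSplit {R S : Type u} [CommRing R] [CommRing S] [Algebra R S]
    (iV : Spec (.of S) ⟶ X) [IsOpenImmersion iV] (iU : Spec (.of R) ⟶ Y) [IsOpenImmersion iU]
    (hcomm : iV ≫ f = Spec.map (CommRingCat.ofHom (algebraMap R S)) ≫ iU)
    (q : PrimeSpectrum S) (h : UnramSplit.HasSplit R S q.asIdeal) :
    ∃ (Y' : Scheme.{u}) (g : Y' ⟶ Y) (U : (pullback f g).Opens), Etale g ∧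
      iV q ∈ (pullback.fst f g).base '' (U : Set ↥(pullback f g)) ∧
      IsClosedImmersion (U.ι ≫ pullback.snd f g) := by
  obtain ⟨R', _, _, _, p', _, _, A, _, _, B, _, _, e, hs, hP, -, hq⟩ := h
  let g : Spec (.of R') ⟶ Y := Spec.map (CommRingCat.ofHom (algebraMap R R')) ≫ iU
  have hget : Etale g := by
    haveI : Etale (Spec.map (CommRingCat.ofHom (algebraMap R R'))) :=
      HasRingHomProperty.Spec_iff.mpr (RingHom.etale_algebraMap.mpr ‹Algebra.Etale R R'›)
    exact MorphismProperty.comp_mem _ _ _ this inferInstance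
  let m : pullback (Spec.map (CommRingCat.ofHom (algebraMap R R')))
      (Spec.map (CommRingCat.ofHom (algebraMap R S))) ⟶ pullback f g :=
    (pullbackSymmetry _ _).hom ≫ pullback.map _ _ _ _ iV (𝟙 _) iU hcomm.symm (by simp [g])
  haveI : IsOpenImmersion m := by
    simp only [m]
    infer_instance
  let φ : R' ⊗[R] S →+* A := (RingHom.fst A B).comp e.toRingHom
  haveI : IsOpenImmersion (Spec.map (CommRingCat.ofHom (RingHom.fst A B))) := by
    letI := (RingHom.fst A B).toAlgebra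
    exact IsOpenImmersion.of_isLocalization (1, 0)
  haveI : IsIso (CommRingCat.ofHom e.toRingHom) :=
    inferInstanceAs (IsIso (e.toRingEquiv.toCommRingCatIso.hom))
  haveI : IsOpenImmersion (Spec.map (CommRingCat.ofHom φ)) := by
    rw [show CommRingCat.ofHom φ = CommRingCat.ofHom e.toRingHom ≫
      CommRingCat.ofHom (RingHom.fst A B) from rfl, Spec.map_comp]
    infer_instance
  let j : Spec (.of A) ⟶ pullback f g :=
    Spec.map (CommRingCat.ofHom φ) ≫ (pullbackSpecIso R R' S).inv ≫ m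
  haveI : IsOpenImmersion j := by
    simp only [j]
    infer_instance
  have hjs : j ≫ pullback.snd f g = Spec.map (CommRingCat.ofHom (algebraMap R' A)) := by
    simp only [j, m, Category.assoc, limit.lift_π, PullbackCone.mk_π_app,
      pullbackSymmetry_hom_comp_snd_assoc, Category.comp_id, pullbackSymmetry_hom_comp_snd,
      pullbackSpecIso_inv_fst']
    rw [← Spec.map_comp]
    refine congrArg Spec.map ?_
    ext r
    exact congrArg Prod.fst (e.commutes r)
  have hjf : j ≫ pullback.fst f g = Spec.map (CommRingCat.ofHom (φ.comp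
      (Algebra.TensorProduct.includeRight : S →ₐ[R] R' ⊗[R] S).toRingHom)) ≫ iV := by
    simp only [j, m, Category.assoc, limit.lift_π, PullbackCone.mk_π_app,
      pullbackSymmetry_hom_comp_fst_assoc, pullbackSpecIso_inv_snd_assoc]
    rw [← Spec.map_comp_assoc]
    rfl
  refine ⟨Spec (.of R'), g, j.opensRange, hget,
    ⟨j ⟨p'.map (algebraMap R' A), hP⟩, ⟨_, rfl⟩, ?_⟩, ?_⟩
  · rw [← Scheme.Hom.comp_apply, hjf, Scheme.Hom.comp_apply]
    refine congrArg _ ?_
    exact PrimeSpectrum.ext hq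
  · rw [← MorphismProperty.cancel_left_of_respectsIso @IsClosedImmersion j.isoOpensRange.hom,
      ← Category.assoc, Scheme.Hom.isoOpensRange_hom_ι, hjs]
    exact IsClosedImmersion.spec_of_surjective _ hs

theorem exists_open [FormallyUnramified f] [LocallyOfFiniteType f] (x : X) :
    ∃ (Y' : Scheme.{u}) (g : Y' ⟶ Y) (U : (pullback f g).Opens), Etale g ∧
      x ∈ (pullback.fst f g).base '' (U : Set ↥(pullback f g)) ∧
      IsClosedImmersion (U.ι ≫ pullback.snd f g) := by
  obtain ⟨_, ⟨U : Y.Opens, (hU : IsAffineOpen U), rfl⟩, hyU, -⟩ :=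
    Y.isBasis_affineOpens.exists_subset_of_mem_open (Set.mem_univ (f x)) isOpen_univ
  obtain ⟨_, ⟨V : X.Opens, (hV : IsAffineOpen V), rfl⟩, hxV, hVU⟩ :=
    X.isBasis_affineOpens.exists_subset_of_mem_open (a := x) (u := ↑(f ⁻¹ᵁ U)) hyU (f ⁻¹ᵁ U).2
  letI : Algebra Γ(Y, U) Γ(X, V) := (f.appLE U V hVU).hom.toAlgebra
  haveI : Algebra.FiniteType Γ(Y, U) Γ(X, V) :=
    HasRingHomProperty.appLE @LocallyOfFiniteType f inferInstance ⟨U, hU⟩ ⟨V, hV⟩ hVU
  haveI : Algebra.FormallyUnramified Γ(Y, U) Γ(X, V) :=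
    HasRingHomProperty.appLE @FormallyUnramified f inferInstance ⟨U, hU⟩ ⟨V, hV⟩ hVU
  let q := hV.primeIdealOf ⟨x, hxV⟩
  haveI : Algebra.FormallyUnramified Γ(X, V) (Localization.AtPrime q.asIdeal) :=
    .of_isLocalization q.asIdeal.primeCompl
  haveI : Algebra.IsUnramifiedAt Γ(Y, U) q.asIdeal :=
    Algebra.FormallyUnramified.comp _ Γ(X, V) _
  have := exists_open_of_hasSplit f hV.fromSpec hU.fromSpec
    (IsAffineOpen.SpecMap_appLE_fromSpec f hU hV hVU).symm q (UnramSplit.hasSplit q.asIdeal)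
  rwa [hV.fromSpec_primeIdealOf ⟨x, hxV⟩] at this

theorem flat_stalkMap_congr {Z W : Scheme.{u}} {h k : Z ⟶ W} (e : h = k) (z : Z)
    (H : (h.stalkMap z).hom.Flat) : (k.stalkMap z).hom.Flat := by
  subst e
  exact H

theorem stalk_formallyUnramified_of_mono [LocallyOfFiniteType f] {Y' : Scheme.{u}} (g : Y' ⟶ Y)
    (U : (pullback f g).Opens) [Mono (U.ι ≫ pullback.snd f g)] (z : ↥(pullback f g)) (hz : z ∈ U) :
    (f.stalkMap (pullback.fst f g z)).hom.FormallyUnramified := by
  rw [← FibFlat.formallyUnramified_baseChange (X' := X) f z]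
  exact (FlatLocus.exists_formallyUnramified_nhd_iff (pullback.snd f g) z).1
    ⟨U, hz, inferInstance⟩

theorem unramified_iff [LocallyOfFinitePresentation f] :
    (FormallyUnramified f → ∃ (ι : Type u) (Y' : ι → Scheme.{u}) (g : ∀ a, Y' a ⟶ Y) (U : ∀ a, (pullback f (g a)).Opens),
      (∀ a, Etale (g a)) ∧ (∀ x : X, ∃ a, x ∈ (pullback.fst f (g a)).base '' (U a : Set ↥(pullback f (g a)))) ∧
        ∀ a, IsClosedImmersion ((U a).ι ≫ pullback.snd f (g a))) ∧
    ((∃ (ι : Type u) (Y' : ι → Scheme.{u}) (g : ∀ a, Y' a ⟶ Y) (U : ∀ a, (pullback f (g a)).Opens),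
      (∀ a, Flat (g a)) ∧ (∀ x : X, ∃ a, x ∈ (pullback.fst f (g a)).base '' (U a : Set ↥(pullback f (g a)))) ∧
        ∀ a, IsClosedImmersion ((U a).ι ≫ pullback.snd f (g a))) → FormallyUnramified f) := by
  refine ⟨fun h => ?_, ?_⟩
  · choose Y' g U hg hx hc using exists_open f
    exact ⟨X, Y', g, U, hg, fun x => ⟨x, hx x⟩, hc⟩
  · rintro ⟨ι, Y', g, U, -, hx, hc⟩
    rw [UnramStalk.formallyUnramified_iff]
    intro x
    obtain ⟨a, z, hz, rfl⟩ := hx x
    haveI := hc a
    exact stalk_formallyUnramified_of_mono f (g a) (U a) z hz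

theorem etale_iff [LocallyOfFinitePresentation f] :
    (Etale f → ∃ (ι : Type u) (Y' : ι → Scheme.{u}) (g : ∀ a, Y' a ⟶ Y) (U : ∀ a, (pullback f (g a)).Opens),
      (∀ a, Etale (g a)) ∧ (∀ x : X, ∃ a, x ∈ (pullback.fst f (g a)).base '' (U a : Set ↥(pullback f (g a)))) ∧
        ∀ a, IsOpenImmersion ((U a).ι ≫ pullback.snd f (g a))) ∧
    ((∃ (ι : Type u) (Y' : ι → Scheme.{u}) (g : ∀ a, Y' a ⟶ Y) (U : ∀ a, (pullback f (g a)).Opens),
      (∀ a, Flat (g a)) ∧ (∀ x : X, ∃ a, x ∈ (pullback.fst f (g a)).base '' (U a : Set ↥(pullback f (g a)))) ∧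
        ∀ a, IsOpenImmersion ((U a).ι ≫ pullback.snd f (g a))) → Etale f) := by
  refine ⟨fun h => ?_, ?_⟩
  · choose Y' g U hg hx hc using exists_open f
    refine ⟨X, Y', g, U, hg, fun x => ⟨x, hx x⟩, fun a => ?_⟩
    haveI := hc a
    exact IsOpenImmersion.of_flat_of_mono _
  · rintro ⟨ι, Y', g, U, hgf, hx, hc⟩
    rw [UnramStalk.etale_iff, Flat.iff_flat_stalkMap, ← forall_and]
    intro x
    obtain ⟨a, z, hz, rfl⟩ := hx x
    haveI := hc a
    haveI := hgf a
    refine ⟨?_, stalk_formallyUnramified_of_mono f (g a) (U a) z hz⟩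
    have hsnd : ((pullback.snd f (g a)).stalkMap z).hom.Flat :=
      (FlatLocus.stalkMap_ι_comp_iff _ RingHom.Flat.respectsIso (U a) ⟨z, hz⟩).mp
        (Flat.stalkMap _ _)
    refine FlatLocus.flat_left_of_flat_comp (pullback.fst f (g a)) f z ?_ (Flat.stalkMap _ z)
    have h1 := FlatLocus.flat_comp_stalkMap (pullback.snd f (g a)) (g a) z (Flat.stalkMap _ _) hsnd
    exact flat_stalkMap_congr pullback.condition.symm z h1

end Groth.Agent.EtAlgEasy.UnramSplitSch
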