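import Groth.Agent.RelSpecLib.SymData
import Groth.Agent.RelSpecLib.Basic
import Groth.Agent.SpecQCAlg.Basic
import Groth.Agent.OmegaUnivLib.Compat
import Mathlib

/-!
The differentials of a vector bundle.
-/

set_option autoImplicit false
set_option backward.isDefEq.respectTransparency false
set_option backward.defeqAttrib.useBackward true
set_option linter.style.haveILetI false

universe u

open CategoryTheory CategoryTheory.Limits AlgebraicGeometry Opposite TopologicalSpace
open scoped TensorProduct
open Groth.Agent.OmegaUnivLib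

namespace Groth.Agent.EtAlgEasy.VBundleOmega

/-- The differentials of a symmetric algebra. -/
theorem bijective_liftBaseChange_D {R C M : Type u} [CommRing R] [CommRing C] [Algebra R C] [AddCommGroup M]
    [Module R M] (ε : M →ₗ[R] C) (hε : Function.Bijective (SymmetricAlgebra.lift ε)) :
    Function.Bijective (((KaehlerDifferential.D R C).toLinearMap ∘ₗ ε).liftBaseChange C) := by
  let N := C ⊗[R] M
  let e := AlgEquiv.ofBijective (SymmetricAlgebra.lift ε) hε
  let g : M →ₗ[R] TrivSqZeroExt C N :=
    { toFun := fun m => TrivSqZeroExt.inl (ε m) + TrivSqZeroExt.inr ((1 : C) ⊗ₜ[R] m)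
      map_add' := fun a b => by
        rw [map_add, TensorProduct.tmul_add, TrivSqZeroExt.inl_add, TrivSqZeroExt.inr_add]; abel
      map_smul' := fun r a => by
        rw [map_smul, TensorProduct.tmul_smul, TrivSqZeroExt.inl_smul, TrivSqZeroExt.inr_smul, RingHom.id_apply, smul_add] }
  let Ψ : C →ₐ[R] TrivSqZeroExt C N := (SymmetricAlgebra.lift g).comp e.symm.toAlgHom
  have hΨ : ∀ m, Ψ (ε m) = g m := fun m => by
    show SymmetricAlgebra.lift g (e.symm (ε m)) = _
    rw [show e.symm (ε m) = SymmetricAlgebra.ι R M m from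
      e.symm_apply_eq.2 (SymmetricAlgebra.lift_ι_apply ε m).symm]
    exact SymmetricAlgebra.lift_ι_apply g m
  have hfst : (TrivSqZeroExt.fstHom R C N).comp Ψ = AlgHom.id R C := by
    have h : ((TrivSqZeroExt.fstHom R C N).comp Ψ).comp e.toAlgHom = (AlgHom.id R C).comp e.toAlgHom := by
      refine SymmetricAlgebra.algHom_ext (LinearMap.ext fun m => ?_)
      show (Ψ (e (SymmetricAlgebra.ι R M m))).fst = e (SymmetricAlgebra.ι R M m)
      rw [show e (SymmetricAlgebra.ι R M m) = ε m from SymmetricAlgebra.lift_ι_apply ε m, hΨ]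
      show (TrivSqZeroExt.inl (ε m) + TrivSqZeroExt.inr _ : TrivSqZeroExt C N).fst = _
      rw [TrivSqZeroExt.fst_add, TrivSqZeroExt.fst_inl, TrivSqZeroExt.fst_inr, add_zero]
    refine AlgHom.ext fun c => ?_
    obtain ⟨s, rfl⟩ := e.surjective c
    exact AlgHom.congr_fun h s
  have hf : ∀ c, (Ψ c).fst = c := fun c => AlgHom.congr_fun hfst c
  let δ : Derivation R C N := Derivation.mk'
    { toFun := fun c => (Ψ c).snd
      map_add' := fun a b => by rw [map_add, TrivSqZeroExt.snd_add]
      map_smul' := fun r a => by rw [map_smul, TrivSqZeroExt.snd_smul, RingHom.id_apply] }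
    fun a b => by
      show (Ψ (a * b)).snd = a • (Ψ b).snd + b • (Ψ a).snd
      rw [map_mul, TrivSqZeroExt.snd_mul, hf, hf, op_smul_eq_smul]
  have hδ : ∀ m, δ (ε m) = (1 : C) ⊗ₜ[R] m := fun m => by
    show (Ψ (ε m)).snd = _
    rw [hΨ]
    show (TrivSqZeroExt.inl (ε m) + TrivSqZeroExt.inr _ : TrivSqZeroExt C N).snd = _
    rw [TrivSqZeroExt.snd_add, TrivSqZeroExt.snd_inl, TrivSqZeroExt.snd_inr, zero_add]
  let L := ((KaehlerDifferential.D R C).toLinearMap ∘ₗ ε).liftBaseChange C
  have h1 : ∀ t, δ.liftKaehlerDifferential (L t) = t := fun t => by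
    induction t using TensorProduct.induction_on with
    | zero => rw [map_zero, map_zero]
    | add a b ha hb => rw [map_add, map_add, ha, hb]
    | tmul c m =>
      rw [LinearMap.liftBaseChange_tmul, map_smul]
      show c • δ.liftKaehlerDifferential (KaehlerDifferential.D R C (ε m)) = _
      rw [Derivation.liftKaehlerDifferential_comp_D, hδ, TensorProduct.smul_tmul', smul_eq_mul, mul_one]
  have h2 : L.compDer δ = KaehlerDifferential.D R C := by
    refine Derivation.ext_of_adjoin_eq_top (Set.range ε) ?_ ?_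
    · refine eq_top_iff.2 fun c _ => ?_
      obtain ⟨s, rfl⟩ := hε.2 c
      induction s using SymmetricAlgebra.induction with
      | algebraMap r => rw [AlgHom.commutes]; exact Subalgebra.algebraMap_mem _ r
      | ι m => rw [SymmetricAlgebra.lift_ι_apply]; exact Algebra.subset_adjoin ⟨m, rfl⟩
      | mul a b ha hb => rw [map_mul]; exact mul_mem (ha trivial) (hb trivial)
      | add a b ha hb => rw [map_add]; exact add_mem (ha trivial) (hb trivial)
    · rintro _ ⟨m, rfl⟩
      show L (δ (ε m)) = _
      rw [hδ, LinearMap.liftBaseChange_tmul, one_smul]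
      rfl
  refine ⟨Function.LeftInverse.injective h1, fun w => ⟨δ.liftKaehlerDifferential w, ?_⟩⟩
  have h3 : L ∘ₗ δ.liftKaehlerDifferential = LinearMap.id := by
    refine Derivation.liftKaehlerDifferential_unique _ _ ?_
    refine Derivation.ext fun c => ?_
    show L (δ.liftKaehlerDifferential (KaehlerDifferential.D R C c)) = KaehlerDifferential.D R C c
    rw [Derivation.liftKaehlerDifferential_comp_D]
    exact Derivation.congr_fun h2 c
  exact LinearMap.congr_fun h3 w

theorem isIso_φ {S : Scheme.{u}} (E : S.Modules) [Coh.IsQCoh E]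
    (A : RelSpec.QCAlg S) (j : E ⟶ A.toModule) (hA : RelSpec.IsSymAlg E A j)
    (Ω' : A.spec.Modules) (d : OmegaSh.Der A.π Ω') (hd : OmegaSh.IsUniversal d)
    (φ : (Scheme.Modules.pullback A.π).obj E ⟶ Ω')
    (hφ : ∀ (U : S.Opens) (t : Γ(E, U)) (t' : Γ(A.spec, A.π ⁻¹ᵁ U)),
      A.gammaMap.app (op U) t' = j.app U t →
        φ.app (A.π ⁻¹ᵁ U) (OmegaSh.pullSect A.π E U t) = d.app (A.π ⁻¹ᵁ U) t') :
    IsIso φ := by
  haveI := isQCoh_of_universal hd
  haveI := PullbackMod.isQCoh_pullback A.π E
  refine isIso_of_bijective_cover φ fun x => ?_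
  obtain ⟨_, ⟨D, hD, rfl⟩, hxD, -⟩ :=
    S.isBasis_affineOpens.exists_subset_of_mem_open (Set.mem_univ (A.π x)) isOpen_univ
  let U := A.π ⁻¹ᵁ D
  have hU : IsAffineOpen U := RelSpecLib.isAffineOpen_preimage A D hD
  refine ⟨U, hU, hxD, ?_⟩
  let R := Γ(S, D)
  let C := Γ(A.spec, U)
  let M := Γ(E, D)
  haveI := SpecQCAlg.isIso_gammaMap A
  haveI : IsIso (A.gammaMap.app (op D)) := inferInstance
  let γ : C ⟶ A.presheaf.obj (op D) := A.gammaMap.app (op D)
  have hγ : Function.Bijective γ := ConcreteCategory.bijective_of_isIso γ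
  letI algRC : Algebra R C := (A.π.appLE D U le_rfl).hom.toAlgebra
  letI algRA : Algebra R (A.presheaf.obj (op D)) := (A.str.app (op D)).hom.toAlgebra
  have hγr : ∀ r : R, γ (algebraMap R C r) = algebraMap R (A.presheaf.obj (op D)) r := fun r => by
    show A.gammaMap.app (op D) (A.π.appLE D (A.π ⁻¹ᵁ D) le_rfl r) = A.str.app (op D) r
    rw [← Scheme.Hom.app_eq_appLE, A.gammaMap_app D hD]
    exact ConcreteCategory.congr_hom (A.π_app_gammaAff D hD) r
  let γe : C ≃ₐ[R] A.presheaf.obj (op D) :=
    AlgEquiv.ofBijective { toRingHom := γ.hom, commutes' := hγr } hγ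
  let se : SymmetricAlgebra R M →ₐ[R] A.presheaf.obj (op D) :=
    { toRingHom := RelSpecLib.symEval A j D
      commutes' := fun r => RelSpecLib.symEval_algebraMap A j D r }
  let ε : M →ₗ[R] C := (γe.symm.toAlgHom.comp se).toLinearMap ∘ₗ SymmetricAlgebra.ι R M
  have hlift : SymmetricAlgebra.lift ε = γe.symm.toAlgHom.comp se :=
    SymmetricAlgebra.algHom_ext (LinearMap.ext fun m => SymmetricAlgebra.lift_ι_apply ε m)
  have hbij := bijective_liftBaseChange_D ε (by
    rw [hlift]
    exact γe.symm.bijective.comp (RelSpecLib.bijective_symEval E hA hD))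
  obtain ⟨T, hT⟩ := exists_lin_of_der d (le_refl U)
  have hTb := bijective_of_universal hD hU le_rfl hd T hT
  letI : Module R Γ((Scheme.Modules.pullback A.π).obj E, U) := Module.compHom _ (A.π.appLE D U le_rfl).hom
  haveI : IsScalarTower R C Γ((Scheme.Modules.pullback A.π).obj E, U) := .of_algebraMap_smul fun _ _ => rfl
  let p : M →ₗ[R] Γ((Scheme.Modules.pullback A.π).obj E, U) := PullbackMod.pullMapL A.π E (W' := U) le_rfl
  have hbc : IsBaseChange C p := PullbackMod.isBaseChange_pullMapL A.π E hD hU le_rfl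
  let cL : Γ((Scheme.Modules.pullback A.π).obj E, U) →ₗ[C] Γ(Ω', U) :=
    { toFun := φ.app U
      map_add' := map_add _
      map_smul' := fun r m => Scheme.Modules.Hom.app_smul φ r m }
  have hgen : ∀ m, cL (p m) = T (KaehlerDifferential.D R C (ε m)) := fun m => by
    rw [hT]
    show φ.app U (((Scheme.Modules.pullback A.π).obj E).presheaf.map (homOfLE (le_refl U)).op
      (OmegaSh.pullSect A.π E D m)) = _
    rw [show ((Scheme.Modules.pullback A.π).obj E).presheaf.map (homOfLE (le_refl U)).op (OmegaSh.pullSect A.π E D m) =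
      OmegaSh.pullSect A.π E D m from congr($(((Scheme.Modules.pullback A.π).obj E).presheaf.map_id _) _)]
    refine hφ D m (ε m) ?_
    show γe (γe.symm (se (SymmetricAlgebra.ι R M m))) = j.app D m
    rw [AlgEquiv.apply_symm_apply]
    exact RelSpecLib.symEval_ι A j D m
  have key : ∀ t, cL (hbc.equiv t) = T (((KaehlerDifferential.D R C).toLinearMap ∘ₗ ε).liftBaseChange C t) := fun t => by
    induction t using TensorProduct.induction_on with
    | zero => simp only [map_zero]
    | add a b ha hb => simp only [map_add, ha, hb]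
    | tmul c m =>
      rw [hbc.equiv_tmul, map_smul, hgen, LinearMap.liftBaseChange_tmul, map_smul]
      rfl
  have e : (cL : _ → _) ∘ hbc.equiv = (T : _ → _) ∘ ((KaehlerDifferential.D R C).toLinearMap ∘ₗ ε).liftBaseChange C :=
    funext key
  exact (Function.Bijective.of_comp_iff _ hbc.equiv.bijective).1 (e ▸ hTb.comp hbij)

end Groth.Agent.EtAlgEasy.VBundleOmega
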