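import Groth.Agent.RelSpecLib.SymData
import Groth.Agent.RelSpecLib.Basic
import Groth.Agent.PullbackMod.LocFree
import Mathlib

/-!
The vector bundle of a finite locally free module is smooth.
-/

set_option autoImplicit false
set_option backward.isDefEq.respectTransparency false
set_option linter.style.haveILetI false

universe u

open CategoryTheory CategoryTheory.Limits AlgebraicGeometry Opposite TopologicalSpace
open Groth.Agent.PullbackMod Groth.Agent.CohBase Groth.Agent.QCohLib

namespace Groth.Agent.EtAlgEasy.VBundleSmooth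

theorem smooth_π {S : Scheme.{u}} (E : S.Modules) [Coh.IsQCoh E] (hlf : FlatMod.IsFinLocFree E)
    (A : RelSpec.QCAlg S) (j : E ⟶ A.toModule) (hA : RelSpec.IsSymAlg E A j) : Smooth A.π := by
  choose D hD n hx e using exists_tilde_iso E hlf
  have hrange : ∀ x : A.spec, ∃ s : S, x ∈ (A.ι (D s) (hD s)).opensRange := fun x =>
    ⟨A.π x, by rw [← A.π_preimage (D (A.π x)) (hD (A.π x))]; exact hx (A.π x)⟩
  choose c hc using hrange
  let 𝒰 : A.spec.OpenCover := Scheme.Cover.mkOfCovers S (fun s => Spec (A.presheaf.obj (op (D s))))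
    (fun s => A.ι (D s) (hD s)) (fun x => ⟨c x, hc x⟩) (fun _ => inferInstance)
  refine IsZariskiLocalAtSource.of_openCover (P := @Smooth) 𝒰 fun s => ?_
  show Smooth (A.ι (D s) (hD s) ≫ A.π)
  rw [A.ι_π (D s) (hD s)]
  haveI : Smooth (Spec.map (A.str.app (op (D s)))) := by
    rw [HasRingHomProperty.Spec_iff (P := @Smooth)]
    obtain ⟨e⟩ := e s
    let eΓ := (moduleSpecΓFunctor (R := Γ(S, D s))).mapIso e ≪≫
      ((tilde.toTildeΓNatIso (R := Γ(S, D s))).app _).symm
    let e' : Γ(E, D s) ≃ₗ[Γ(S, D s)] (ULift.{u} (Fin (n s)) →₀ Γ(S, D s)) :=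
      (topEquiv E (hD s)).symm.trans eΓ.toLinearEquiv
    let b : Module.Basis (ULift.{u} (Fin (n s))) Γ(S, D s) Γ(E, D s) := .ofRepr e'
    letI := (A.str.app (op (D s))).hom.toAlgebra
    let φ : SymmetricAlgebra Γ(S, D s) Γ(E, D s) →ₐ[Γ(S, D s)] A.presheaf.obj (op (D s)) :=
      { toRingHom := RelSpecLib.symEval A j (D s)
        commutes' := fun r => RelSpecLib.symEval_algebraMap A j (D s) r }
    let ψ := (SymmetricAlgebra.equivMvPolynomial b).symm.trans
      (AlgEquiv.ofBijective φ (RelSpecLib.bijective_symEval E hA (hD s)))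
    show RingHom.Smooth (algebraMap Γ(S, D s) (A.presheaf.obj (op (D s))))
    rw [RingHom.smooth_algebraMap]
    haveI : Algebra.Smooth Γ(S, D s) (MvPolynomial (ULift.{u} (Fin (n s))) Γ(S, D s)) := ⟨inferInstance, inferInstance⟩
    exact Algebra.Smooth.of_equiv ψ
  infer_instance

end Groth.Agent.EtAlgEasy.VBundleSmooth
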